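import Cfsg.Agent.Ud.B2
import Cfsg.Agent.Dbl.FD3

/-! Standard symplectic subgroups in characteristic two: the interfaces. -/

set_option autoImplicit false
set_option linter.unusedSectionVars false

namespace CF.Sq

open Subgroup Equiv CF.Loc CF.LX CF.Ud
open scoped commutatorElement

section ring
variable {A : Type} [CommRing A] {m : ℕ}

/-- coordinatewise action of a ring automorphism -/
def cw (θ : A ≃+* A) : Perm (Fin m → A) := Equiv.piCongrRight fun _ => θ.toEquiv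

theorem cw_ap (θ : A ≃+* A) (x : Fin m → A) (i : Fin m) : cw θ x i = θ (x i) := rfl
theorem cw_sem {σ θ : A ≃+* A} (h : ∀ c, θ (σ c) = σ (θ c)) : Sem σ θ (cw θ : Perm (Fin m → A)) :=
  ⟨fun x y => funext fun i => map_add θ _ _, fun c x => funext fun i => map_mul θ _ _,
    fun x y => by simp only [hf, cw_ap, map_sum, map_mul, h], h⟩
theorem cw_bv (θ : A ≃+* A) (j : ℕ) : cw θ (bv j : Fin m → A) = bv j := funext fun i => by
  simp only [cw_ap, bv]; split_ifs <;> simp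

variable [CharP A 2]

/-- the stabiliser of two vectors -/
def Yy (σ : A ≃+* A) (u v : Fin m → A) : Subgroup (Perm (Fin m → A)) := Y σ u ⊓ Y σ v

/-- root elements of the linear group over a split ring with idempotent `e` -/
noncomputable def xm (σ : A ≃+* A) (e : A) (i j : Fin m) (c : A) : Perm (Fin m → A) :=
  E σ ((c * e) • bv i.val) (σ e • bv j.rev.val) 0

end ring

variable {K : Type} [Field K] [CharP K 2] {m : ℕ}

/-- the symplectic case -/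
structure Sd (σ : K ≃+* K) (m : ℕ) : Prop where
  s1 : ∀ a, σ a = a
  ev : Even m
  hm : 6 ≤ m

/-- the symplectic case without `Sp₆(2)` -/
structure Sx (σ : K ≃+* K) (m : ℕ) : Prop extends Sd σ m where
  ex : ¬ (m = 6 ∧ Nat.card K = 2)

/-- independent orthogonal pairs -/
def Pr (σ : K ≃+* K) (u v : Fin m → K) : Prop := LinearIndependent K ![u, v] ∧ hf σ u v = 0

/-- the involution `ω ↦ ω + μ` of the doubled ring -/
def sg (k μ : K) (h : μ * μ = μ) : KK k ≃+* KK k := hat 1 μ (by simp [h, CharTwo.add_self_eq_zero])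

theorem sg_ap {k μ : K} (h : μ * μ = μ) (a b : K) : sg k μ h ⟨a, b⟩ = ⟨a + μ * b, b⟩ := rfl

variable {σ : K ≃+* K} {G X : Type*} [Group G] [Group X]

/-- Eichler transformations -/
noncomputable abbrev ev (ρ : SU σ m →* G) (v n : Fin m → K) (a : K) : G := up ρ (E σ v n a)

/-- `t` is the only nontrivial `2`-element of `C(t) ⊓ C(L)` -/
structure F0 (ρ : SU σ m →* G) (t : G) : Prop where
  t2 : t * t = 1
  t1 : t ≠ 1
  ker : Ker ρ
  cm : t ∈ 𝐂(ρ.range)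
  ct : 𝐂₁(t) ≤ 𝐍(ρ.range)
  r2 : R2 ρ t

/-- the clean situation -/
structure C0 (ρ : SU σ m →* X) (t : X) : Prop extends F0 ρ t where
  cen : ∀ h ∈ 𝐂₁(t) ⊓ 𝐂(ρ.range), h = 1 ∨ h = t

/-- the clean section of `G` -/
structure Cn (ρ : SU σ m →* G) (t : G) (N : Subgroup G) (π : N →* X) (ρ' : SU σ m →* X) (s : X) : Prop where
  ct : 𝐂₁(t) ≤ N
  sur : Function.Surjective π
  odd : Odd (Nat.card π.ker)
  ker : ∀ n : N, π n = 1 → (n : G) ∈ 𝐂₁(t) ⊓ 𝐂(ρ.range)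
  rr : ∀ g, up π (ρ g) = ρ' g
  tt : up π t = s
  cs : C0 ρ' s
  big : ∀ x : G, (∀ o ∈ 𝐂₁(t) ⊓ 𝐂(ρ.range), Odd (orderOf o) → x * o * x⁻¹ ∈ 𝐂₁(t) ⊓ 𝐂(ρ.range)) → x ∈ N

/-- `x` conjugates `t` to `t z` -/
structure Xz (ρ : SU σ m →* G) (t x : G) : Prop where
  tz : x * t * x⁻¹ = t * tv ρ (bv 0) 1
  cq : x ∈ 𝐂(im ρ (Q σ (bv 0)))
  cy : ∀ y ∈ im ρ (Y σ (bv 0)), ⁅x, y⁆ ∈ im ρ (Q σ (bv 0))

/-- `x` conjugates `t` to `t a` -/
structure Xb (ρ : SU σ m →* G) (t x : G) : Prop where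
  ta : x * t * x⁻¹ = t * ev ρ (bv 0) (bv 1) 0
  cy : x ∈ 𝐂(im ρ (Yy σ (bv 0) (bv 1)))

/-- no fusion with elements of `Q` of type `b₁`, `c₂` -/
def NB (ρ : SU σ m →* G) (t : G) : Prop :=
  ∀ n ζ, ζ ≠ 0 → hf σ n (bv 0) = 0 → ¬ IsConj t (t * ev ρ (bv 0) n ζ)

/-- doubled elements of type `a₂` -/
structure Bt (ρ : SU σ m →* X) (t : X) (b : (Fin m → K) → (Fin m → K) → X) (μ : K) : Prop extends C0 ρ t where
  eqv : ∀ g ∈ SU σ m, ∀ u v, hf σ u v = 0 → up ρ g * b u v * (up ρ g)⁻¹ = b (g u) (g v)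
  tw : ∀ u v, hf σ u v = 0 → b u v * t * (b u v)⁻¹ = t * ev ρ u v 0
  self : ∀ v (c : K), b v (c • v) = tv ρ v (μ * c)
  add : ∀ u v w, hf σ u v = 0 → hf σ u w = 0 → hf σ v w = 0 → b u (v + w) = b u v * b u w
  sym : ∀ u v, hf σ u v = 0 → b v u = b u v * ev ρ u (μ • v) 0
  adj : ∀ u v (c : K), hf σ u v = 0 → b (c • u) v = b u (c • v)

/-- the multiplication rule -/
structure Bd (ρ : SU σ m →* X) (t : X) (b : (Fin m → K) → (Fin m → K) → X) (w : (Fin m → K) → X) (k μ : K) : Prop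
    extends Bt ρ t b μ where
  mm : μ * μ = μ
  mul : ∀ v n n' (c : K), hf σ n v = 0 → hf σ n' v = 0 → c * c = hf σ n n' →
    b v n * b v n' = b v (n + n') * (w (c • v) * tv ρ v (k * (c * c)))
  we : ∀ g ∈ SU σ m, ∀ v, up ρ g * w v * (up ρ g)⁻¹ = w (g v)
  wt : ∀ v, w v * t * (w v)⁻¹ = t * tv ρ v (1 + μ)
  wp : ∀ u v, hf σ u v = 0 → w (u + v) * w u * w v = b u ((1 + μ) • v)
  wl : ∀ v (a c : K), w (a • v) * w (c • v) = w ((a + c) • v)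
  wb : ∀ u v n, hf σ u v = 0 → hf σ u n = 0 → hf σ n v = 0 → w u * b v n = b v n * w u
  w1 : μ = 1 → ∀ v, w v = 1

/-- the doubled group -/
def GB (ρ : SU σ m →* X) (b : (Fin m → K) → (Fin m → K) → X) : Subgroup X :=
  ρ.range ⊔ closure {x | ∃ v n, hf σ n v = 0 ∧ x = b v n}

variable {k μ : K}

/-- model element and group element -/
noncomputable def pb (k : K) (h : μ * μ = μ) (b : (Fin m → K) → (Fin m → K) → X) (v n : Fin m → K) :
    Perm (Fin m → KK k) × X := (E (sg k μ h) (mkv k v 0) (mkv k 0 n) 0, b v n)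

/-- the graph of the doubled group `Q v` -/
def JS (k : K) (h : μ * μ = μ) (ρ : SU σ m →* X) (b : (Fin m → K) → (Fin m → K) → X) (v : Fin m → K) :
    Subgroup (Perm (Fin m → KK k) × X) :=
  closure {p | (∃ g ∈ Q σ v, p = pr k ρ g) ∨ ∃ n, hf σ n v = 0 ∧ p = pb k h b v n}

section J
variable {A : Type} [CommRing A] [CharP A 2] {m' : ℕ}

/-- A family of graphs `J v` over the groups `Q (ι v)` of a model over the ring `A`. -/
structure Jr (σ' : A ≃+* A) (f : K →+* A) (ω : A) (ι : (Fin m → K) → Fin m' → A)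
    (ε : SU σ m →* Perm (Fin m' → A) × X) (J : (Fin m → K) → Subgroup (Perm (Fin m' → A) × X)) : Prop where
  iv : Iv σ'
  ia : ∀ x y, ι (x + y) = ι x + ι y
  is : ∀ c x, ι (c • x) = f c • ι x
  ih : ∀ x y, hf σ' (ι x) (ι y) = f (hf σ x y)
  oi : ∀ a c, f a + ω * f c = 0 → a = 0 ∧ c = 0
  sp : ∀ x, ∃ x₀ x₁ e, (∀ u, hf σ' e (ι u) = 0) ∧ x = ι x₀ + ω • ι x₁ + e
  trc : ∀ n : Fin m' → A, ∃ ζ, ζ + σ' ζ = hf σ' n n
  es : ∀ g, Sem σ' 1 (ε g).1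
  ei : ∀ g x, (ε g).1 (ι x) = ι (g.1 x)
  ee : ∀ g e, (∀ u, hf σ' e (ι u) = 0) → (ε g).1 e = e
  eq : ∀ v ≠ 0, ∀ g : SU σ m, g.1 ∈ Q σ v → ε g ∈ J v
  eJ : ∀ g v, cj[ε g] (J v) = J (g.1 v)
  fst : ∀ v ≠ 0, (J v).map (MonoidHom.fst _ _) = Q σ' (ι v)
  k1 : ∀ v ≠ 0, ∀ p ∈ J v, p.1 = 1 → p.2 = 1
  act : ∀ v ≠ 0, ∀ w ≠ 0, hf σ v w = 0 → ∀ p ∈ J w, p.1 (ι v) = ι v → p ∈ 𝐍(J v)
  cap : ∀ v ≠ 0, ∀ w ≠ 0, hf σ v w = 0 → ∀ p ∈ J w, p.1 ∈ Q σ' (ι v) → p ∈ J v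
  sc : ∀ c : K, c ≠ 0 → ∀ v, J (c • v) = J v

/-- the group generated by the second components -/
def GJ (J : (Fin m → K) → Subgroup (Perm (Fin m' → A) × X)) : Subgroup X :=
  closure {x | ∃ v ≠ 0, ∃ p ∈ J v, x = p.2}

/-- the family together with `t` acting as `θ` -/
structure Jt (ρ : SU σ m →* X) (t : X) (σ' θ : A ≃+* A) (f : K →+* A) (ω : A) (ι : (Fin m → K) → Fin m' → A)
    (ε : SU σ m →* Perm (Fin m' → A) × X) (J : (Fin m → K) → Subgroup (Perm (Fin m' → A) × X)) : Prop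
    extends Jr σ' f ω ι ε J where
  e2 : ∀ g, (ε g).2 = ρ g
  i0 : ι (bv 0) = bv 0
  com : ∀ c, θ (σ' c) = σ' (θ c)
  tJ : ∀ v ≠ 0, (cw θ, t) ∈ 𝐍(J v)
  nor : 𝐂₁(t) ≤ 𝐍(GJ J)
  ncl : GJ J ≤ normalClosure (ρ.range : Set X)

end J

/-- endgame data: symplectic and unitary overgroups -/
structure Eu {K' : Type} [Field K'] [CharP K' 2] {m' : ℕ} {σ' : K' ≃+* K'} (ρ : SU σ m →* G) (t : G) (θ : K' ≃+* K')
    (ρ' : SU σ' m' →* G) : Prop where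
  ker : Ker ρ'
  le : ρ.range ≤ ρ'.range
  nor : 𝐂₁(t) ≤ 𝐍(ρ'.range)
  ncl : ρ'.range ≤ normalClosure (ρ.range : Set G)
  act : Ind ρ' t (cw θ)
  zz : tv ρ' (bv 0) 1 = tv ρ (bv 0) 1

open CF.Dbl in
/-- endgame data: linear overgroups -/
structure Ev {m' : ℕ} (ρ : SU σ m →* G) (t : G) (φ : SL m' K →* G) : Prop where
  emb : Emb φ
  le : ρ.range ≤ φ.range
  nor : 𝐂₁(t) ≤ 𝐍(φ.range)
  ncl : φ.range ≤ normalClosure (ρ.range : Set G)
  tg : ∀ i j : Fin m', i ≠ j → ∀ c, t * φ (tau (F4.EE i j c)) * t⁻¹ = φ (tau (F4.EE j.rev i.rev c))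
  zz : φ (tau (n0 m' K)) = tv ρ (bv 0) 1

end CF.Sq
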