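import Cfsg.Agent.Sq.A
import Cfsg.Agent.Dq.B

/-! Standard symplectic subgroups in characteristic two: further definitions. -/

set_option autoImplicit false
set_option linter.unusedSectionVars false

namespace CF.Sq

open Subgroup Equiv CF.Loc CF.LX CF.Ud

variable {K : Type} [Field K] [CharP K 2] {m m' : ℕ} {σ : K ≃+* K} {X : Type*} [Group X] {A : Type} [CommRing A] [CharP A 2]

theorem Sd.one (d : Sd σ m) : σ = 1 := RingEquiv.ext d.s1
theorem Sd.sm (d : Sd σ m) : Dq.Sm K m := ⟨d.ev, by have := d.hm; omega, fun e => by have := d.hm; omega⟩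
theorem Sd.iv (d : Sd σ m) : Iv σ := fun a => by rw [d.s1, d.s1]

variable (σ) in
/-- the members of the family fixing `ι v` -/
def PJ (ι : (Fin m → K) → Fin m' → A) (J : (Fin m → K) → Subgroup (Perm (Fin m' → A) × X)) (v : Fin m → K) :
    Subgroup (Perm (Fin m' → A) × X) :=
  closure {p | ∃ w ≠ 0, hf σ v w = 0 ∧ p ∈ J w ∧ p.1 (ι v) = ι v}

variable (σ m) in
/-- the root group of type `a₂` in the centre of `UT` -/
abbrev X0 : Subgroup (Perm (Fin m → K)) := Q σ (bv 0) ⊓ Q σ (bv 1)

variable (σ m) in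
/-- its centraliser -/
abbrev H0 : Subgroup (Perm (Fin m → K)) := SU σ m ⊓ 𝐂(X0 m σ)

end CF.Sq
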