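import Cfsg.Agent.Sq.A2
import Cfsg.Agent.Dq.P1

/-! Symplectic geometry in characteristic two: Eichler transformations and centralisers. -/

set_option autoImplicit false
set_option linter.unusedSectionVars false
set_option linter.unusedVariables false

namespace CF.Sq

open Cfsg Subgroup Equiv CF.Loc CF.LX CF.Ud Module
open CF.Dq (hf_comm hf_sw hf_smr iv1 add_eq0)
open scoped commutatorElement

variable {K : Type} [Field K] [Fintype K] [CharP K 2] {m : ℕ} {σ θ : K ≃+* K} {a b c : K}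
  {g ξ w : Perm (Fin m → K)} {u v x y n u' v' n' : Fin m → K} {P H : Subgroup (Perm (Fin m → K))}
  {T : Submodule K (Fin m → K)}

theorem li_three (l : LinearIndependent K ![u, v]) (h : x ∉ Submodule.span K {u, v}) : LinearIndependent K ![x, u, v] :=
  linearIndependent_finCons.2 ⟨l, by rwa [Matrix.range_cons_cons_empty u v ![]]⟩
theorem Pr.u0 (p : Pr σ u v) : u ≠ 0 := p.1.ne_zero 0
theorem Pr.v0 (p : Pr σ u v) : v ≠ 0 := p.1.ne_zero 1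

namespace Sd
variable (d : Sd σ m)
include d

theorem iso (v : Fin m → K) : hf σ v v = 0 := by obtain rfl := d.one; exact d.sm.iso v
theorem comm (u v : Fin m → K) : hf σ u v = hf σ v u := by obtain rfl := d.one; exact hf_comm u v
theorem sw (e : hf σ u v = 0) : hf σ v u = 0 := hf_swap d.iv e
theorem smr (c : K) (u v : Fin m → K) : hf σ u (c • v) = c * hf σ u v := by rw [hf_smul_r, d.s1]
theorem ok (e : hf σ n v = 0) (a : K) : Ok σ v n a := by obtain rfl := d.one; exact d.sm.ok e a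
theorem _root_.CF.Sq.Pr.symm (p : Pr σ u v) : Pr σ v u := ⟨LinearIndependent.pair_symm_iff.1 p.1, d.sw p.2⟩
theorem perp_out {r : ℕ} (u : Fin r → Fin m → K) (T : Submodule K (Fin m → K)) (e : finrank K T + r < m) :
    ∃ w, w ∉ T ∧ ∀ i, hf σ (u i) w = 0 := by
  obtain rfl := d.one
  obtain ⟨w, a, b⟩ := exists_out (T := T) (T' := pp 1 (Submodule.span K (Set.range u))) (by
    have := d.sm.pp_dim (Submodule.span K (Set.range u)); have := span_dim u; omega)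
  exact ⟨w, b, fun i => hf_sw (a _ (Submodule.subset_span ⟨i, rfl⟩))⟩
theorem out2 (u v : Fin m → K) : ∃ w, w ∉ Submodule.span K {u, v} ∧ hf σ w u = 0 ∧ hf σ w v = 0 :=
  (d.perp_out ![u, v] _ (by have := pair_dim u v; have := d.hm; omega)).imp fun _ h => ⟨h.1, d.sw (h.2 0), d.sw (h.2 1)⟩
theorem E_SU (v n : Fin m → K) (a : K) : E σ v n a ∈ SU σ m := by obtain rfl := d.one; exact d.sm.E_SU _ _ _
theorem E_shift (e : hf σ n v = 0) (c a : K) : E σ v (n + c • v) a = E σ v n a := by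
  rw [← Ud.E_shift (d.ok e a) c, d.s1, add_assoc, CharTwo.add_self_eq_zero, add_zero]
theorem E_inj (v0 : v ≠ 0) (e : hf σ n v = 0) (e' : hf σ n' v = 0) :
    E σ v n a = E σ v n' b ↔ a = b ∧ ∃ c : K, n' = n + c • v := by
  refine ⟨fun h => ?_, fun ⟨h, c, k⟩ => by rw [h, k, d.E_shift e]⟩
  obtain rfl := d.one
  obtain ⟨c, k, l⟩ := d.sm.E_inj e e' v0 h
  exact ⟨l.symm, c, k⟩
theorem E_mul (e : hf σ n v = 0) (e' : hf σ n' v = 0) (a b : K) : E σ v n a * E σ v n' b = E σ v (n + n') (a + b + hf σ n' n) :=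
  Ud.E_mul (d.ok e a) (d.ok e' b)
theorem E_sm (e : hf σ n v = 0) (c a : K) : E σ (c • v) n a = E σ v (c • n) (c * c * a) := by
  rw [E_smul (d.ok (by rw [d.smr, e, mul_zero]) a) (d.iso v) e, d.s1]
theorem E_swap (e : hf σ u v = 0) : E σ u v 0 = E σ v u 0 := Ud.E_swap d.iv (d.iso u) (d.iso v) e
theorem E_sw (e : hf σ u v = 0) (c : K) : E σ u (c • v) 0 = E σ v (c • u) 0 := by
  rw [d.E_swap (by rw [d.smr, e, mul_zero]), d.E_sm e, mul_zero]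
theorem E_sq (v n : Fin m → K) (a : K) : E σ v n a * E σ v n a = 1 := by obtain rfl := d.one; exact d.sm.E_sq ..
theorem E_inv (v n : Fin m → K) (a : K) : (E σ v n a)⁻¹ = E σ v n a := inv_eq_of_mul_eq_one_right (d.E_sq ..)
theorem mem_Q : g ∈ Q σ v ↔ ∃ n a, hf σ n v = 0 ∧ g = E σ v n a :=
  (Ud.mem_Q d.iv (d.iso v)).trans ⟨fun ⟨n, a, o, e⟩ => ⟨n, a, o.nv, e⟩, fun ⟨n, a, o, e⟩ => ⟨n, a, d.ok o a, e⟩⟩
theorem Q_le_of (l : ∀ n a, hf σ n v = 0 → E σ v n a ∈ H) : Q σ v ≤ H := fun _ i =>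
  let ⟨n, a, o, e⟩ := d.mem_Q.1 i; e ▸ l n a o
theorem Q_SU : Q σ v ≤ SU σ m := d.Q_le_of fun _ _ _ => d.E_SU _ _ _
theorem Q_Y : Q σ v ≤ Y σ v := d.Q_le_of fun _ _ _ => ⟨d.E_SU _ _ _, E_self _ _ _⟩
theorem Q_sq (i : g ∈ Q σ v) : g * g = 1 := let ⟨_, _, _, e⟩ := d.mem_Q.1 i; e ▸ d.E_sq ..
theorem Q_comm (i : g ∈ Q σ v) (j : w ∈ Q σ v) : g * w = w * g := by
  obtain ⟨n, a, o, rfl⟩ := d.mem_Q.1 i
  obtain ⟨n', b, o', rfl⟩ := d.mem_Q.1 j
  rw [d.E_mul o o', d.E_mul o' o, add_comm n, add_comm a, d.comm n]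
theorem Q_sm (c : K) : Q σ (c • v) ≤ Q σ v := d.Q_le_of fun n a o => by
  by_cases c0 : c = 0
  · rw [c0, zero_smul, show E σ 0 n a = 1 from Equiv.ext fun x => by simp [E_ap (d.ok (hf_zero_r n) a)]]; exact one_mem _
  · rw [d.E_sm (by simpa [d.s1, c0] using o)]; exact E_Q _ _ _
theorem wit1 (u0 : u ≠ 0) (v0 : v ≠ 0) : ∃ g ∈ SU σ m, g u = v := by obtain rfl := d.one; exact d.sm.witt1 u0 v0
theorem wit2 (l : LinearIndependent K ![u, v]) (l' : LinearIndependent K ![u', v']) (e : hf σ u v = hf σ u' v') :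
    ∃ g ∈ SU σ m, g u = u' ∧ g v = v' := by obtain rfl := d.one; exact d.sm.wittP l l' e
theorem wpr (p : Pr σ u v) (p' : Pr σ u' v') : ∃ g ∈ SU σ m, g u = u' ∧ g v = v' := d.wit2 p.1 p'.1 (p.2.trans p'.2.symm)
theorem wit3 (l : LinearIndependent K ![x, u, v]) (l' : LinearIndependent K ![y, u', v']) (e : hf σ u v = hf σ u' v')
    (e₁ : hf σ x u = hf σ y u') (e₂ : hf σ x v = hf σ y v') : ∃ g ∈ SU σ m, g x = y ∧ g u = u' ∧ g v = v' := by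
  obtain rfl := d.one
  obtain ⟨g, a, b⟩ := d.sm.witt0 l l' (by
    simp [Fin.forall_fin_succ, d.iso, hf_comm u x, hf_comm v x, hf_comm v u, hf_comm u' y, hf_comm v' y, hf_comm v' u', *])
  exact ⟨g, a, b 0, b 1, b 2⟩
theorem pr01 : Pr σ (bv 0 : Fin m → K) (bv 1) := by obtain rfl := d.one; exact ⟨d.sm.li01, d.sm.b01⟩
theorem dual2 (l : LinearIndependent K ![u, v]) (a b : K) : ∃ n, hf σ n u = a ∧ hf σ n v = b := by
  obtain rfl := d.one; exact d.sm.dual2 l a b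
theorem partner (v0 : v ≠ 0) : ∃ y, hf σ y v = 1 := by obtain rfl := d.one; exact d.sm.partner v0
theorem part (h : x ∉ T) : ∃ y, hf σ y x = 1 ∧ ∀ z ∈ T, hf σ y z = 0 := by obtain rfl := d.one; exact d.sm.part h
theorem part2 (h : x ∉ Submodule.span K {u, v}) : ∃ y, hf σ y x = 1 ∧ hf σ y u = 0 ∧ hf σ y v = 0 :=
  (d.part h).imp fun _ k => ⟨k.1, k.2 _ (Submodule.subset_span (by simp)), k.2 _ (Submodule.subset_span (by simp))⟩
theorem mem_QQ (p : Pr σ u v) : g ∈ Q σ u ⊓ Q σ v ↔ ∃ c : K, g = E σ u (c • v) 0 := by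
  refine ⟨fun ⟨i, j⟩ => ?_, fun ⟨c, e⟩ => ⟨e ▸ E_Q _ _ _, by rw [e, d.E_sw p.2]; exact E_Q _ _ _⟩⟩
  obtain ⟨n, a, o, rfl⟩ := d.mem_Q.1 i
  obtain ⟨n', b, o', e⟩ := d.mem_Q.1 j
  obtain ⟨y, h1, h2⟩ := d.dual2 p.1 1 0
  have f := congrArg (· y) e
  simp only [E_ap (d.ok o _), E_ap (d.ok o' _), h1, h2, one_smul, mul_one, zero_smul, mul_zero, add_zero] at f
  have f' : n = hf σ y n' • v + (hf σ y n + a) • u := by linear_combination (norm := module) f - vv ((hf σ y n + a) • u)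
  have k := congrArg (hf σ y) f'
  rw [hf_add_r, d.smr, d.smr, h1, h2] at k
  exact ⟨_, by rw [show a = 0 by grind, f', d.E_shift (by rw [hf_smul_l, d.sw p.2, mul_zero])]⟩
theorem ntv (p : Pr σ u v) : E σ u v a ≠ E σ x 0 b := fun e => by
  obtain ⟨y, h1, h2⟩ := d.dual2 p.1 0 1
  obtain ⟨z, h3, h4⟩ := d.dual2 p.1 1 0
  have f := congrArg (· y) e
  have f' := congrArg (· z) e
  simp only [E_ap (d.ok (d.sw p.2) _), E_ap (d.ok (hf_zero_l x) _), h1, h2, h3, h4, one_smul, mul_one, zero_smul, mul_zero, add_zero,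
    zero_add, hf_zero_r, smul_zero, add_assoc, add_right_inj] at f f'
  have := LinearIndependent.pair_iff.1 p.1 (b * hf σ y x * a - b * hf σ z x) (b * hf σ y x) (by
    linear_combination (norm := module) (b * hf σ y x) • f' - (b * hf σ z x) • f)
  exact p.u0 (by rw [f, this.2, zero_smul])
theorem E_diag (e : hf σ n v = 0) (a : K) (x : Fin m → K) : hf σ (E σ v n a x) x = a * (hf σ x v * hf σ x v) := by
  rw [E_ap (d.ok e a)]; simp only [hf_add_l, hf_smul_l, d.iso, d.comm n, d.comm v]; grind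
theorem nab (p : Pr σ u v) (e : hf σ u' v' = 0) (a0 : a ≠ 0) : E σ u v a ≠ E σ u' v' 0 := fun h => by
  obtain ⟨y, k⟩ := d.partner p.u0
  have := d.E_diag (d.sw p.2) a y
  rw [h, d.E_diag (d.sw e), k] at this
  exact a0 (by simpa using this.symm)
theorem cQ (v0 : v ≠ 0) (i : Sem σ 1 g) (e : g v = v) (f : ∀ n, hf σ n v = 0 → ∃ c : K, g n = n + c • v) : g ∈ Q σ v := by
  obtain ⟨y, j⟩ := d.partner v0
  have j' : hf σ (g y) v = 1 := by rw [← e, i.form1, j]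
  have o : hf σ (g y + y) v = 0 := by rw [hf_add_l, j, j', CharTwo.add_self_eq_zero]
  have k : ∀ x, hf σ x v = 0 → g x = x + hf σ x (g y + y) • v := fun x h => by
    obtain ⟨c, s⟩ := f x h
    have := i.form1 x y
    rw [s, hf_add_l, hf_smul_l, d.comm v, j'] at this
    rw [s, hf_add_r]; congr 2; grind
  rw [show g = E σ v (g y + y) (hf σ y (g y)) from Equiv.ext fun x => ?_]
  · exact E_Q _ _ _
  have h := k (x + hf σ x v • y) (by rw [hf_add_l, hf_smul_l, j, mul_one, CharTwo.add_self_eq_zero])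
  rw [i.add, i.smul1, hf_add_l, hf_smul_l, hf_add_r _ _ y, d.iso, add_zero] at h
  rw [E_ap (d.ok o _)]
  linear_combination (norm := module) h - vv (hf σ x v • g y)
theorem tv_fix (i : Sem σ θ ξ) (e : ξ * E σ v 0 1 = E σ v 0 1 * ξ) : ξ v = v := by
  obtain rfl := d.one
  have := conj_eq_iff.2 e
  rw [tv_cj i, map_one] at this
  exact d.sm.tv_inj1 this
theorem th_fix (i : Sem σ θ ξ) (v0 : v ≠ 0) (e : ∀ c : K, ξ (c • v) = c • v) : θ = 1 := RingEquiv.ext fun c =>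
  smul_left_injective K v0 (by
    have h := e c; have := e 1
    rw [one_smul] at this
    rwa [i.smul, this] at h)
theorem tv_sm (c : K) (v : Fin m → K) (a : K) : E σ (c • v) 0 a = E σ v 0 (c * c * a) := by rw [d.E_sm (hf_zero_l v), smul_zero]
theorem cQ0 (v0 : v ≠ 0) (i : ξ ∈ Gam σ m) (e : ξ ∈ 𝐂(Q σ v)) : ξ ∈ Q σ v := by
  obtain ⟨θ, i⟩ := i
  have k : ∀ c : K, ξ (c • v) = c • v := fun c => d.tv_fix i (mem_centralizer_iff'.1 e _ (d.Q_sm c (E_Q _ _ _))).symm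
  obtain rfl := d.th_fix i v0 k
  have k1 : ξ v = v := by simpa using k 1
  refine d.cQ v0 i k1 fun n o => ?_
  have := conj_eq_iff.2 (mem_centralizer_iff'.1 e _ (E_Q v n 0)).symm
  rw [E_cj1 i, k1] at this
  exact ((d.E_inj v0 o (by rw [← k1, i.form1, o])).1 this.symm).2
theorem cX (l : Ti σ T) (r : 2 ≤ finrank K T) (i : ξ ∈ Gam σ m)
    (e : ∀ v ∈ T, ∀ n a, (∀ x ∈ T, hf σ x n = 0) → ξ * E σ v n a = E σ v n a * ξ) : ξ ∈ WX σ T := by
  obtain ⟨θ, i⟩ := i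
  have k : ∀ v ∈ T, ξ v = v := fun v j => d.tv_fix i (e v j 0 1 (by simp))
  obtain ⟨u, hu, v, hv, li⟩ := exists_li r
  obtain rfl := d.th_fix i (li.ne_zero 0) fun c => k _ (T.smul_mem c hu)
  have f : ∀ v ∈ T, v ≠ 0 → ∀ n, (∀ x ∈ T, hf σ n x = 0) → ∃ c : K, ξ n = n + c • v := fun v j v0 n o => by
    have := conj_eq_iff.2 (e v j n 0 fun x h => d.sw (o x h))
    rw [E_cj1 i, k v j] at this
    exact ((d.E_inj v0 (o v j) (by rw [← k v j, i.form1, o v j])).1 this.symm).2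
  obtain rfl := d.one
  refine d.sm.mem_W i fun n o => ?_
  obtain ⟨a, h⟩ := f u hu (li.ne_zero 0) n o
  obtain ⟨b, h'⟩ := f v hv (li.ne_zero 1) n o
  rw [h, (li_eq li (a := a) (b := 0) (a' := 0) (b' := b) (by simpa [h] using h')).1, zero_smul, add_zero]
theorem cW (i : ξ ∈ Gam σ m) (e : ξ ∈ 𝐂(WW σ m)) : ξ ∈ WW σ m := by
  obtain rfl := d.one
  exact d.sm.cW i fun v j => (mem_centralizer_iff'.1 e _ (E_W j (zero_mem _) 1)).symm
theorem E6 (e₁ : hf σ u v = 0) (e₂ : hf σ u x = 0) (e₃ : hf σ v x = 0) (a₁ a₂ a₃ b₁ b₂ b₃ : K) (y : Fin m → K) :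
    (E σ u 0 a₁ * E σ v 0 a₂ * E σ x 0 a₃ * E σ u (b₁ • v) 0 * E σ u (b₂ • x) 0 * E σ v (b₃ • x) 0) y =
      y + (a₁ * hf σ y u + b₁ * hf σ y v + b₂ * hf σ y x) • u + (b₁ * hf σ y u + a₂ * hf σ y v + b₃ * hf σ y x) • v +
        (b₂ * hf σ y u + b₃ * hf σ y v + a₃ * hf σ y x) • x := by
  have f₁ := d.sw e₁; have f₂ := d.sw e₂; have f₃ := d.sw e₃
  simp only [Perm.mul_apply, E_ap (d.ok (hf_zero_l _) _), E_ap (d.ok (n := b₁ • v) (v := u) (by simp [f₁]) 0),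
    E_ap (d.ok (n := b₂ • x) (v := u) (by simp [f₂]) 0), E_ap (d.ok (n := b₃ • x) (v := v) (by simp [f₃]) 0),
    hf_add_l, hf_smul_l, d.smr, hf_zero_r, hf_zero_l, d.iso, e₁, e₂, e₃, f₁, f₂, f₃]
  module
theorem W3 (e₁ : hf σ u v = 0) (e₂ : hf σ u x = 0) (e₃ : hf σ v x = 0) (i : w ∈ WX σ (Submodule.span K {u, v, x})) :
    ∃ a₁ a₂ a₃ b₁ b₂ b₃ : K, w = E σ u 0 a₁ * E σ v 0 a₂ * E σ x 0 a₃ * E σ u (b₁ • v) 0 * E σ u (b₂ • x) 0 * E σ v (b₃ • x) 0 := by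
  have f₁ := d.sw e₁; have f₂ := d.sw e₂; have f₃ := d.sw e₃
  let e : K → K → K → K → K → K → Perm (Fin m → K) := fun a₁ a₂ a₃ b₁ b₂ b₃ =>
    E σ u 0 a₁ * E σ v 0 a₂ * E σ x 0 a₃ * E σ u (b₁ • v) 0 * E σ u (b₂ • x) 0 * E σ v (b₃ • x) 0
  have mul : ∀ a₁ a₂ a₃ b₁ b₂ b₃ a₁' a₂' a₃' b₁' b₂' b₃', e a₁ a₂ a₃ b₁ b₂ b₃ * e a₁' a₂' a₃' b₁' b₂' b₃' =
      e (a₁ + a₁') (a₂ + a₂') (a₃ + a₃') (b₁ + b₁') (b₂ + b₂') (b₃ + b₃') := fun _ _ _ _ _ _ _ _ _ _ _ _ => Equiv.ext fun y => by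
    rw [Perm.mul_apply, d.E6 e₁ e₂ e₃, d.E6 e₁ e₂ e₃, d.E6 e₁ e₂ e₃]
    simp only [hf_add_l, hf_smul_l, d.iso, e₁, e₂, e₃, f₁, f₂, f₃]; module
  let R : Subgroup (Perm (Fin m → K)) :=
    { carrier := {w | ∃ a₁ a₂ a₃ b₁ b₂ b₃, w = e a₁ a₂ a₃ b₁ b₂ b₃}
      mul_mem' := by rintro _ _ ⟨_, _, _, _, _, _, rfl⟩ ⟨_, _, _, _, _, _, rfl⟩; exact ⟨_, _, _, _, _, _, mul ..⟩
      one_mem' := ⟨0, 0, 0, 0, 0, 0, by simp [e]⟩
      inv_mem' := by
        rintro _ ⟨a₁, a₂, a₃, b₁, b₂, b₃, rfl⟩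
        exact ⟨a₁, a₂, a₃, b₁, b₂, b₃, inv_eq_of_mul_eq_one_right (by simp only [mul, CharTwo.add_self_eq_zero]; simp [e])⟩ }
  have k : ∀ y ∈ Submodule.span K {u, v, x}, E σ y 0 1 ∈ R := fun y j => by
    obtain ⟨a, b, c, rfl⟩ := Submodule.mem_span_triple.1 j
    exact ⟨a * a, b * b, c * c, a * b, a * c, b * c, Equiv.ext fun y => by
      rw [d.E6 e₁ e₂ e₃, E_ap (d.ok (hf_zero_l _) _)]; simp only [hf_add_r, d.smr, hf_zero_r]; module⟩
  obtain rfl := d.one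
  exact d.sm.WX_gen k i
theorem w3inj (l : LinearIndependent K ![u, v, x]) (e₁ : hf σ u v = 0) (e₂ : hf σ u x = 0) (e₃ : hf σ v x = 0) {a₁ a₂ a₃ b₁ b₂ b₃ : K}
    (e : E σ u 0 a₁ * E σ v 0 a₂ * E σ x 0 a₃ * E σ u (b₁ • v) 0 * E σ u (b₂ • x) 0 * E σ v (b₃ • x) 0 = 1) :
    a₁ = 0 ∧ a₂ = 0 ∧ a₃ = 0 ∧ b₁ = 0 ∧ b₂ = 0 ∧ b₃ = 0 := by
  have k : ∀ p q r : K, a₁ * p + b₁ * q + b₂ * r = 0 ∧ b₁ * p + a₂ * q + b₃ * r = 0 ∧ b₂ * p + b₃ * q + a₃ * r = 0 := fun p q r => by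
    obtain ⟨y, h⟩ : ∃ y, ∀ i, hf σ (![u, v, x] i) y = ![p, q, r] i := by obtain rfl := d.one; exact d.sm.dual l _
    have f := d.E6 e₁ e₂ e₃ a₁ a₂ a₃ b₁ b₂ b₃ y
    rw [e, d.comm y u, d.comm y v, d.comm y x, show hf σ u y = p from h 0, show hf σ v y = q from h 1, show hf σ x y = r from h 2] at f
    have := Fintype.linearIndependent_iff.1 l ![a₁ * p + b₁ * q + b₂ * r, b₁ * p + a₂ * q + b₃ * r, b₂ * p + b₃ * q + a₃ * r] (by
      simpa [Fin.sum_univ_three, add_assoc] using f)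
    exact ⟨this 0, this 1, this 2⟩
  have k1 := k 1 0 0; have k2 := k 0 1 0; have k3 := k 0 0 1
  simp only [mul_one, mul_zero, add_zero, zero_add] at k1 k2 k3
  exact ⟨k1.1, k2.2.1, k3.2.2, k1.2.1, k1.2.2, k2.2.2⟩
end Sd

end CF.Sq
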