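import Cfsg.Agent.Sq.B1
import Cfsg.Agent.Classical.Transport2

/-! The bridge to the library, and the frame attached to a standard symplectic subgroup. -/

set_option autoImplicit false
set_option linter.unusedSectionVars false
set_option linter.unusedVariables false

namespace CF.Sq

open Cfsg Subgroup Equiv CF.Loc CF.LX CF.Ud Module
open scoped commutatorElement

variable {K : Type} [Field K] [Fintype K] [CharP K 2] {m j : ℕ} {σ θ θ' : K ≃+* K}
  {g ξ ξ' w : Perm (Fin m → K)} {H : Subgroup (Perm (Fin m → K))}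
  {G X : Type*} [Group G] [Finite G] [Group X] [Finite X] {ρ ρ₁ ρ₂ : SU σ m →* G} {ρ' : SU σ m →* X} {t h : G}

namespace Sd
variable (d : Sd σ m)
include d
theorem su_iff : g ∈ SU σ m ↔ Sem σ 1 g := by obtain rfl := d.one; exact ⟨su_sem, d.sm.mem_SU⟩
theorem su_perf : SU σ m ≤ ⁅SU σ m, SU σ m⁆ := by obtain rfl := d.one; exact B4.su_perf d.sm
theorem perf : _root_.commutator (SU σ m) = ⊤ := by obtain rfl := d.one; exact B4.perf d.sm
theorem simple : IsSimpleGroup (SU σ m) := by obtain rfl := d.one; exact B4.simple d.sm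
theorem qs : IsQuasisimple (SU σ m) := by obtain rfl := d.one; exact B4.qs d.sm
theorem center_eq : center (SU σ m) = ⊥ := by obtain rfl := d.one; exact B4.center_eq d.sm
theorem cen (l : ξ ∈ Gam σ m) (e : ξ ∈ 𝐂(SU σ m)) : ξ = 1 := by obtain rfl := d.one; exact B4.cen d.sm l e
theorem su_simple (l : H ≤ SU σ m) (n : SU σ m ≤ 𝐍(H)) : H = ⊥ ∨ H = SU σ m := by obtain rfl := d.one; exact B4.su_simple d.sm l n
theorem aut (f : MulAut (SU σ m)) : ∃ ξ ∈ Gam σ m, ∀ g, (f g : Perm (Fin m → K)) = ξ * g * ξ⁻¹ := by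
  obtain rfl := d.one; exact B4.aut d.sm d.hm f
theorem typ (e : Sem σ θ ξ) (e' : Sem σ θ' ξ) : θ = θ' := by obtain rfl := d.one; exact d.sm.sem_uq e e'
theorem inj (k : Ker ρ) : Function.Injective ρ := by obtain rfl := d.one; exact B4.inj d.sm k
theorem up_inj (k : Ker ρ) (i : g ∈ SU σ m) (i' : w ∈ SU σ m) (e : up ρ g = up ρ w) : g = w := by
  obtain rfl := d.one; exact B4.up_inj d.sm k i i' e
theorem i_cm (k : Ker ρ) (l : Sem σ θ ξ) (i : Ind ρ h ξ) (a : g ∈ SU σ m) (e : h * up ρ g = up ρ g * h) : ξ * g = g * ξ := by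
  obtain rfl := d.one; exact B4.i_cm d.sm k l i a e
theorem ind_cen (k : Ker ρ) (l : ξ ∈ Gam σ m) (i : Ind ρ h ξ) : h ∈ 𝐂(ρ.range) ↔ ξ = 1 := by
  obtain rfl := d.one; exact B4.ind_cen d.sm k l i
theorem ind_uq (k : Ker ρ) (l : ξ ∈ Gam σ m) (l' : ξ' ∈ Gam σ m) (i : Ind ρ h ξ) (i' : Ind ρ h ξ') : ξ = ξ' := by
  obtain rfl := d.one; exact B4.ind_uq d.sm k l l' i i'
theorem ind2 (k₁ : Ker ρ₁) (k₂ : Ker ρ₂) (e : ρ₁.range = ρ₂.range) :
    ∃ ξ ∈ Gam σ m, ∀ g ∈ SU σ m, up ρ₂ g = up ρ₁ (ξ * g * ξ⁻¹) := by obtain rfl := d.one; exact B4.ind2 d.sm d.hm k₁ k₂ e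
theorem ind_of (k : Ker ρ) (n : h ∈ 𝐍(ρ.range)) : ∃ ξ ∈ Gam σ m, Ind ρ h ξ := by obtain rfl := d.one; exact B4.ind_of d.sm d.hm k n
theorem lift {f : G →* X} (o : Odd (Nat.card f.ker) ∨ ¬ (m = 6 ∧ Nat.card K = 2)) (c : f.ker ≤ center G)
    (l : ρ'.range ≤ f.range) : ∃ ρ : SU σ m →* G, f.comp ρ = ρ' := by obtain rfl := d.one; exact B4.lift d.sm o c l
theorem isoS (e : m = 2 * j) (k : Ker ρ) : Nonempty (ρ.range ≃* PSp j K) := by obtain rfl := d.one; exact B4.isoS d.sm e k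
theorem psi (k : Ker ρ) : ∃ (ψ : 𝐍(ρ.range) →* Perm (Fin m → K)) (Θ : 𝐍(ρ.range) →* (K ≃+* K)),
    (∀ h, Sem σ (Θ h) (ψ h) ∧ Ind ρ h (ψ h)) ∧ (∀ h, ψ h = 1 ↔ h.1 ∈ 𝐂(ρ.range)) ∧ ∀ g ∈ SU σ m, up ψ (up ρ g) = g := by
  choose ξ s i using fun h : 𝐍(ρ.range) => d.ind_of k h.2
  have e : ∀ a b, ξ (a * b) = ξ a * ξ b := fun a b =>
    d.ind_uq k (s _) (mul_mem (s a) (s b)) (i _) ((i a).mul (s b).choose_spec (i b))
  have s' := s
  choose θ s using s
  exact ⟨MonoidHom.mk' ξ e, MonoidHom.mk' θ fun a b => d.typ (s _) (e a b ▸ (s a).mul (s b)), fun h => ⟨s h, i h⟩,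
    fun h => (d.ind_cen k (s' h) (i h)).symm, fun g l => (up_eq (le_normalizer (up_range g))).trans
      (d.ind_uq k (s' _) (GU_le (SU_le l)) (i _) (ind_up l))⟩
end Sd

theorem tb {ρ : SU (1 : K ≃+* K) m →* G} (d : Sd (1 : K ≃+* K) m) (f : Fr ρ t) (r : R2 ρ t) : Dq.TB ρ t :=
  ⟨d.sm, f, r, fun h i => d.ind_of f.ker (f.ti h (by rw [mem_c1.1 i, mul_inv_cancel_right]; exact f.cm))⟩

/-- the frame, for `m = 4` too -/
theorem B4.exists_fr {G : Type*} [Group G] [Finite G]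
    (hF : IsSimpleGroup ↥(generalizedFittingSubgroup G)) (hF' : ¬ IsMulCommutative ↥(generalizedFittingSubgroup G))
    (L : Subgroup G) (hL : IsStandardSubgroup L)
    (hR : ∀ R : Sylow 2 ↥(centralizer (L : Set G)), IsCyclic ↥(R : Subgroup ↥(centralizer (L : Set G))))
    (j n : ℕ) (hj : 2 ≤ j) (hn : 1 ≤ n) (hx : j = 2 → 2 ≤ n) {F : Type*} [Field F] [Fintype F]
    (hFq : Fintype.card F = 2 ^ n) (hLX : Nonempty ((↥L ⧸ oddCore ↥L) ≃* PSp j F)) :
    ∃ (K : Type) (_ : Field K) (_ : Fintype K) (_ : CharP K 2) (ρ : SU (1 : K ≃+* K) (2 * j) →* G) (t : G),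
      Nonempty (K ≃+* F) ∧ Dq.Sm K (2 * j) ∧ Fr ρ t ∧ Top ρ (generalizedFittingSubgroup G) := by
  obtain ⟨K, _, _, ⟨φ⟩⟩ := CF.Classical.pn_exists_small_field F
  have hK : Fintype.card K = 2 ^ n := (Fintype.card_congr φ.toEquiv).symm.trans hFq
  have : CharP K 2 := charP_of_card_eq_prime_pow (p := 2) hK
  have d : Dq.Sm K (2 * j) := ⟨even_two_mul j, by omega, fun h => by
    rw [Nat.card_eq_fintype_card, hK]; exact Nat.pow_lt_pow_right (m := 1) one_lt_two (hx (by omega))⟩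
  obtain ⟨-, -, -, -, f, -⟩ := B4.psp d rfl
  obtain ⟨e⟩ := hLX
  let c := (e.trans (CF.Classical.pspCongr j φ)).trans f.symm
  let π := c.toMonoidHom.comp (QuotientGroup.mk' (oddCore L))
  have s : Function.Surjective π := c.surjective.comp (QuotientGroup.mk'_surjective _)
  have z : π.ker ≤ center L := (Sig.qs_normal hL.1 _ inferInstance).resolve_left fun k => by
    have := (B4.simple d).toNontrivial
    obtain ⟨x, x1⟩ := exists_ne (1 : SU (1 : K ≃+* K) (2 * j))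
    obtain ⟨x, rfl⟩ := s x
    exact x1 (k.ge (mem_top x))
  obtain ⟨η, k⟩ := B4.lift d (f := π) (ρ' := MonoidHom.id _) (.inl (Odd.of_dvd_nat Bender.oddCore_odd (card_dvd_of_le fun x i =>
    (QuotientGroup.eq_one_iff x).1 (c.map_eq_one_iff.1 i)))) z (MonoidHom.range_eq_top.2 s ▸ le_top)
  have r : η.range = ⊤ := by
    rw [MonoidHom.range_eq_map, ← B4.perf d, Schur.map_commutator_of_over z Function.surjective_id k,
      hL.1.1.commutator_eq_top]
  have r' : (L.subtype.comp η).range = L := by rw [MonoidHom.range_comp, r, ← MonoidHom.range_eq_map, range_subtype]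
  obtain ⟨t, ht, o⟩ := exists_orderOf_eq_of_dvd_card (p := 2) hL.2.1.1.two_dvd
  have t2 : t * t = 1 := by rw [← pow_two, ← o, pow_orderOf_eq_one]
  have t1 : t ≠ 1 := fun k => by simp [k] at o
  have cen : 𝐂(generalizedFittingSubgroup G) = ⊥ := by
    rcases (normal_subgroupOf_of_le_normalizer' (le_normalizer_of_normal' (generalizedFittingSubgroup G)
      𝐂(generalizedFittingSubgroup G))).eq_bot_or_eq_top with k | k
    · exact (subgroupOf_eq_bot.1 k).eq_bot_of_le Sig.centralizer_fstar_le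
    · exact absurd (le_centralizer_iff_isMulCommutative.1 (subgroupOf_eq_top.1 k)) hF'
  have top : Top (1 : SU (1 : K ≃+* K) (2 * j) →* G) (generalizedFittingSubgroup G) := ⟨inferInstance, hF, hF', cen, by simp⟩
  refine ⟨K, _, inferInstance, this, L.subtype.comp η, t, ⟨φ.symm⟩, d, ⟨t2, t1, fun g i e => ?_, r'.symm ▸ ht, fun g => ?_, fun P => ?_⟩,
    inferInstance, hF, hF', cen, ?_⟩
  · rw [up_eq i] at e
    have := DFunLike.congr_fun k ⟨g, i⟩
    rw [MonoidHom.comp_apply, show η ⟨g, i⟩ = 1 from Subtype.ext e, map_one] at this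
    exact (show 1 = g from congrArg Subtype.val this) ▸ sc_one
  · rw [r']
    exact fun e => by_contra fun n => t1 (conj_eq_one_iff.1 ((e2_inv (by rw [← conj_mul_conj, t2]; simp)).odd
      (hL.2.1.2 g (hL.2.2.2 ▸ n)) (congrArg Subtype.val (pow_card_eq_one' (x := (⟨_, e, conj_mem_cj g ht⟩ : ↥(𝐂(L) ⊓ cj[g] 𝐂(L))))))))
  · rw [r']
    intro l two
    obtain ⟨S, i⟩ := (isPGroup_subgroupOf (L := 𝐂(L)) two).exists_le_sylow
    have := hR S
    exact isCyclic_of_injective ((inclusion i).comp (subgroupOfEquivOfLe l).symm.toMonoidHom)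
      ((inclusion_injective i).comp (MulEquiv.injective _))
  · rw [r']
    rcases Cfsg.Agent.S1347.result _ hL top.oc t o ht with n | ⟨X, sX, -, -, c, e, l, -⟩ | ⟨l, -⟩
    · exact (Sig.comp_le_layer ⟨n.isSubnormal, hL.1⟩).trans Sig.layer_le_fstar
    · have x0 := (Subgroup.nontrivial_iff_ne_bot X).1 sX.toNontrivial
      have lF := l ▸ top.key (le_normalizer_of_normal' _ (layer G)) fun k => x0 (eq_bot_iff.2 (k ▸ l ▸ le_sup_left))
      have lX := top.key (lF.trans (sup_le le_normalizer fun b hb => centralizer_le_normalizer _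
        (mem_centralizer_iff'.2 fun a ha => c a ha b hb))) x0
      exact absurd (eq_bot_iff.2 (e ▸ le_inf lX ((cj_eq_self (le_normalizer_of_normal' ⊤ _ trivial)).ge.trans
        (cj_mono t lX)))) ((Subgroup.nontrivial_iff_ne_bot _).1 hF.toNontrivial)
    · exact l.trans Sig.layer_le_fstar

theorem exists_fr {G : Type*} [Group G] [Finite G]
    (hF : IsSimpleGroup ↥(generalizedFittingSubgroup G)) (hF' : ¬ IsMulCommutative ↥(generalizedFittingSubgroup G))
    (L : Subgroup G) (hL : IsStandardSubgroup L)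
    (hR : ∀ R : Sylow 2 ↥(centralizer (L : Set G)), IsCyclic ↥(R : Subgroup ↥(centralizer (L : Set G))))
    (j n : ℕ) (hj : 3 ≤ j) (hn : 1 ≤ n) {F : Type*} [Field F] [Fintype F]
    (hFq : Fintype.card F = 2 ^ n) (hLX : Nonempty ((↥L ⧸ oddCore ↥L) ≃* PSp j F)) :
    ∃ (K : Type) (_ : Field K) (_ : Fintype K) (_ : CharP K 2) (ρ : SU (1 : K ≃+* K) (2 * j) →* G) (t : G),
      Nonempty (K ≃+* F) ∧ Sd (1 : K ≃+* K) (2 * j) ∧ Fr ρ t ∧ Top ρ (generalizedFittingSubgroup G) :=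
  let ⟨K, a, b, c, ρ, t, e, _, f⟩ := B4.exists_fr hF hF' L hL hR j n (by omega) hn (by omega) hFq hLX
  ⟨K, a, b, c, ρ, t, e, ⟨fun _ => rfl, even_two_mul j, by omega⟩, f⟩

end CF.Sq
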