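import Cfsg.Agent.Sq.C2
import Cfsg.Agent.Ud.D2
import Cfsg.Agent.Geom.Orders

/-! Symplectic groups in characteristic two: the unitriangular Sylow subgroup. -/

set_option autoImplicit false
set_option linter.unusedSectionVars false
set_option linter.unusedVariables false

namespace CF.Sq

open Cfsg Subgroup Equiv CF.Loc CF.LX CF.Ud Module
open CF.Dq (hf_comm hf_sw hf_smr iv1 add_eq0)
open scoped commutatorElement

variable {K : Type} [Field K] [Fintype K] [CharP K 2] {m j : ℕ} {σ θ : K ≃+* K} {a b c : K}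
  {g p ξ w : Perm (Fin m → K)} {u v x y n u' v' n' : Fin m → K} {P H : Subgroup (Perm (Fin m → K))}
  {T : Submodule K (Fin m → K)}

theorem U_add (i : g ∈ UT σ m) (h : x ∈ Vf K m (j + 1)) : g x + x ∈ Vf K m j := vsub (g x) x ▸ (mem_UT.1 i).2 j x h
theorem Vf_succ2 (h : x ∈ Vf K m (j + 1)) : ∃ c : K, ∃ y ∈ Vf K m j, x = c • bv j + y :=
  let ⟨c, k⟩ := Vf_succ h; ⟨c, _, k, by rw [add_sub_cancel]⟩
theorem Vf_two : x ∈ Vf K m 2 ↔ ∃ a b : K, x = a • bv 1 + b • bv 0 :=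
  ⟨fun h => let ⟨a, _, k, e⟩ := Vf_succ2 h; let ⟨b, e'⟩ := Vf_one.1 k; ⟨a, b, e' ▸ e⟩, fun ⟨_, _, e⟩ => e ▸
    add_mem (Submodule.smul_mem _ _ (bv_mem one_lt_two)) (Submodule.smul_mem _ _ (bv_mem two_pos))⟩
theorem U_e0 (i : g ∈ UT σ m) : g (bv 0) = bv 0 := add_eq0.1 (Vf_zero.1 (U_add i (bv_mem one_pos)))
theorem U_e1 (i : g ∈ UT σ m) : ∃ a : K, g (bv 1) = bv 1 + a • bv 0 :=
  (Vf_one.1 (U_add i (bv_mem one_lt_two))).imp fun _ e => by rw [← e, add_comm (g _), ← add_assoc, vv, zero_add]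
theorem U_e2 (i : g ∈ UT σ m) : ∃ a b : K, g (bv 2) = bv 2 + (a • bv 1 + b • bv 0) :=
  let ⟨a, b, e⟩ := Vf_two.1 (U_add i (bv_mem (Nat.lt_succ_self 2))); ⟨a, b, by rw [← e, add_comm (g _), ← add_assoc, vv, zero_add]⟩

namespace Sd
variable (d : Sd σ m)
include d

theorem half : m / 2 + m / 2 = m := d.sm.half
theorem mem_SU (l : Sem σ 1 g) : g ∈ SU σ m := by obtain rfl := d.one; exact d.sm.mem_SU l
theorem b0 : (bv 0 : Fin m → K) ≠ 0 := d.pr01.u0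
theorem W_cent (l : Ti σ T) (i : Sem σ 1 g) (e : ∀ x ∈ T, g x = x) : g ∈ 𝐂(WX σ T) := by obtain rfl := d.one; exact d.sm.W_cent i e
theorem W_le : WW σ m ≤ UT σ m := fun w i => mem_UT.2 ⟨i.1, fun j x h => by
  by_cases e : j + 1 + m / 2 ≤ m
  · simp [W_fix i fun z k => hf_Vf h k e]
  · exact Vf_mono (by omega) (i.2 x)⟩
theorem perp0 (h : hf σ n (bv 0) = 0) : n ∈ Vf K m (m - 1) := (Vf_pp (σ := σ) (i := 1) (by have := d.hm; omega)).le fun y i => by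
  obtain ⟨c, rfl⟩ := Vf_one.1 i; simp [sq_ap, h]
theorem perp0' {j : ℕ} (h : n ∈ Vf K m j) (l : j < m := by have := d.hm; omega) : hf σ n (bv 0) = 0 := hf_Vf h (bv_mem one_pos) l
theorem Q_le : Q σ (bv 0) ≤ UT σ m := d.Q_le_of fun n a o =>
  E_UT (bv_mem one_pos) (d.perp0 o) (by have := d.hm; omega) (by have := d.hm; omega) a
theorem U_SU : UT σ m ≤ SU σ m := fun g i => d.mem_SU i.1
theorem U_le : UT σ m ≤ Y σ (bv 0) ⊓ H0 m σ := fun g i => ⟨⟨d.U_SU i, U_e0 i⟩, d.U_SU i, (d.cQQ d.pr01 i.1).2 (by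
  obtain ⟨a, e⟩ := U_e1 i
  rw [U_e0 i, e, d.E_shift (d.sw d.pr01.2)])⟩
theorem U_two : IsPGroup 2 (UT σ m) := UT_two
theorem U_of (i : Sem σ 1 g) (f : Fl g) (e : E2 g) : g ∈ UT σ m := mem_UT_dg i f fun j => by
  obtain ⟨k, e⟩ := e
  exact pow_two_inj (j := k) (by rw [← dg_pow i f, e]; exact bv_self j)
/-- the flag is determined by `UT` -/
theorem desc (r : ∀ u ∈ UT σ m, u x + x ∈ Vf K m j) : x ∈ Vf K m (j + 1) := by
  have key : ∀ i : Fin m, 1 ≤ i.val → x ∈ Vf K m (i + 1) → (∀ u ∈ UT σ m, (u x - x) ⟨i - 1, by omega⟩ = 0) → x i = 0 := by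
    intro i h a b
    have := i.2
    have h1 : hf σ x (bv (m - 1 - i)) = x i := by rw [← hf_bv (σ := σ) x i, Fin.val_rev, Nat.sub_sub, add_comm]
    have h2 : ∀ a b, a < m → b < m → a + b + 1 ≠ m → hf σ (bv a : Fin m → K) (bv b) = 0 := fun a b _ l n => by rw [hf_bb l, if_neg n]
    rcases lt_trichotomy (2 * i.val) m with l | l | l
    · have o := d.ok (v := (bv (i - 1) : Fin m → K)) (n := bv (m - 1 - i)) (h2 _ _ (by omega) (by omega) (by omega)) 0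
      simpa [E_ap o, hf_Vf a (bv_mem (Nat.lt_succ_self (i - 1))) (by omega), h1, bv] using
        b _ (E_UT (bv_mem (Nat.lt_succ_self (i - 1))) (bv_mem (Nat.lt_succ_self (m - 1 - i))) (by omega) (by omega) 0)
    · have o := d.ok (v := (bv (m - 1 - i) : Fin m → K)) (hf_zero_l _) 1
      simpa [E_ap o, h1, bv, show i - 1 = m - 1 - i by omega] using
        b _ (E_UT (bv_mem (Nat.lt_succ_self (m - 1 - i))) (zero_mem (Vf K m 0)) (by omega) (by omega) 1)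
    · have o := d.ok (v := (bv (m - 1 - i) : Fin m → K)) (n := bv (i - 1)) (h2 _ _ (by omega) (by omega) (by omega)) 0
      simpa [E_ap o, h1, bv, add_assoc, show i - 1 ≠ m - 1 - i by omega] using
        b _ (E_UT (bv_mem (Nat.lt_succ_self (m - 1 - i))) (bv_mem (Nat.lt_succ_self (i - 1))) (by omega) (by omega) 0)
  have : ∀ k, j + 1 ≤ k → x ∈ Vf K m (k + 1) → x ∈ Vf K m k := fun k l a i b => by
    by_cases z : i.val = k
    · exact key i (by omega) (z ▸ a) fun u i => (vsub (u x) x ▸ r u i) _ (by simp; omega)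
    · exact a i (by omega)
  exact Nat.decreasingInduction' (m := j + 1) (n := j + 1 + m) (P := fun k => x ∈ Vf K m k) (fun k _ => this k) (by omega)
    (Vf_mono (by omega) Vf_top)
theorem U_norm (i : ξ ∈ Gam σ m) : ξ ∈ 𝐍(UT σ m) ↔ Fl ξ := by
  obtain ⟨θ, s⟩ := i
  refine ⟨fun e j => ?_, fun f => mem_normalizer_fintype fun g => UT_cj' s f⟩
  induction j with
  | zero => intro x h; rw [Vf_zero.1 h, s.zero]; exact zero_mem _
  | succ j ih => exact fun x h => d.desc fun u i => by simpa [s.add] using ih _ (U_add ((mem_normalizer_iff''.1 e u).1 i) h)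
theorem U_max (two : IsPGroup 2 P) (l : P ≤ SU σ m) (l' : UT σ m ≤ P) : P = UT σ m := by
  by_contra n
  obtain ⟨g, ⟨a, b⟩, c⟩ := SetLike.exists_of_lt (lt_inf_normalizer two (lt_of_le_of_ne l' (Ne.symm n)))
  exact c (d.U_of (su_sem (l a)) ((d.U_norm (GU_le (SU_le (l a)))).1 b) (e2_of two a))
theorem U_syl : IsSyl 2 (UT σ m) (SU σ m) := ⟨d.U_SU, UT_two, fun _ a b c => d.U_max a c b⟩
theorem SU_card : Nat.card (SU σ m) = Nat.card K ^ ((m / 2) ^ 2) * ∏ i ∈ Finset.range (m / 2), (Nat.card K ^ (2 * (i + 1)) - 1) := by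
  obtain rfl := d.one
  have s := d.sm
  rw [← Geom.card_SpG s.nd0 (fun x => (s.pol x x).trans (s.iso x)) (finrank_V.trans (by have := d.half; omega))]
  refine (Nat.card_eq_of_bijective (fun g => ⟨g.1.toEquiv, s.mem_SU ⟨g.1.map_add, g.1.map_smul, fun x y =>
    (s.pol _ _).symm.trans ((g.2.1 x y).trans (s.pol x y)), fun _ => rfl⟩⟩) ⟨fun g k e => ?_, fun g => ?_⟩).symm
  · exact Subtype.ext (LinearEquiv.toEquiv_injective (congrArg Subtype.val e))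
  · obtain ⟨k, e⟩ := (su_sem g.2).pm
    exact ⟨⟨k.1, fun x y => (s.pol _ _).trans (((pm_sem k).form1 x y).trans (s.pol x y).symm), fun _ => rfl⟩, Subtype.ext e⟩
theorem U_card : Nat.card (UT σ m) = Nat.card K ^ ((m / 2) ^ 2) := by
  obtain ⟨k, -, e⟩ := FiniteField.card K 2
  rw [← Nat.card_eq_fintype_card] at e
  have o : ¬ 2 ∣ ∏ i ∈ Finset.range (m / 2), (Nat.card K ^ (2 * (i + 1)) - 1) := fun h => by
    obtain ⟨i, -, h⟩ := (Nat.prime_two.prime.dvd_finsetProd_iff _).1 h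
    have : 2 ∣ Nat.card K ^ (2 * (i + 1)) := by rw [e, ← pow_mul]; exact dvd_pow_self 2 (by positivity)
    have := Nat.one_le_pow (2 * (i + 1)) _ (Nat.card_pos (α := K))
    omega
  rw [d.U_syl.card_eq, d.SU_card, Nat.factorization_mul (by rw [e]; positivity) (fun z => o (by rw [z]; exact dvd_zero 2)), Finsupp.add_apply,
    Nat.factorization_eq_zero_of_not_dvd o, e, ← pow_mul, Nat.prime_two.factorization_pow, Finsupp.single_eq_same, add_zero]
theorem Q_move (e : hf σ y v = 1) (f : hf σ x v = 1) : hf σ (x + y) v = 0 ∧ E σ v (x + y) (hf σ y x) y = x := by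
  have o : hf σ (x + y) v = 0 := by rw [hf_add_l, e, f, CharTwo.add_self_eq_zero]
  refine ⟨o, ?_⟩
  rw [E_ap (d.ok o _)]; simp [e, d.iso, CharTwo.add_self_eq_zero, add_comm x, ← add_assoc, vv]
theorem U_gen (l : ∀ g ∈ UT σ m, g * g = 1 → g ∈ H) : UT σ m ≤ H := by
  have h := d.half
  have k : ∀ j, j ≤ m / 2 → ∀ g ∈ UT σ m, (∀ i, m / 2 + j ≤ i → i < m → g (bv i) = bv i) → g ∈ H := fun j => by
    induction j with
    | zero =>
      refine fun _ g i e => (show g = 1 from i.1.ext_bv sem_one fun t => ?_) ▸ one_mem H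
      by_cases z : m / 2 ≤ t.val
      · exact e t z t.2
      refine add_eq0.1 (funext fun r => ?_)
      by_cases z' : t.val ≤ r.val
      · exact U_add i (bv_mem t.1.lt_succ_self) r z'
      have := r.2
      refine (hf_bv (σ := σ) _ r).symm.trans ?_
      rw [hf_add_l, ← e r.rev (by rw [Fin.val_rev]; omega) r.rev.2, i.1.form1, e r.rev (by rw [Fin.val_rev]; omega) r.rev.2]
      exact CharTwo.add_self_eq_zero _
    | succ j ih =>
      intro hj g i e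
      have f : hf σ (bv (m / 2 + j) : Fin m → K) (bv (m / 2 - j - 1)) = 1 := by rw [hf_bb (by omega), if_pos (by omega)]
      have n := U_add i (bv_mem (Nat.lt_succ_self (m / 2 + j)))
      have f' : hf σ (g (bv (m / 2 + j))) (bv (m / 2 - j - 1)) = 1 := by
        have := hf_Vf (σ := σ) n (bv_mem (Nat.lt_succ_self (m / 2 - j - 1))) (by omega)
        rw [hf_add_l, f] at this; grind
      obtain ⟨o, r⟩ := d.Q_move f f'
      have t := E_UT (σ := σ) (bv_mem (Nat.lt_succ_self (m / 2 - j - 1))) n (by omega) (by omega) (hf σ (bv (m / 2 + j)) (g (bv (m / 2 + j))))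
      refine (mul_mem_cancel_left (inv_mem (l _ t (d.E_sq ..)))).1 (ih (by omega) _ (mul_mem (inv_mem t) i) fun s a b => ?_)
      rw [Perm.mul_apply, Perm.inv_eq_iff_eq]
      by_cases z : s = m / 2 + j
      · rw [z, r]
      · rw [e s (by omega) b, E_fix (by rw [hf_bb (by omega), if_neg (by omega)]) (by
          rw [hf_add_r, ← e s (by omega) b, i.1.form1, e s (by omega) b, CharTwo.add_self_eq_zero])]
  exact fun g i => k _ le_rfl g i fun _ a b => by omega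
theorem cU0 (i : ξ ∈ Gam σ m) (e : ξ ∈ 𝐂(UT σ m)) : ξ ∈ Q σ (bv 0) := d.cQ0 d.b0 i (centralizer_le d.Q_le e)
theorem cU (i : ξ ∈ Gam σ m) (e : ξ ∈ 𝐂(UT σ m)) : ξ ∈ UT σ m := d.Q_le (d.cU0 i e)
theorem zU : g ∈ UT σ m ⊓ 𝐂(UT σ m) ↔ ∃ c a : K, g = E σ (bv 0) (c • bv 1) a := by
  have o : ∀ c : K, hf σ (c • bv 1 : Fin m → K) (bv 0) = 0 := fun c => by rw [hf_smul_l, d.sw d.pr01.2, mul_zero]
  refine ⟨fun ⟨i, e⟩ => ?_, fun ⟨c, a, e⟩ => e ▸ ⟨d.Q_le (E_Q _ _ _), mem_centralizer_iff'.2 fun p i => conj_eq_iff.1 ?_⟩⟩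
  · obtain ⟨n, a, h, rfl⟩ := d.mem_Q.1 (d.cU0 ⟨_, i.1⟩ e)
    obtain ⟨c, b, rfl⟩ := Vf_two.1 (d.desc (x := n) fun p j => by
      have := conj_eq_iff.2 (mem_centralizer_iff'.1 e p j)
      rw [E_cj1 j.1, U_e0 j] at this
      obtain ⟨-, c, k⟩ := (d.E_inj d.b0 h (by rw [← U_e0 j, j.1.form1, h])).1 this.symm
      exact Vf_one.2 ⟨c, by rw [k, add_right_comm, vv, zero_add]⟩)
    exact ⟨c, a, d.E_shift (o c) b a⟩
  · obtain ⟨b, k⟩ := U_e1 i
    rw [E_cj1 i.1, U_e0 i, i.1.smul1, k, smul_add, smul_smul, d.E_shift (o c)]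
theorem zE (c a : K) : E σ (bv 0 : Fin m → K) (c • bv 1) a ∈ 𝐂(UT σ m) := (d.zU.2 ⟨c, a, rfl⟩).2
theorem lev (i : g ∈ Y σ (bv 0)) : ∃ p ∈ Q σ (bv 0 : Fin m → K), (g * p) (bv (m - 1)) = bv (m - 1) := by
  have f : hf σ (bv (m - 1) : Fin m → K) (bv 0) = 1 := by have := d.hm; rw [hf_bb (by omega), if_pos (by omega)]
  have k := (d.Q_move f (x := g⁻¹ (bv (m - 1))) (by rw [← (su_sem i.1).form1, show g (bv 0) = bv 0 from i.2, ← f]; simp)).2
  exact ⟨_, E_Q _ _ _, by rw [Perm.mul_apply, k]; simp⟩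
theorem cj1 (i : p ∈ UT σ m) (h : p (bv 1) = bv 1 + c • bv 0) (o : hf σ n (bv 0) = 0) (b a : K) :
    p * (E σ (bv 1) 0 b * E σ (bv 0) n a) * p⁻¹ =
      E σ (bv 1) 0 b * E σ (bv 0) ((c * b) • bv 1 + p n) (c * c * b + a + c * b * hf σ (p n) (bv 1)) := by
  have e := d.pr01.2; have e' := d.sw e
  have : E σ (bv 1 + c • bv 0 : Fin m → K) 0 b = E σ (bv 1) 0 b * E σ (bv 0) ((c * b) • bv 1) (c * c * b) := Equiv.ext fun x => by
    simp only [Perm.mul_apply, E_ap (d.ok (hf_zero_l _) _), E_ap (d.ok (n := (c * b) • bv 1) (v := bv 0) (by simp [e']) _), hf_add_l,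
      hf_add_r, hf_smul_l, d.smr, hf_zero_r, d.iso, e, e']
    module
  rw [conj_mul_conj, tv_cj1 i.1, E_cj1 i.1, U_e0 i, h, this, mul_assoc, d.E_mul (by simp [e']) (by rw [← U_e0 i, i.1.form1, o]), d.smr]
theorem z2U (i : g ∈ UT σ m) (e : ∀ p ∈ UT σ m, ⁅g, p⁆ ∈ 𝐂(UT σ m)) :
    ∃ b e c a : K, g = E σ (bv 1) 0 b * E σ (bv 0) (e • bv 2 + c • bv 1) a := by
  have hm := d.hm
  have e1 := d.sw (d.pr01.2)
  have z : ∀ p ∈ UT σ m, ∃ c a : K, ⁅g, p⁆ = E σ (bv 0) (c • bv 1) a := fun p j =>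
    d.zU.1 (mem_inf.2 ⟨mul_mem (mul_mem (mul_mem i j) (inv_mem i)) (inv_mem j), e p j⟩)
  have k : ∀ n, hf σ n (bv 0) = 0 → g n + n ∈ Vf K m 2 := fun n o => by
    obtain ⟨c, a, h⟩ := z _ (d.Q_le (E_Q _ n 0))
    have o' : hf σ (g n) (bv 0) = 0 := by rw [← U_e0 i, i.1.form1, o]
    rw [commutatorElement_def, E_cj1 i.1, U_e0 i, d.E_inv, d.E_mul o' o] at h
    obtain ⟨-, b, h⟩ := (d.E_inj d.b0 (by simp [e1]) (by simp [o, o'])).1 h.symm
    exact Vf_two.2 ⟨c, b, h⟩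
  obtain ⟨p, j, f⟩ := d.lev (d.U_le i).1
  obtain ⟨n, a, o, rfl⟩ := d.mem_Q.1 j
  have s := mul_mem i (d.Q_le j)
  have f0 : hf σ (bv 0 : Fin m → K) (bv (m - 1)) = 1 := by rw [hf_bb (by omega), if_pos (by omega)]
  have f1 : hf σ (bv 1 : Fin m → K) (bv (m - 1)) = 0 := by rw [hf_bb (by omega), if_neg (by omega)]
  have t : g * E σ (bv 0) n a ∈ WX σ (Submodule.span K {bv 1}) := ⟨s.1, fun x => by
    have o' : hf σ (x + hf σ x (bv 0) • bv (m - 1)) (bv 0) = 0 := by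
      rw [hf_add_l, hf_smul_l, d.comm (bv (m - 1)), f0, mul_one, CharTwo.add_self_eq_zero]
    obtain ⟨y, hy⟩ : ∃ y, y = x + hf σ x (bv 0) • bv (m - 1) := ⟨_, rfl⟩
    rw [← hy] at o'
    have e2 : (g * E σ (bv 0) n a) x - x = (g * E σ (bv 0) n a) y + y := by
      rw [hy, s.1.add, s.1.smul1, f, vsub]; linear_combination (norm := module) -vv (hf σ x (bv 0) • (bv (m - 1) : Fin m → K))
    obtain ⟨c, b, h⟩ := Vf_two.1 (k y o')
    have e3 : (g * E σ (bv 0) n a) y + y = c • bv 1 + (b + hf σ y n) • bv 0 := by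
      rw [Perm.mul_apply, E_ap (d.ok o _), o', zero_smul, add_zero, mul_zero, add_zero, i.1.add, i.1.smul1, U_e0 i, add_right_comm, h]
      module
    have e4 := congrArg (hf σ · (bv (m - 1))) e3
    simp only [hf_add_l, hf_smul_l, f0, f1] at e4
    rw [← f, s.1.form1, f, CharTwo.add_self_eq_zero, mul_zero, zero_add, mul_one] at e4
    rw [e2, e3, ← e4, zero_smul, add_zero]
    exact Submodule.smul_mem _ _ (Submodule.mem_span_singleton_self _)⟩
  obtain ⟨b, h⟩ : ∃ b, g * E σ (bv 0) n a = E σ (bv 1) 0 b := by obtain rfl := d.one; exact d.sm.W1 t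
  rw [← eq_mul_inv_iff_mul_eq, d.E_inv] at h
  obtain ⟨r, y, hy, rfl⟩ := Vf_succ2 (d.desc (x := n) (j := 2) fun p l => by
    obtain ⟨c, h1⟩ := U_e1 l
    obtain ⟨c', a', h2⟩ := z p l
    have h3 : p * g * p⁻¹ = g * E σ (bv 0) (c' • bv 1) a' := by
      rw [mem_centralizer_iff'.1 (d.zE c' a') g i, ← d.E_inv, ← h2]; group
    have o' : hf σ (p n) (bv 0) = 0 := by rw [← U_e0 l, l.1.form1, o]
    rw [h, d.cj1 l h1 o, mul_assoc (E σ (bv 1) 0 b), d.E_mul o (by simp [e1]), mul_right_inj] at h3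
    obtain ⟨-, t, h4⟩ := (d.E_inj d.b0 (by simp [e1, o]) (by simp [e1, o'])).1 h3.symm
    exact Vf_two.2 ⟨c' + c * b, t, by linear_combination (norm := module) h4 + vv n - vv ((c * b) • (bv 1 : Fin m → K))⟩)
  obtain ⟨c, t, rfl⟩ := Vf_two.1 hy
  exact ⟨b, r, c, a, by rw [h, ← add_assoc, d.E_shift (by simp [e1, d.perp0' (bv_mem (Nat.lt_succ_self 2))])]⟩
theorem cm2 {x y z : K} (i : p ∈ UT σ m) (h : p (bv 1) = bv 1 + x • bv 0) (h' : p (bv 2) = bv 2 + (y • bv 1 + z • bv 0)) (b e c a : K) :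
    ⁅E σ (bv 1 : Fin m → K) 0 b * E σ (bv 0) (e • bv 2 + c • bv 1) a, p⁆ = E σ (bv 0) ((x * b + y * e) • bv 1) (x * x * b) := by
  have hm := d.hm
  have e0 := d.pr01.2; have e1 := d.sw e0
  have e2 : hf σ (bv 2 : Fin m → K) (bv 0) = 0 := d.perp0' (bv_mem (Nat.lt_succ_self 2))
  have e3 : hf σ (bv 2 : Fin m → K) (bv 1) = 0 := by rw [hf_bb (by omega), if_neg (by omega)]
  have j : E σ (bv 1 : Fin m → K) 0 b * E σ (bv 0) (e • bv 2 + c • bv 1) a ∈ UT σ m :=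
    mul_mem (E_UT (bv_mem one_lt_two) (zero_mem (Vf K m 0)) (by omega) (by omega) b) (d.Q_le (E_Q _ _ _))
  have k := d.cj1 i h (n := e • bv 2 + c • bv 1) (by simp [e1, e2]) b a
  have k' : E σ (bv 0 : Fin m → K) ((x * b) • bv 1 + p (e • bv 2 + c • bv 1)) (x * x * b + a + x * b * hf σ (p (e • bv 2 + c • bv 1)) (bv 1)) =
      E σ (bv 0) (e • bv 2 + c • bv 1) a * E σ (bv 0) ((x * b + y * e) • bv 1) (x * x * b) := by
    rw [d.E_mul (by simp [e1, e2]) (by simp [e1]), i.1.add, i.1.smul1, i.1.smul1, h, h',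
      ← d.E_shift (c := e * z + c * x) (n := e • bv 2 + c • bv 1 + _) (by simp [e1, e2])]
    congr 1
    · module
    · simp [d.smr, e0, e3, d.sw e3, d.iso, add_comm]
  rw [k', ← mul_assoc (E σ (bv 1) 0 b), mem_centralizer_iff'.1 (d.zE _ _) _ j] at k
  rw [← d.E_inv (bv 0) ((x * b + y * e) • bv 1), ← mul_inv_eq_iff_eq_mul.2 k]; group
theorem z2c (b e c a : K) : (∃ p ∈ UT σ m, g = ⁅E σ (bv 1 : Fin m → K) 0 b * E σ (bv 0) (e • bv 2 + c • bv 1) a, p⁆) ↔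
    ∃ x y : K, g = E σ (bv 0) ((x * b + y * e) • bv 1) (x * x * b) := by
  have hm := d.hm
  refine ⟨fun ⟨p, i, h⟩ => ?_, fun ⟨x, y, h⟩ => ?_⟩
  · obtain ⟨x, h1⟩ := U_e1 i
    obtain ⟨y, z, h2⟩ := U_e2 i
    exact ⟨x, y, h.trans (d.cm2 i h1 h2 b e c a)⟩
  have z : ∀ s t, t < m → s + t + 1 ≠ m → hf σ (bv s : Fin m → K) (bv t) = 0 := fun s t l n => by rw [hf_bb l, if_neg n]
  have o : ∀ s t, t < m → s + t + 1 = m → hf σ (bv s : Fin m → K) (bv t) = 1 := fun s t l n => by rw [hf_bb l, if_pos n]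
  have o1 := d.ok (v := (bv 0 : Fin m → K)) (n := x • bv (m - 2)) (by simp [z _ 0 (by omega) (show m - 2 + 0 + 1 ≠ m by omega)]) 0
  have o2 := d.ok (v := (bv 1 : Fin m → K)) (n := y • bv (m - 3)) (by simp [z _ 1 (by omega) (show m - 3 + 1 + 1 ≠ m by omega)]) 0
  have j : E σ (bv 0 : Fin m → K) (x • bv (m - 2)) 0 * E σ (bv 1) (y • bv (m - 3)) 0 ∈ UT σ m := mul_mem (d.Q_le (E_Q _ _ _))
    (E_UT (bv_mem one_lt_two) (Submodule.smul_mem _ _ (bv_mem (Nat.lt_succ_self (m - 3)))) (by omega) (by omega) 0)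
  refine ⟨_, j, h.trans (d.cm2 j (z := x * y) ?_ ?_ b e c a).symm⟩
  · simp [E_ap o1, E_ap o2, d.smr, d.iso, z 1 (m - 3) (by omega) (by omega), z 1 0 (by omega) (by omega), o 1 (m - 2) (by omega) (by omega)]
  · simp [E_ap o1, E_ap o2, d.smr, z 2 1 (by omega) (by omega), o 2 (m - 3) (by omega) (by omega), z 1 0 (by omega) (by omega),
      z 2 0 (by omega) (by omega), o 1 (m - 2) (by omega) (by omega), z 2 (m - 2) (by omega) (by omega), add_assoc]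
theorem mem_PP : g ∈ PP σ m ↔ g ∈ SU σ m ∧ ∀ x ∈ Vf K m (m / 2), g x ∈ Vf K m (m / 2) :=
  and_congr_right fun i => by obtain rfl := d.one; exact d.sm.W_norm (GU_le (SU_le i))
theorem E_PP (hu : u ∈ Vf K m (m / 2)) (n : Fin m → K) (a : K) : E σ u n a ∈ PP σ m := d.mem_PP.2 ⟨d.E_SU _ _ _, fun x i => by
  by_cases o : Ok σ u n a
  · rw [E_ap o, Vf_ti le_rfl x i u hu, zero_smul, add_zero]; exact add_mem i (Submodule.smul_mem _ _ hu)
  · simpa [E_junk o]⟩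
theorem Vl_dim : finrank K (Vf K m (m / 2)) = m / 2 := Vf_dim (by omega)
theorem PP_tr (hu : u ∈ Vf K m (m / 2)) (u0 : u ≠ 0) (hv : v ∈ Vf K m (m / 2)) (v0 : v ≠ 0) : ∃ g ∈ PP σ m, g u = v := by
  have k : ∀ u ∈ Vf K m (m / 2), ∀ v ∈ Vf K m (m / 2), LinearIndependent K ![u, v] → ∃ g ∈ PP σ m, g u = v := fun u a v b l => by
    obtain ⟨n, h1, h2⟩ := d.dual2 l 1 1
    refine ⟨_, d.E_PP (add_mem a b) n 0, ?_⟩
    rw [E_ap (d.ok (by rw [hf_add_r, h1, h2, CharTwo.add_self_eq_zero]) _), Vf_ti le_rfl u a _ (add_mem a b), d.comm, h1]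
    simp [← add_assoc, vv]
  obtain ⟨x, a, b⟩ := exists_out (T := Submodule.span K {u, v}) (T' := Vf K m (m / 2)) (by
    have := pair_dim u v; have := d.Vl_dim; have := d.hm; omega)
  obtain ⟨g, i, e⟩ := k u hu x a (li_two u0 fun k => b (Submodule.span_mono (by simp) k))
  obtain ⟨g', i', e'⟩ := k v hv x a (li_two v0 fun k => b (Submodule.span_mono (by simp) k))
  exact ⟨g'⁻¹ * g, mul_mem (inv_mem i') i, by rw [Perm.mul_apply, e, ← e']; simp⟩
theorem two_perp (n : Fin m → K) : ∃ u ∈ Vf K m (m / 2), ∃ v ∈ Vf K m (m / 2), LinearIndependent K ![u, v] ∧ hf σ u n = 0 ∧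
    hf σ v n = 0 := by
  obtain rfl := d.one
  have h1 := Submodule.finrank_sup_add_finrank_inf_eq (Vf K m (m / 2)) (pp 1 (Submodule.span K {n}))
  have h2 := (Vf K m (m / 2) ⊔ pp 1 (Submodule.span K {n})).finrank_le
  have := d.sm.pp_dim (Submodule.span K {n}); have := one_dim n; have := d.hm
  rw [finrank_V] at h2; rw [d.Vl_dim] at h1
  obtain ⟨u, a, v, b, l⟩ := exists_li (T := Vf K m (m / 2) ⊓ pp 1 (Submodule.span K {n})) (by omega)
  exact ⟨u, a.1, v, b.1, l, Geom.mem_perp_singleton.1 a.2, Geom.mem_perp_singleton.1 b.2⟩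
theorem PP_fix (i : w ∈ WW σ m) (e : w ∈ 𝐂(PP σ m)) : w = 1 := Equiv.ext fun n => by
  have k : ∀ u ∈ Vf K m (m / 2), u ≠ 0 → hf σ u n = 0 → ∃ c : K, w n = n + c • u := fun u a u0 h => by
    have f : w u = u := W_fix i (Vf_ti le_rfl u a)
    have := conj_eq_iff.2 (mem_centralizer_iff'.1 e _ (d.E_PP a n 0)).symm
    rw [E_cj1 i.1, f] at this
    exact ((d.E_inj u0 (d.sw h) (by rw [← f, i.1.form1, d.sw h])).1 this.symm).2
  obtain ⟨u, a, v, b, l, h, h'⟩ := d.two_perp n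
  obtain ⟨s, e₁⟩ := k u a (l.ne_zero 0) h
  obtain ⟨t, e₂⟩ := k v b (l.ne_zero 1) h'
  rw [e₁, (li_eq l (a := s) (b := 0) (a' := 0) (b' := t) (by simpa [e₁] using e₂)).1, zero_smul, add_zero, Perm.one_apply]
end Sd

end CF.Sq
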