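/-
The endgame for symplectic and unitary groups: common geometry.
-/
import Cfsg.Agent.Sq.G4
import Cfsg.Agent.Sq.D1
set_option autoImplicit false
set_option linter.unusedSectionVars false

namespace CF.Sq
open Subgroup Equiv Module CF.BG CF.Sig CF.GW CF.Ab2 CF.Fe CF.Rd
open CF.Ge (cl_cj cl_rfl cl_symm cl_trans cl_mem cl_sq Gi)
open CF.Ud hiding Cl Iv Fd Fe e2_of JJ
open scoped commutatorElement

variable {K : Type} [Field K] [Fintype K] [CharP K 2] {m : ℕ} {σ θ : K ≃+* K} {a b c ζ ζ' : K}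
  {g l p ξ y : Perm (Fin m → K)} {u v w x n u' v' n' : Fin m → K} {H X : Subgroup (Perm (Fin m → K))}
  {T : Submodule K (Fin m → K)}

variable (σ) in
/-- independent orthogonal isotropic pairs -/
structure Ip (u v : Fin m → K) : Prop where
  li : LinearIndependent K ![u, v]
  uu : hf σ u u = 0
  vv : hf σ v v = 0
  vu : hf σ v u = 0

variable (σ) in
/-- traces -/
def Tc (a : K) : Prop := ∃ s, a = s + σ s

theorem Tc.add (h : Tc σ a) (k : Tc σ b) : Tc σ (a + b) := by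
  obtain ⟨s, rfl⟩ := h; obtain ⟨r, rfl⟩ := k; exact ⟨s + r, by rw [map_add]; ring⟩
theorem Tc.mul (h : Tc σ a) (e : σ c = c) : Tc σ (c * a) := by
  obtain ⟨s, rfl⟩ := h; exact ⟨c * s, by rw [map_mul, e]; ring⟩
theorem tc0 : Tc σ 0 := ⟨0, by simp⟩
theorem Tc.sub (h : Tc σ (a + b)) (k : Tc σ a) : Tc σ b := by
  have := k.add h; rwa [← add_assoc, CharTwo.add_self_eq_zero, zero_add] at this

theorem Ip.u0 (p : Ip σ u v) : u ≠ 0 := p.li.ne_zero 0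
theorem Ip.out (p : Ip σ u v) (c : K) : v ≠ c • u := fun e =>
  one_ne_zero (li_eq p.li (a := 0) (b := 1) (a' := c) (b' := 0) (by simp [← e])).2
theorem Ip.out' (p : Ip σ u v) (c : K) : u ≠ c • v := fun e =>
  one_ne_zero (li_eq p.li (a := 1) (b := 0) (a' := 0) (b' := c) (by simp [← e])).1
theorem ip_of (uu : hf σ u u = 0) (u0 : u ≠ 0) (vv : hf σ v v = 0) (vu : hf σ v u = 0) (h : ∀ c : K, v ≠ c • u) : Ip σ u v :=
  ⟨li_two u0 fun k => let ⟨c, e⟩ := Submodule.mem_span_singleton.1 k; h c e.symm, uu, vv, vu⟩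
theorem Ip.cj (p : Ip σ u v) (k : Sem σ θ ξ) : Ip σ (ξ u) (ξ v) :=
  ip_of (by rw [k.form, p.uu, map_zero]) (k.ne p.u0) (by rw [k.form, p.vv, map_zero]) (by rw [k.form, p.vu, map_zero])
    fun c e => p.out (θ.symm c) (ξ.injective (by rw [e, k.smul, θ.apply_symm_apply]))
theorem nsp (h : ∀ c : K, x ≠ c • v) : x ∉ Submodule.span K {v} := fun k =>
  let ⟨c, e⟩ := Submodule.mem_span_singleton.1 k; h c e.symm

/-- what symplectic and unitary groups have in common -/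
structure Gm (σ : K ≃+* K) (m : ℕ) : Prop where
  iv : Ud.Iv σ
  hm : 6 ≤ m
  perf : SU σ m ≤ ⁅SU σ m, SU σ m⁆
  syl : Loc.IsSyl 2 (UT σ m) (SU σ m)
  esu : ∀ v n a, E σ v n a ∈ SU σ m
  nrm : ∀ a, σ a = a → ∃ c, c * σ c = a
  ok : ∀ v n : Fin m → K, hf σ v v = 0 → hf σ n v = 0 → ∃ ζ, Ok σ v n ζ
  part : ∀ (T : Submodule K (Fin m → K)) x, x ∉ T → ∃ y, hf σ y x = 1 ∧ ∀ z ∈ T, hf σ y z = 0
  w1 : ∀ u v, hf σ u u = 0 → u ≠ 0 → hf σ v v = 0 → v ≠ 0 → ∃ g ∈ SU σ m, g u = v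
  w2 : ∀ u v u' v', Ip σ u v → Ip σ u' v' → ∃ g ∈ SU σ m, g u = u' ∧ g v = v'
  val : ∀ (u v x : Fin m → K) c, x ∉ Submodule.span K {u, v} → ∃ y, hf σ y y = 0 ∧ hf σ y u = 0 ∧ hf σ y v = 0 ∧ hf σ x y = c
  h3 : ∀ u w v : Fin m → K, hf σ u w ≠ 0 → hf σ u u = 0 → hf σ w w = 0 → hf σ u v = 0 → hf σ w v = 0 →
    ∃ s s', hf σ s s = 0 ∧ hf σ s u = 0 ∧ hf σ s w = 0 ∧ hf σ s v = 0 ∧ hf σ s' u = 0 ∧ hf σ s' v = 0 ∧ hf σ s' s = 1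
  yg : ∀ H, (∀ w, hf σ w w = 0 → hf σ w (bv 0) = 0 → E σ w 0 1 ∈ H) → Y σ (bv 0 : Fin m → K) ≤ H
  ql : ∀ H, (∀ a, σ a = a → E σ (bv 0) 0 a ∈ H) → (∀ n, hf σ n n = 0 → hf σ n (bv 0) = 0 → E σ (bv 0) n 0 ∈ H) →
    Q σ (bv 0 : Fin m → K) ≤ H
  qof : ∀ p : Perm (Fin m → K), Sem σ 1 p → p (bv 0) = bv 0 → (∀ x, hf σ x (bv 0) = 0 → ∃ c : K, p x = x + c • bv 0) →
    p ∈ Q σ (bv 0)
  qu : Q σ (bv 0) ≤ UT σ m
  qq : ∀ H (u v : Fin m → K), hf σ u u = 0 → hf σ v v = 0 → hf σ u v ≠ 0 → Q σ u ≤ H → Q σ v ≤ H → SU σ m ≤ H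
  zd : Z σ (bv 0) ≤ ⁅UT σ m, UT σ m⁆
  cq : ∀ y ∈ SU σ m ⊓ 𝐂 (Q σ (bv 0)), Eo y → y ∈ 𝐂 (Y σ (bv 0))
  cu : UT σ m ⊓ 𝐂 (Q σ (bv 0)) ≤ Q σ (bv 0)
  clb : ∀ (n : Fin m → K) ζ u v, Ok σ (bv 0) n ζ → Ip σ u v → E σ (bv 0) n ζ = E σ u v 0 → Tc σ ζ
  ntr : ∀ a, ∃ κ, κ ≠ a ∧ ¬ Tc σ κ

namespace Gm
variable (d : Gm σ m)
include d

theorem sw (e : hf σ u v = 0) : hf σ v u = 0 := hf_swap d.iv e
theorem sy (u v : Fin m → K) : σ (hf σ u v) = hf σ v u := hf_sym d.iv u v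
theorem bb {i j : ℕ} (hj : j < m) (h : i + j + 1 ≠ m) : hf σ (bv i : Fin m → K) (bv j) = 0 := by rw [hf_bb hj, if_neg h]
theorem b1 {i j : ℕ} (h : i + j + 1 = m) : hf σ (bv i : Fin m → K) (bv j) = 1 := by rw [hf_bb (by omega), if_pos h]
theorem b00 : hf σ (bv 0 : Fin m → K) (bv 0) = 0 := have := d.hm; d.bb (by omega) (by omega)
theorem b11 : hf σ (bv 1 : Fin m → K) (bv 1) = 0 := have := d.hm; d.bb (by omega) (by omega)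
theorem b10 : hf σ (bv 1 : Fin m → K) (bv 0) = 0 := have := d.hm; d.bb (by omega) (by omega)
theorem b01 : hf σ (bv 0 : Fin m → K) (bv 1) = 0 := d.sw d.b10
theorem b0 : (bv 0 : Fin m → K) ≠ 0 := have := d.hm; bv_ne (by omega)
theorem out0 (h : hf σ x v ≠ 0) (e : hf σ (bv 0) v = 0) (c : K) : x ≠ c • bv 0 := fun k => h (by rw [k, hf_smul_l, e, mul_zero])
theorem ip01 : Ip σ (bv 0 : Fin m → K) (bv 1) := have := d.hm
  ip_of d.b00 d.b0 d.b11 d.b10 (d.out0 (v := bv (m - 2)) (by rw [d.b1 (by omega)]; exact one_ne_zero) (d.bb (by omega) (by omega)))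
theorem okt (h : hf σ v v = 0) (e : σ a = a) : Ok σ v 0 a := ok_tv d.iv h e
theorem ok1 (h : hf σ v v = 0) : Ok σ v 0 1 := ok_tv d.iv h (map_one σ)
theorem okp (p : Ip σ u v) (e : σ a = a) : Ok σ u v a := ⟨d.iv, p.uu, p.vu, by rw [e, p.vv, CharTwo.add_self_eq_zero]⟩
theorem tcf (h : Tc σ a) : σ a = a := by obtain ⟨s, rfl⟩ := h; rw [map_add, d.iv, add_comm]
theorem fix (o : Ok σ v n ζ) (h : hf σ n n = 0) : σ ζ = ζ := by have := o.tr; grind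
theorem isot (o : Ok σ v n ζ) (h : σ ζ = ζ) : hf σ n n = 0 := by rw [← o.tr, h, CharTwo.add_self_eq_zero]
theorem partner (v0 : v ≠ 0) : ∃ y, hf σ y v = 1 := (d.part ⊥ v v0).imp fun _ h => h.1
theorem part1 (h : ∀ c : K, x ≠ c • v) : ∃ y, hf σ y x = 1 ∧ hf σ y v = 0 :=
  (d.part _ x (nsp h)).imp fun _ k => ⟨k.1, k.2 v (Submodule.mem_span_singleton_self v)⟩
theorem val1 (h : ∀ c : K, x ≠ c • v) : ∃ y, hf σ y y = 0 ∧ hf σ y v = 0 ∧ hf σ x y = 1 :=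
  (d.val v v x 1 (by simpa using nsp h)).imp fun _ k => ⟨k.1, k.2.1, k.2.2.2⟩

theorem E_inj (o : Ok σ v n ζ) (o' : Ok σ v n' ζ') (v0 : v ≠ 0) (e : E σ v n ζ = E σ v n' ζ') :
    ∃ a : K, n' = n + a • v := by
  obtain ⟨y, k⟩ := d.partner v0
  have f := congrArg (· y) e
  simp only [E_ap o, E_ap o', k, one_smul, mul_one] at f
  exact ⟨hf σ y n + ζ + (hf σ y n' + ζ'), by linear_combination (norm := module) -f - vv ((hf σ y n' + ζ') • v)⟩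

theorem tv_inj (o : Ok σ u 0 a) (o' : Ok σ v 0 b) (a0 : a ≠ 0) (u0 : u ≠ 0) (e : E σ u 0 a = E σ v 0 b) :
    ∃ c : K, v = c • u := by
  obtain ⟨y, k⟩ := d.partner u0
  have f := congrArg (· y) e
  simp only [E_ap o, E_ap o', k, smul_zero, add_zero, hf_zero_r, zero_add, mul_one, add_right_inj] at f
  have z : b * hf σ y v ≠ 0 := fun z => smul_ne_zero a0 u0 (by rw [f, z, zero_smul])
  exact ⟨(b * hf σ y v)⁻¹ * a, by rw [mul_smul, f, inv_smul_smul₀ z]⟩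

theorem mQ : g ∈ Q σ (bv 0) ↔ ∃ n ζ, Ok σ (bv 0) n ζ ∧ g = E σ (bv 0) n ζ := mem_Q d.iv d.b00
theorem mZ : g ∈ Z σ (bv 0) ↔ ∃ a, σ a = a ∧ g = E σ (bv 0) 0 a := mem_Z d.iv d.b00

theorem E_line (o : Ok σ v (c • v) ζ) : E σ v (c • v) ζ = E σ v 0 (ζ + c + σ c) := by
  rw [← E_shift o c, vv]
theorem E_Z (o : Ok σ v n ζ) (e : n = c • v) : E σ v n ζ ∈ Z σ v := by subst e; exact d.E_line o ▸ tv_Z _ _
theorem of_Z (o : Ok σ (bv 0) n ζ) (i : E σ (bv 0) n ζ ∈ Z σ (bv 0)) : ∃ c : K, n = c • bv 0 := by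
  obtain ⟨a, f, e⟩ := d.mZ.1 i
  simpa using d.E_inj (d.okt d.b00 f) o d.b0 e.symm
theorem tv_line (c : K) : E σ (c • bv 0 : Fin m → K) 0 1 ∈ Z σ (bv 0) := by
  rw [tv_smul d.iv d.b00 (map_one σ)]; exact tv_Z _ _

theorem rk2 (p : Ip σ u v) (e : σ a = a) (h : ∀ y, E σ u v a y + y ∈ T) : u ∈ T ∧ v ∈ T := by
  obtain ⟨y, k, k'⟩ := d.part1 p.out
  obtain ⟨x, j, j'⟩ := d.part1 p.out'
  have h1 := h y
  have h2 := h x
  rw [E_ap (d.okp p e), k, k', show y + (0 : K) • v + (1 + a * 0) • u + y = u + (y + y) by module, vv, add_zero] at h1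
  rw [E_ap (d.okp p e), j, j', show x + (1 : K) • v + (0 + a * 1) • u + x = v + a • u + (x + x) by module, vv, add_zero] at h2
  exact ⟨h1, (add_mem_cancel_right (T.smul_mem a h1)).1 h2⟩

theorem rk1 (p : Ip σ u v) (e : σ a = a) (h : ∀ y, ∃ c : K, E σ u v a y = y + c • w) : False := by
  obtain ⟨i, j⟩ := d.rk2 (T := Submodule.span K {w}) p e fun y => by
    obtain ⟨c, f⟩ := h y
    rw [f, add_right_comm, vv, zero_add]; exact Submodule.smul_mem _ c (Submodule.mem_span_singleton_self w)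
  obtain ⟨s, rfl⟩ := Submodule.mem_span_singleton.1 i
  obtain ⟨r, rfl⟩ := Submodule.mem_span_singleton.1 j
  have s0 : s ≠ 0 := fun z => p.u0 (by rw [z, zero_smul])
  exact p.out (r * s⁻¹) (by rw [smul_smul, inv_mul_cancel_right₀ s0])

theorem nZ (k : Sem σ θ ξ) (e : ξ (bv 0) = c • bv 0) : ξ ∈ 𝐍 (Z σ (bv 0)) := mem_norm_of fun _ i => by
  obtain ⟨a, f, rfl⟩ := d.mZ.1 i
  rw [tv_cj k, e, tv_smul d.iv d.b00 (by rw [← k.com, f])]; exact tv_Z _ _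
theorem nQ (k : Sem σ θ ξ) (e : ξ (bv 0) = c • bv 0) : ξ ∈ 𝐍 (Q σ (bv 0)) := mem_norm_of fun _ i => by
  obtain ⟨n, ζ, o, rfl⟩ := d.mQ.1 i
  have c0 : c ≠ 0 := fun z => k.ne d.b0 (by rw [e, z, zero_smul])
  have o' := e ▸ o.cj k
  have := o'.nv
  rw [hf_smul_r, mul_eq_zero, map_eq_zero] at this
  rw [E_cj k, e, E_smul o' d.b00 (this.resolve_left c0)]; exact E_Q _ _ _
theorem lineZ (k : Sem σ θ ξ) (i : ξ * E σ (bv 0) 0 1 * ξ⁻¹ ∈ Z σ (bv 0)) : ∃ c : K, ξ (bv 0) = c • bv 0 := by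
  obtain ⟨a, f, e⟩ := d.mZ.1 i
  rw [tv_cj k, map_one] at e
  obtain ⟨c, j⟩ := d.tv_inj (d.ok1 (by rw [k.form, d.b00, map_zero])) (d.okt d.b00 f) one_ne_zero (k.ne d.b0) e
  have c0 : c ≠ 0 := fun z => d.b0 (by rw [j, z, zero_smul])
  exact ⟨c⁻¹, by rw [eq_inv_smul_iff₀ c0, ← j]⟩
theorem lineN (k : Sem σ θ ξ) (i : ξ ∈ 𝐍 (Z σ (bv 0))) : ∃ c : K, ξ (bv 0) = c • bv 0 :=
  d.lineZ k (conj_mem_of_norm i (tv_Z _ _))

theorem QS : Q σ v ≤ SU σ m := (closure_le _).2 fun _ ⟨_, _, e⟩ => e ▸ d.esu _ _ _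
theorem US : UT σ m ≤ SU σ m := d.syl.le
theorem UY : UT σ m ≤ Y σ (bv 0) := fun _ i => ⟨d.US i, U_e0 i⟩
theorem YP : Y σ (bv 0) ≤ SU σ m ⊓ 𝐍 (Z σ (bv 0)) := fun _ i => ⟨i.1, d.nZ (c := 1) (su_sem i.1) (i.2.trans (one_smul _ _).symm)⟩
theorem PQ : SU σ m ⊓ 𝐍 (Z σ (bv 0)) ≤ 𝐍 (Q σ (bv 0)) := fun _ i =>
  let ⟨_, e⟩ := d.lineN (su_sem i.1) i.2; d.nQ (su_sem i.1) e
theorem EY (e : hf σ v (bv 0) = 0) (e' : hf σ n (bv 0) = 0) (a : K) : E σ v n a ∈ Y σ (bv 0) :=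
  ⟨d.esu _ _ _, E_fix (d.sw e) (d.sw e') a⟩
theorem sylU : Syl 2 (UT σ m) (SU σ m) :=
  syl_of_max d.US (piGrp_of_isPGroup p2 UT_two) fun _ a b c => d.syl.2.2 _ b.isPGroup c a
theorem cZ : Z σ (bv 0 : Fin m → K) ≤ 𝐂 (Y σ (bv 0)) := fun _ i => mem_cent.2 fun g j => by
  obtain ⟨a, -, rfl⟩ := d.mZ.1 i
  rw [← mul_inv_eq_iff_eq_mul, tv_cj1 (su_sem j.1), show g (bv 0) = bv 0 from j.2]
theorem Qap (i : g ∈ Q σ (bv 0)) (h : hf σ x (bv 0) = 0) : ∃ c : K, g x = x + c • bv 0 := by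
  obtain ⟨n, ζ, o, rfl⟩ := d.mQ.1 i
  exact ⟨_, by rw [E_ap o, h, zero_smul, add_zero]⟩
theorem Zap (i : g ∈ Z σ (bv 0)) (h : hf σ x (bv 0) = 0) : g x = x := by
  obtain ⟨a, -, rfl⟩ := d.mZ.1 i
  exact E_fix h (hf_zero_r x) a

/-- the commutator of an element of `Q` with an element of `Y` -/
theorem cmE (o : Ok σ (bv 0) n ζ) (i : l ∈ Y σ (bv 0)) : ∃ ζ', Ok σ (bv 0) (n + l n) ζ' ∧
    ⁅E σ (bv 0) n ζ, l⁆ = E σ (bv 0) (n + l n) ζ' := by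
  have k := su_sem i.1
  have e : l (bv 0) = bv 0 := i.2
  have o' := o.inv.cj k
  rw [e] at o'
  exact ⟨_, o.mul o', by rw [← E_mul o o', commutatorElement_def, ← e, ← E_cj k, e, E_inv o]; group⟩
theorem cmZ (o : Ok σ (bv 0) n ζ) (i : l ∈ Y σ (bv 0)) (h : ⁅E σ (bv 0) n ζ, l⁆ ∈ Z σ (bv 0)) : ∃ c : K, l n = n + c • bv 0 := by
  obtain ⟨ζ', o', e⟩ := d.cmE o i
  obtain ⟨c, f⟩ := d.of_Z o' (e ▸ h)
  exact ⟨c, by rw [← f, ← add_assoc, vv, zero_add]⟩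

theorem wY (p : Ip σ (bv 0) n) : ∃ l ∈ Y σ (bv 0), l (bv 1) = n :=
  let ⟨g, i, e, f⟩ := d.w2 _ _ _ _ d.ip01 p; ⟨g, ⟨i, e⟩, f⟩
theorem clY (o : Ok σ (bv 0) n ζ) (t : Tc σ ζ) (h : ∀ c : K, n ≠ c • bv 0) :
    Cl (Y σ (bv 0)) (E σ (bv 0) (bv 1) 0) (E σ (bv 0) n ζ) := by
  have i := d.isot o (d.tcf t)
  obtain ⟨s, rfl⟩ := t
  have o' := o.shift s
  obtain ⟨l, j, e⟩ := d.wY (ip_of d.b00 d.b0 (v := n + s • bv 0) (by simp [i, o.nv, o.vn, d.b00]) o'.nv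
    fun c e => h (c + s) (by rw [add_smul, ← e, add_assoc, vv, add_zero]))
  exact ⟨l, j, by
    rw [E_cj1 (su_sem j.1), show l (bv 0) = bv 0 from j.2, e, ← E_shift o s, add_assoc, CharTwo.add_self_eq_zero]⟩
theorem clS (o : Ok σ (bv 0) n ζ) (t : Tc σ ζ) (h : ∀ c : K, n ≠ c • bv 0) :
    Cl (SU σ m) (E σ (bv 0) (bv 1) 0) (E σ (bv 0) n ζ) := let ⟨l, j, e⟩ := d.clY o t h; ⟨l, j.1, e⟩
theorem tcb (o : Ok σ (bv 0) n ζ) (h : Cl (SU σ m) (E σ (bv 0) (bv 1) 0) (E σ (bv 0) n ζ)) :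
    Tc σ ζ ∧ ∀ c : K, n ≠ c • bv 0 := by
  obtain ⟨g, i, e⟩ := h
  have k := su_sem i
  rw [E_cj1 k] at e
  refine ⟨d.clb n ζ _ _ o (d.ip01.cj k) e.symm, fun c f => d.rk1 (w := bv 0) (d.ip01.cj k) (map_zero σ) fun y => ?_⟩
  subst f
  exact ⟨_, by rw [e, E_ap o, smul_smul, add_assoc, ← add_smul]⟩

end Gm
end CF.Sq
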