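import Cfsg.Agent.Sq.T1
import Cfsg.Agent.Dq.P3

/-! Elementary abelian subgroups and involutions of the semilinear symplectic group. -/

set_option autoImplicit false
set_option linter.unusedSectionVars false
set_option linter.unusedVariables false

namespace CF.Sq

open Cfsg Subgroup Equiv CF.Loc CF.LX CF.Ud CF.Geom Module
open CF.Dbl (El)
open scoped commutatorElement

variable {K : Type} [Field K] [Fintype K] [CharP K 2] {m j : ℕ} {σ θ θ' : K ≃+* K} {a b c : K}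
  {g ξ ξ' α w : Perm (Fin m → K)} {u v x z n : Fin m → K} {A B P H : Subgroup (Perm (Fin m → K))} {T : Submodule K (Fin m → K)}

theorem th_two (e : θ * θ = 1) (e' : θ' * θ' = 1) (n : θ ≠ 1) (n' : θ' ≠ 1) : θ = θ' :=
  have := cycA (K := K)
  have : Finite (K ≃+* K) := .of_injective _ DFunLike.coe_injective
  Known.eq_of_orderOf_two (orderOf_eq_prime (by rw [pow_two, e]) n) (orderOf_eq_prime (by rw [pow_two, e']) n')
theorem ex_om (e : θ * θ = 1) (n : θ ≠ 1) : ∃ ω : K, ω + θ ω = 1 := by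
  obtain ⟨c, n⟩ := not_forall.1 (mt RingEquiv.ext n)
  have h : θ (θ c) = c := DFunLike.congr_fun e c
  have : c + θ c ≠ 0 := fun k => n (by change θ c = c; grind)
  exact ⟨c / (c + θ c), by rw [map_div₀, map_add, h, add_comm (θ c), ← add_div, div_self this]⟩
theorem sem_ext (l : Sem σ θ ξ) (l' : Sem σ θ ξ') (e : ∀ i : Fin m, ξ (bv i.val) = ξ' (bv i.val)) : ξ = ξ' := Equiv.ext fun x => by
  rw [← sum_bv x, l.sum, l'.sum]; simp only [l.smul, l'.smul, e]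

namespace J4
variable (s : Dq.Sm K m)
include s
theorem card_W : Nat.card (WW (1 : K ≃+* K) m) = Nat.card K ^ (m / 2 * (m / 2 + 1) / 2) := by
  have y := Dq.P2.sy (F := K) s.ev
  have := y.S_dim (Vf K m (m / 2))
  rw [s.Vl_dim] at this
  rw [Dq.P2.card_W y s.Vl_ti, ← this, Nat.mul_div_cancel_left _ two_pos]
theorem j1g (l : A ≤ Gam 1 m) (e : El A) (i : α ∈ A) (n : ¬ Sem 1 1 α) : Nat.card A ^ 2 ≤ 4 * Nat.card (WW (1 : K ≃+* K) m) := by
  classical
  have y := Dq.P2.sy (F := K) s.ev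
  obtain ⟨h1, -⟩ := y.main (m / 2) ⊥ _ (Dq.P2.ca (inf_le_right (a := A)) (el_mono e inf_le_left)) (by simp) (by simp) (by
    have := s.half; simp; omega)
  obtain ⟨θ, k⟩ := l i
  have h3 := Dq.P2.card_le2 inf_le_right (fun a (i : a ∈ A ⊓ GU 1 m) => Submodule.subset_span (Set.mem_image_of_mem Dq.P2.dl i)) k (fun e => n (e ▸ k))
    fun a u => el_cm e u.1 i
  have t : ∀ a ∈ A, ∀ θ, Sem 1 θ a → θ * θ = 1 := fun a i θ k => s.sem_uq (k.mul k) (e a i ▸ sem_one)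
  have h4 : (GU (1 : K ≃+* K) m).relIndex A ≤ 2 := by
    simpa using cnt1 (A := A) (B := GU 1 m) (ι := Unit) Set.univ (fun a _ => decide (Sem (1 : K ≃+* K) 1 a)) (fun _ _ _ => trivial)
      (fun a i b j _ _ e => by
        obtain ⟨θ, p⟩ := l i; obtain ⟨θ', q⟩ := l j
        have : θ = θ' := by
          by_cases r : θ = 1
          · subst r; exact s.sem_uq (by simpa [p] using e) q
          · exact th_two (t a i θ p) (t b j θ' q) r fun r' => r (s.sem_uq p (by subst r'; simpa [q] using e))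
        change Sem 1 1 _
        simpa [this] using p.inv.mul q) fun _ _ _ _ => rfl
  rw [card_W s, ← card_ri A (GU 1 m), mul_pow, mul_comm, pow_two (Nat.card _)]
  exact Nat.mul_le_mul (Nat.pow_le_pow_left h4 2) (h3.trans (Nat.pow_le_pow_right Nat.card_pos (by omega)))
theorem step (l : Sem 1 θ α) (e : α * α = 1) (n : θ ≠ 1) (h : hf 1 x z = 1) : ∃ g ∈ SU (1 : K ≃+* K) m, (g * α * g⁻¹) x = x ∧
    (g * α * g⁻¹) z = z ∧ ∀ f, α f = f → hf 1 x f = 0 → hf 1 z f = 0 → g f = f := by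
  obtain ⟨y, a1, a2, a3⟩ := s.rat0 l e n (h.trans_ne one_ne_zero)
  obtain ⟨y', b1, b2, b3⟩ := s.rat1 l e n (Dq.hf_comm y z ▸ a2) a1
  have mv := fun T u v => s.move (H := SU 1 m) (T := T) (u := u) (v := v) fun w _ => tv_SU w 1
  obtain ⟨g, i, p, q, r⟩ := mv (pp 1 (Submodule.span K {y, y', x, z})) y x
    (fun k => one_ne_zero (b2.symm.trans (Dq.hf_sw (mem_pp_span.1 k y' (by simp)))))
    (fun k => one_ne_zero (h.symm.trans (mem_pp_span.1 k z (by simp))))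
    fun f k => (mem_pp_span.1 k y (by simp)).trans (mem_pp_span.1 k x (by simp)).symm
  have c : hf 1 (g y') x = 1 := by rw [← r, p.form1, b2]
  obtain ⟨g', i', p', q', r'⟩ := mv (pp 1 (Submodule.span K {g y' + z, x})) (g y') z
    (fun k => one_ne_zero (c.symm.trans (mem_pp_span.1 k x (by simp))))
    (fun k => one_ne_zero (h.symm.trans (Dq.hf_sw (mem_pp_span.1 k x (by simp)))))
    fun f k => by have := mem_pp_span.1 k (g y' + z) (by simp); rw [hf_add_r] at this; grind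
  have x1 : g' x = x := q' x (mem_pp_span.2 (by simp [s.iso, h, Dq.hf_comm x (g y'), c, CharTwo.add_self_eq_zero]))
  refine ⟨g' * g, mul_mem i' i, ?_, ?_, fun f k f1 f2 => ?_⟩
  · rw [← x1, ← r]; simp [a1]
  · rw [← r']; simp [b1]
  have : g f = f := q f (mem_pp_span.2 (by simp [Dq.hf_comm f, a3 f k f1, b3 f k f2, f1, f2]))
  rw [Perm.mul_apply, this]
  exact q' f (mem_pp_span.2 (by
    have : hf 1 f (g y') = 0 := by rw [← this, p.form1, Dq.hf_sw (b3 f k f2)]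
    simp [this, Dq.hf_sw f1, Dq.hf_sw f2]))
theorem lang (l : Sem 1 θ α) (e : α * α = 1) (n : θ ≠ 1) : ∃ g ∈ SU (1 : K ≃+* K) m, g * α * g⁻¹ = cw θ := by
  have h := s.half
  have k : ∀ j ≤ m / 2, ∃ g ∈ SU (1 : K ≃+* K) m, ∀ i < m, i < j ∨ m - 1 - i < j → (g * α * g⁻¹) (bv i) = bv i := fun j => by
    induction j with
    | zero => exact fun _ => ⟨1, one_mem _, by simp⟩
    | succ j ih =>
      intro o
      obtain ⟨g, i, p⟩ := ih (by omega)
      obtain ⟨g', i', q, r, t⟩ := step s (α := g * α * g⁻¹) (x := bv j) (z := bv (m - 1 - j))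
        (by simpa using ((su_sem i).mul l).mul (su_sem i).inv) (by rw [← conj_mul_conj, e]; simp) n (by rw [hf_bb (by omega), if_pos (by omega)])
      refine ⟨g' * g, mul_mem i' i, fun a b c => ?_⟩
      rw [show g' * g * α * (g' * g)⁻¹ = g' * (g * α * g⁻¹) * g'⁻¹ by group]
      by_cases c' : a < j ∨ m - 1 - a < j
      · have := t _ (p a b c') (by rw [hf_bb b, if_neg (by omega)]) (by rw [hf_bb b, if_neg (by omega)])
        rw [Perm.mul_apply, Perm.inv_eq_iff_eq.2 this.symm, Perm.mul_apply, p a b c', this]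
      obtain rfl | rfl : a = j ∨ a = m - 1 - j := by omega
      exacts [q, r]
  obtain ⟨g, i, p⟩ := k _ le_rfl
  exact ⟨g, i, sem_ext (by simpa using ((su_sem i).mul l).mul (su_sem i).inv) (cw_sem (σ := 1) fun _ => rfl) fun a =>
    (p a a.2 (by omega)).trans (cw_bv θ a).symm⟩
theorem peel (l : Ti 1 T) (i : w ∈ WX 1 T) : ∃ S : Set (Fin m → K), S ⊆ T ∧ LinearIndepOn K id S ∧
    ∀ θ ξ, Sem 1 θ ξ → (∀ x ∈ S, ξ x = x) → ξ * w = w * ξ := by
  induction T using WellFoundedLT.induction generalizing w with | _ T ih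
  by_cases n : w = 1
  · exact ⟨∅, Set.empty_subset _, linearIndepOn_empty _ _, fun _ _ _ _ => by simp [n]⟩
  have ins : ∀ {S : Set (Fin m → K)} {u} x, LinearIndepOn K id S → (∀ s ∈ S, hf 1 s x = 0) → hf 1 u x ≠ 0 →
      LinearIndepOn K id (insert u S) := fun x a b c => a.id_insert fun k => c (mem_perp_singleton.1
    (Submodule.span_le.2 (fun s j => mem_perp_singleton.2 (b s j)) k : _ ∈ pp 1 (Submodule.span K {x})))
  have cm : ∀ {g ξ}, ξ * (w * g) = w * g * ξ → ξ * g * ξ⁻¹ = g → ξ * w = w * ξ := fun a b => by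
    simpa using (Commute.mul_right a (Commute.inv_right (conj_eq_iff.1 b))).eq
  by_cases al : ∀ x, hf 1 (w x) x = 0
  · obtain ⟨x, y, e, f⟩ := s.al_step l i al n
    have j := mul_mem i (E_W (σ := 1) (W_add i x) (W_add i y) 0)
    have a : ∀ z, hf 1 (w z + z) z = 0 := fun z => by rw [hf_add_l, al, s.iso, add_zero]
    have e' : hf 1 (w y + y) x = 1 := by rw [W_sa l i, Dq.hf_comm, e]
    obtain ⟨S, a1, a2, a3⟩ := ih (T ⊓ pp 1 (Submodule.span K {x, y})) (lt_of_le_of_ne inf_le_left fun k =>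
      one_ne_zero (e.symm.trans (mem_perp_pair.1 (k.ge (W_add i x)).2).2)) (Dq.ti_mono l inf_le_left)
      ⟨j.1, fun z => ⟨j.2 z, mem_perp_pair.2 (by
        simp only [sq_ap, vsub, f, hf_add_l (_ + _), hf_smul_l, a, e, e', W_sa l i z]; grind)⟩⟩
    refine ⟨insert (w x + x) (insert (w y + y) S), Set.insert_subset (W_add i x) (Set.insert_subset (W_add i y) fun z k => (a1 k).1),
      ins y (ins x a2 (fun z k => (mem_perp_pair.1 (a1 k).2).1) (e'.trans_ne one_ne_zero)) ?_ (e.trans_ne one_ne_zero),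
      fun θ ξ k r => cm (a3 θ ξ k fun z o => r z (.inr (.inr o))) (by rw [E_cj k, r _ (.inl rfl), r _ (.inr (.inl rfl)), map_zero])⟩
    rintro z (rfl | k)
    exacts [a y, (mem_perp_pair.1 (a1 k).2).2]
  obtain ⟨x, h⟩ := not_forall.1 al
  obtain ⟨c, e⟩ := exists_rt (hf 1 (w x) x)⁻¹
  have v := T.smul_mem c (W_add i x)
  have j := mul_mem i (E_W (σ := 1) v (zero_mem _) 1)
  have o : hf 1 (c • (w x + x)) x ≠ 0 := by rw [hf_smul_l, hf_add_l, s.iso]; grind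
  obtain ⟨S, a1, a2, a3⟩ := ih (T ⊓ pp 1 (Submodule.span K {x})) (lt_of_le_of_ne inf_le_left fun k =>
    o (mem_perp_singleton.1 (k.ge v).2)) (Dq.ti_mono l inf_le_left) ⟨j.1, fun z => ⟨j.2 z, mem_perp_singleton.2 (by
      rw [sq_ap, vsub, Perm.mul_apply, s.tv_ap, i.1.add, i.1.smul1, W_fix i (l _ v), add_right_comm, hf_add_l, hf_smul_l, hf_smul_l,
        Dq.hf_smr, ← W_sa l i z, hf_add_l (w x), s.iso]; grind)⟩⟩
  exact ⟨insert (c • (w x + x)) S, Set.insert_subset v fun z k => (a1 k).1, ins x a2 (fun z k => mem_perp_singleton.1 (a1 k).2) o,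
    fun θ ξ k r => cm (a3 θ ξ k fun z o => r z (.inr o)) (by rw [tv_cj k, r _ (.inl rfl), map_one])⟩
theorem rat (i : Sem 1 1 g) (e : g * g = 1) (θ : K ≃+* K) :
    ∃ r ∈ SU (1 : K ≃+* K) m, r * g * r⁻¹ ∈ 𝐂₁((cw θ : Perm (Fin m → K))) := by
  have l := Dq.rg_ti i e
  obtain ⟨S, a1, a2, a3⟩ := peel s l (Dq.W_rg i)
  have := Fintype.ofFinite S
  have c : Fintype.card S ≤ m / 2 := ((finrank_span_eq_card a2).symm.le.trans (Submodule.finrank_mono (Submodule.span_le.2 (by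
    rintro _ ⟨x, rfl⟩; exact a1 x.2)))).trans (s.ti_le l)
  let f := Fintype.equivFin S
  obtain ⟨r, j, k⟩ := s.witt0' a2 ((li_bv (K := K) (c.trans (Nat.div_le_self m 2))).comp f f.injective) fun x y =>
    (l _ (a1 x.2) _ (a1 y.2)).trans (s.Vl_ti _ (bv_mem ((f x).2.trans_le c)) _ (bv_mem ((f y).2.trans_le c))).symm
  have := a3 θ (r⁻¹ * cw θ * r) (by simpa using ((su_sem j).inv.mul (cw_sem (σ := 1) (θ := θ) fun _ => rfl)).mul (su_sem j)) fun x o => by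
    have : r x = _ := k ⟨x, o⟩
    rw [Perm.mul_apply, Perm.mul_apply, this, Function.comp, cw_bv, Perm.inv_eq_iff_eq]; exact this.symm
  exact ⟨r, j, mem_c1.2 (by simpa [mul_assoc] using congrArg (fun x => r * x * r⁻¹) this.symm)⟩
end J4

namespace Sd
variable (d : Sd σ m)
include d
theorem card_W : Nat.card (WW σ m) = Nat.card K ^ (m / 2 * (m / 2 + 1) / 2) := by obtain rfl := d.one; exact J4.card_W d.sm
theorem j1g (l : A ≤ Gam σ m) (e : El A) (i : α ∈ A) (n : ¬ Sem σ 1 α) : Nat.card A ^ 2 ≤ 4 * Nat.card (WW σ m) := by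
  obtain rfl := d.one; exact J4.j1g d.sm l e i n
theorem lang (l : Sem σ θ α) (e : α * α = 1) (n : θ ≠ 1) : ∃ g ∈ SU σ m, g * α * g⁻¹ = cw θ := by
  obtain rfl := d.one; exact J4.lang d.sm l e n
theorem rat (i : Sem σ 1 g) (e : g * g = 1) (θ : K ≃+* K) : ∃ r ∈ SU σ m, r * g * r⁻¹ ∈ 𝐂₁((cw θ : Perm (Fin m → K))) := by
  obtain rfl := d.one; exact J4.rat d.sm i e θ
theorem j2 (l : A ≤ Gam σ m) (e : El A) (c : Nat.card (WW σ m) ≤ Nat.card A) : ∃ T, Ti σ T ∧ finrank K T = m / 2 ∧ A = WX σ T := by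
  obtain rfl := d.one; exact d.sm.j2 d.hm l e c
theorem m3 (i : Sem σ 1 g) (e : g * g = 1) : ∃ r ∈ SU σ m, r * g * r⁻¹ ∈ WW σ m := by obtain rfl := d.one; exact d.sm.m3 i e
theorem W_norm (i : ξ ∈ Gam σ m) : ξ ∈ 𝐍(WW σ m) ↔ ∀ x ∈ Vf K m (m / 2), ξ x ∈ Vf K m (m / 2) := by
  obtain rfl := d.one; exact d.sm.W_norm i
theorem fl_cj (l : P ≤ Gam σ m) (two : IsPGroup 2 P) : ∃ g ∈ SU σ m, ∀ p ∈ cj[g] P, p ∈ Gam σ m ∧ Fl p := by
  obtain ⟨g, i, e⟩ := Ud.Sx.cj_norm d.U_syl two fun x j => mem_normalizer_fintype fun _ => (l j).choose_spec.su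
  exact ⟨g, i, fun p h => have k := cj_le_of_mem (GU_le (SU_le i)) l h; ⟨k, (d.U_norm k).1 (e h)⟩⟩
theorem jF (l : ∀ a ∈ A, a ∈ Gam σ m ∧ Fl a) (e : El A) (c : Nat.card (WW σ m) ≤ Nat.card A) : A = WW σ m := by
  obtain ⟨T, t, r, rfl⟩ := d.j2 (fun a i => (l a i).1) e c
  obtain rfl := d.one
  congr 1
  refine Submodule.eq_of_le_of_finrank_eq (fun x i => by_contra fun n => n (d.sm.Vl_pp fun y j => by_contra fun o => n ?_))
    (r.trans d.Vl_dim.symm)
  have := (l _ (E_W i (zero_mem _) 1)).2 _ y j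
  rw [d.sm.tv_ap, Submodule.add_mem_iff_right _ j, one_mul] at this
  exact (Submodule.smul_mem_iff _ (Dq.hf_comm x y ▸ o)).1 this
theorem ju (l : P ≤ Gam σ m) (two : IsPGroup 2 P) (a : A ≤ P) (e : El A) (c : Nat.card (WW σ m) ≤ Nat.card A)
    (b : B ≤ P) (e' : El B) (c' : Nat.card (WW σ m) ≤ Nat.card B) : A = B := by
  obtain ⟨g, -, f⟩ := d.fl_cj l two
  exact cj_inj.1 ((d.jF (fun x i => f x (cj_mono g a i)) (el_cj e g) (card_cj g A ▸ c)).trans
    (d.jF (fun x i => f x (cj_mono g b i)) (el_cj e' g) (card_cj g B ▸ c')).symm)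
theorem W64 : 64 ≤ Nat.card (WW σ m) := by
  have := d.hm
  have : 3 * 4 ≤ m / 2 * (m / 2 + 1) := Nat.mul_le_mul (by omega) (by omega)
  rw [d.card_W]
  exact (Nat.pow_le_pow_right two_pos (show 6 ≤ _ by omega)).trans (Nat.pow_le_pow_left Finite.one_lt_card _)
theorem g1 (i : g ∈ UT σ m) (e : g * g = 1) : ∃ B ≤ UT σ m, El B ∧ g ∈ B ∧ 4 * Nat.card (WW σ m) < Nat.card B ^ 2 := by
  have t := Vf_ti (σ := σ) (m := m) le_rfl
  have c := d.W64
  by_cases z : g ∈ WW σ m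
  · exact ⟨WW σ m, d.W_le, d.W_el t, z, by nlinarith⟩
  have l := su_sem (d.U_SU i)
  have f := (d.U_norm ⟨1, l⟩).1 (le_normalizer i) (m / 2)
  have b := bv_mem (A := K) (m := m) (show 0 < m / 2 by have := d.hm; omega)
  have h2 := (Ud.half (d.W_el t) ((d.W_norm ⟨_, l⟩).2 f) e).2 (E σ (bv 0) 0 1) ⟨E_W b (zero_mem _) _, mem_c1.2 (conj_eq_iff.1 (by
    rw [tv_cj1 l, U_e0 i])).symm⟩ fun w j k => by
      obtain rfl := d.one
      obtain ⟨x, o⟩ := d.partner d.b0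
      have k := congrArg (fun p : Perm _ => hf 1 (p x + x) (g x)) k
      have g2 : ∀ x, g (g x) = x := fun x => congrArg (· x) e
      have o' : hf 1 (bv 0) (g x) = 1 := by rw [← U_e0 i, l.form1, d.comm, o]
      have h3 : hf 1 ((g * w * g⁻¹) x + x) (g x) = hf 1 (w x + x) (g x) := by
        rw [Dq.P3.inv_eq e, Perm.mul_apply, Perm.mul_apply, d.comm (w x + x), ← W_sa t j, ← l.form1 (_ + _) x, l.add, g2]
      simp only [Dq.P3.mul_ap d.sm (W_cj l f j) j, add_right_comm _ _ x, hf_add_l (_ + x), h3, d.sm.tv_ap, o, hf_smul_l, vv, hf_add_l 0,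
        o'] at k
      simp [CharTwo.add_self_eq_zero] at k
  have el := el_mono (d.W_el t) (inf_le_left (b := 𝐂₁(g)))
  have n : zpowers g ≤ 𝐂(WW σ m ⊓ 𝐂₁(g)) := zpowers_le.2 (mem_centralizer_iff'.2 fun x j => mem_c1.1 j.2)
  refine ⟨(WW σ m ⊓ 𝐂₁(g)) ⊔ zpowers g, sup_le (inf_le_left.trans d.W_le) (zpowers_le.2 i), fun x j => ?_,
    mem_sup_right (mem_zpowers g), ?_⟩
  · obtain ⟨w, a, y, b, rfl⟩ := (mem_sup_of_le_normalizer (n.trans (centralizer_le_normalizer _))).1 j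
    rw [mul_assoc, ← mul_assoc y, ← mem_centralizer_iff'.1 (n b) w a, mul_assoc, ← mul_assoc w, el w a, one_mul]
    obtain ⟨s, rfl⟩ := b
    rw [← Commute.mul_zpow rfl, e, one_zpow]
  obtain ⟨s, r⟩ := card_dvd_of_le (le_sup_left (a := WW σ m ⊓ 𝐂₁(g)) (b := zpowers g))
  have : s ≠ 1 := fun u => z (mem_inf.1 ((eq_of_le_of_card_ge le_sup_left (by rw [r, u, mul_one])).ge
    (mem_sup_right (mem_zpowers g)))).1
  have : s ≠ 0 := fun u => Nat.card_pos.ne' (r.trans (by rw [u, mul_zero]))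
  have := Nat.mul_le_mul h2 (Nat.pow_le_pow_left (show 2 ≤ s by omega) 2)
  rw [r, mul_pow]; exact lt_of_lt_of_le (by unfold WW at c ⊢; omega) this
theorem good (l : Sem σ θ α) (e : α * α = 1) (n : θ ≠ 1) : ∃ r ∈ ⁅SU σ m ⊓ 𝐂₁(α), SU σ m ⊓ 𝐂₁(α)⁆, r * r = 1 ∧ r ≠ 1 ∧
    ∃ g ∈ SU σ m, g * α * g⁻¹ = α * r := by
  obtain ⟨ω, o⟩ := ex_om (d.typ (l.mul l) (e ▸ sem_one)) n
  obtain ⟨b, fx, hb, b1⟩ : ∃ b : ℕ → Fin m → K, (∀ j, α (b j) = b j) ∧ (∀ a c, c < m → hf σ (b a) (b c) = if a + c + 1 = m then 1 else 0) ∧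
      E σ (b 0) (b 1) 0 ≠ 1 := by
    obtain ⟨h, i, k⟩ := d.lang l e n
    have s := (su_sem i).inv1
    refine ⟨fun j => h⁻¹ (bv j), fun j => ?_, fun a b c => by rw [s.form1, hf_bb c], fun k => d.ntv d.pr01 (x := 0) (b := 0) (a := 0) ?_⟩
    · rw [Perm.eq_inv_iff_eq]; exact (congrArg (· (bv j)) k).trans (cw_bv θ j)
    · rw [← E_cj1 s, conj_eq_one_iff] at k; rw [k, E_zero]
  have hm := d.hm
  have c : ∀ a c, E σ (b a) (b c) 0 ∈ SU σ m ⊓ 𝐂₁(α) := fun a b =>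
    ⟨d.E_SU _ _ _, mem_c1.2 (conj_eq_iff.1 (by rw [E_cj l, fx, fx, map_zero])).symm⟩
  have h0 : ∀ a c, a + c + 1 < m → hf σ (b a) (b c) = 0 := fun a b c => by rw [hb a b (by omega), if_neg c.ne]
  have p := h0 1 0 (by omega)
  have := cong_mem (c 1 2) (c 0 (m - 3)) (d.E_sq _ _ _)
  rw [E_cj1 (E_sem _ _ _), E_fix (h0 0 1 (by omega)) (h0 0 2 (by omega)), E_ap (d.ok (h0 2 1 (by omega)) _), h0 _ 1 (by omega),
    hb _ 2 (by omega), if_pos (by omega), d.E_mul (by simp [h0 _ 0 (show m - 3 + 0 + 1 < m by omega), p]) (h0 _ 0 (by omega))] at this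
  simp only [zero_smul, add_zero, mul_zero, one_smul, add_right_comm _ _ (b (m - 3)), vv, zero_add, hf_add_r, d.iso,
    h0 _ 1 (show m - 3 + 1 + 1 < m by omega)] at this
  refine ⟨_, this, d.E_sq _ _ _, b1, E σ (b 0) (ω • b 1) 0, d.E_SU _ _ _, ?_⟩
  have := E_cj l (b 0) (ω • b 1) 0
  rw [l.smul, fx, fx, map_zero, inv_eq_of_mul_eq_one_right e] at this
  have q := d.E_mul (v := b 0) (n := θ ω • b 1) (n' := ω • b 1) (by simp [p]) (by simp [p]) 0 0
  rw [← add_smul, add_comm, o, one_smul, ← this, hf_smul_l, hf_smul_r, d.iso] at q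
  simp only [mul_zero, add_zero] at q
  rw [d.E_inv, ← q]
  simp [← mul_assoc, e]
end Sd

end CF.Sq
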