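import Cfsg.Agent.Sq.N1b

/-! The multiplication rule of the doubled elements. -/

set_option autoImplicit false
set_option linter.unusedSectionVars false
set_option linter.unusedVariables false

namespace CF.Sq

open Cfsg Subgroup Equiv CF.Loc CF.LX CF.Ud Module TI
open scoped commutatorElement

variable {K : Type} [Field K] [Fintype K] [CharP K 2] {m : ℕ} {σ θ : K ≃+* K} {a b c r μ ζ : K}
  {g : Perm (Fin m → K)} {X : Type*} [Group X] [Finite X] {ρ : SU σ m →* X} {s : X} {u v w n p y u' v' n' : Fin m → K}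
  {β β' : (Fin m → K) → (Fin m → K) → X} {ω : (Fin m → K) → X} {τ : TI σ m}

theorem cc9 {a b c d e f : X} (hb : b * b = 1) (hc : c * c = 1) (hf : f * f = 1) (bc : Commute b c) (cd : Commute c d)
    (cf : Commute c f) (fe : Commute f e) : a * b * c * (b * d * f) * (c * e * f) = a * d * e := by
  calc _ = a * (b * c) * b * d * (f * c) * (e * f) := by simp only [mul_assoc]
    _ = a * (c * (b * b) * d) * c * (f * f) * e := by rw [bc.eq, ← cf.eq, ← fe.eq]; simp only [mul_assoc]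
    _ = a * d * (c * c) * e := by rw [hb, hf, mul_one, mul_one, cd.eq]; simp only [mul_assoc]
    _ = _ := by rw [hc, mul_one]

theorem Bt.mv (d : Sd σ m) (f : Bt ρ s β μ) (u v : τ.T) (D D' : τ.N) (z : X) :
    z * wl ρ D * (β u v * wl ρ D') = z * β u v * wl ρ (D + D') := by
  rw [mul_assoc z, ← mul_assoc (wl ρ D), f.cw d, wl_add]; simp only [mul_assoc]

variable (ω) in
/-- the defect of additivity of `w'` -/
def Pw (u v : Fin m → K) : X := ω (u + v) * ω u * ω v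

namespace W1
variable (d : Sd σ m) (f : Bt ρ s β μ) (k : W1 ρ β ω)
include d f k

theorem vl (e : hf σ u v = 0) : Vl ρ s u v ((1 + μ) • v) (Pw ω u v) := by
  obtain ⟨τ, u, v, rfl, rfl⟩ := d.ti2 e
  have h := ((k.tw d f u v v (u + v) fun g i a b _ => by simp [(su_sem i).add, a, b]).mul (k.tw d f u v v u fun _ _ a _ _ => a)).mul
    (k.tw d f u v v v fun _ _ _ a _ => a)
  refine ⟨fun y j0 => ?_, h.conj.trans ?_⟩
  · obtain ⟨g, j, j', rfl⟩ := mem_im.1 j0
    exact (h.cg g j' j.1.2 j.2.2 j.2.2).eq.symm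
  · rw [ev_eq']; congr 2; simp only [qd_add]; clear * -; match_scalars <;> grind
theorem p2 (e : hf σ u v = 0) : Pw ω u v * Pw ω u v = 1 := by
  have a := k.ww (u + v) u (by simp [d.iso, d.sw e]); have b := k.ww (u + v) v (by simp [d.iso, e]); have c := k.ww u v e
  rw [Pw, ← pow_two, (b.mul_left c).mul_pow, a.mul_pow]; simp [pow_two, k.sq]
theorem pp : ∃ a b x, (∀ u v, Pr σ u v → Pw ω u v = β u ((1 + μ) • v) * e3 ρ u v a b x) ∧ (μ = 1 → ∀ v, ω v = tv ρ v x) := by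
  by_cases c0 : μ = 1
  swap
  · have c0' : 1 + μ ≠ 0 := fun o => c0 (by clear * - o; grind)
    obtain ⟨a, b, x, h⟩ := Eq2.unif d f.toC0 c0' (β := fun u v => β u ((1 + μ) • v)) (β' := Pw ω)
      (fun g i u v p => by rw [f.eqv g i _ _ (p.smr c0').2, (su_sem i).smul1])
      (fun g i u v p => by rw [Pw, conj_mul_conj, conj_mul_conj, k.we g i, k.we g i, k.we g i, (su_sem i).add, Pw])
      (fun u v p => (f.vl d (p.smr c0').2).mono (Yy_le (a := 1) (b := 0) (by simp) (a' := 0) (b' := 1 + μ) (by simp)) rfl)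
      (fun u v p => k.vl d f p.2) fun u v p => by rw [k.p2 d f p.2, f.bb d (by simp [d.sw p.2])]
    exact ⟨a, b, x, h, fun o => (c0 o).elim⟩
  subst c0
  have p := d.pr01
  obtain ⟨x, h | h⟩ := f.cy d p.u0 (z := ω (bv 0)) (mem_c1.2 (conj_eq_iff.1 (by simp [k.wt d f, CharTwo.add_self_eq_zero, tv])))
    fun y j0 => by obtain ⟨g, j, j', rfl⟩ := mem_im.1 j0; exact (k.cg d f j' j.2).eq.symm
  · have A : ∀ v, ω v = tv ρ v x := fun v => by
      by_cases v0 : v = 0
      · rw [v0, k.z0 d f, tv_0]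
      obtain ⟨g, i, rfl⟩ := d.wit1 p.u0 v0
      rw [← k.we g i, h, tv_cj' i]
    refine ⟨0, 0, x, fun u v p => ?_, fun _ => A⟩
    obtain ⟨τ, u, v, rfl, rfl⟩ := d.ti2 p.2
    rw [Pw, A, A, A, CharTwo.add_self_eq_zero, zero_smul, f.b0r d, one_mul, ← Submodule.coe_add, e3_eq, tv_eq, tv_eq, tv_eq, wl_mul, wl_mul]
    congr 1; simp only [qd_add]; clear * -; match_scalars <;> grind
  have h1 := k.wb _ _ _ (d.iso _) p.2 (d.sw p.2)
  have h2 := (h1.mul_left (f.ctv d p.2 (d.iso _) (d.sw p.2) x).symm).symm.eq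
  rw [h, mul_assoc s, d.tvm, CharTwo.add_self_eq_zero, tv, E_zero, up_one, mul_one, ← conj_eq_iff, f.tw _ _ p.2, mul_eq_left,
    ← up_one (φ := ρ)] at h2
  exact (d.ntv p (x := 0) (b := 0) ((d.up_inj f.ker (d.E_SU _ _ _) (one_mem _) h2).trans (E0_l ..).symm)).elim

section
variable {x : K} (h : ∀ u v, Pr σ u v → Pw ω u v = β u ((1 + μ) • v) * e3 ρ u v a b x)
include h
theorem sy1 : μ * (1 + μ) = 0 ∧ a = b := by
  obtain ⟨τ, u, v, y, l⟩ := d.ex3
  have p := L3.p12 l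
  have h1 : Pw ω v u = Pw ω u v := by rw [Pw, Pw, add_comm, mul_assoc, mul_assoc, (k.ww _ _ p.2).eq]
  rw [h _ _ p, h _ _ (p.symm d), ← f.adj _ _ _ (d.sw p.2), f.sym u _ (by simp [p.2]), smul_smul, ev_eq', e3_eq, e3_eq, mul_assoc, wl_mul,
    mul_right_inj] at h1
  have := c3 p.1 (a := a + b) (b := a + b) (c := μ * (1 + μ)) (by
    rw [← wz f.ker h1, sy_comm v u]; clear * -; match_scalars <;> grind)
  exact ⟨this.2.2, by have := this.1; clear * - this; grind⟩
theorem sy2 : a = 0 ∧ b = 0 := by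
  obtain rfl := (k.sy1 d f h).2
  obtain ⟨τ, u, v, y, l⟩ := d.ex3
  have h1 : Pw ω (u + v) y * Pw ω u v = Pw ω u (v + y) * Pw ω v y := by
    have c := fun a b : τ.T => (k.ww a b (TI.pp _ _)).eq
    have c1 := c (u + v) y; have c2 := c y u; have c3 := c y v
    simp only [Submodule.coe_add] at c1
    rw [Pw, Pw, Pw, Pw, mul_assoc _ (ω (u + v)), c1, add_assoc]
    simp only [mul_assoc]
    rw [← mul_assoc (ω (u + v)), k.sq, one_mul, ← mul_assoc (ω y), c2, mul_assoc, c3, ← mul_assoc (ω (v.1 + y.1)), k.sq, one_mul]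
  have p : Pr σ (u + v).1 y.1 := pr (li2.2 fun a b e => by have := li3.1 l a a b (by rw [← e]; simp); tauto)
  have h2 := h _ _ p; have h3 := h u (v + y).1 l.p1
  rw [e3_eq] at h2 h3
  simp only [Submodule.coe_add] at h2 h3
  rw [h2, h3, h _ _ l.p12, h _ _ l.rot.p12, e3_eq, e3_eq, smul_add, f.add1 d (TI.pp _ _) (by simp [TI.pp]) (by simp [TI.pp]),
    f.add u _ _ (by simp [TI.pp]) (by simp [TI.pp]) (by simp [TI.pp]), ← Submodule.coe_smul, ← Submodule.coe_smul] at h1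
  rw [f.mv d, f.mv d, mul_assoc (β u ((1 + μ) • v : τ.T)), ((f.bc d (TI.pp _ _) (TI.pp _ _) (TI.pp _ _)).mul_right
    (show Commute (β u ((1 + μ) • v : τ.T)) (β v ((1 + μ) • y : τ.T)) from f.bc2 d (TI.pp _ _) (TI.pp _ _) (TI.pp _ _) _)).eq,
    mul_right_inj] at h1
  have := (c6 l (a₁ := a) (a₂ := 0) (a₃ := a) (b₁ := a) (b₂ := 0) (b₃ := a) (by
    rw [← wz f.ker h1]; simp only [qd_add, sy_add_l, sy_add_r]; clear * -; match_scalars <;> grind)).1
  exact ⟨this, this⟩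
end
end W1

theorem Bt.bd (d' : Sx σ m) (f : Bt ρ s β μ) : ∃ γ k, Bd ρ s β γ k μ := by
  have d := d'.toSd
  obtain ⟨ω, k⟩ := f.w1 d'
  obtain ⟨a, b, x, h, h1⟩ := k.pp d f
  obtain ⟨rfl, rfl⟩ := k.sy2 d f h
  have mm := (k.sy1 d f h).1
  set γ : (Fin m → K) → X := fun v => ω v * tv ρ v x with hγ
  have tt : ∀ v, tv ρ v x * tv ρ v x = 1 := fun v => by simp [d.tvm, CharTwo.add_self_eq_zero, tv]
  have g0 : γ 0 = 1 := by simp [hγ, k.z0 d f, tv_0]
  have gg : ∀ u v, hf σ u v = 0 → Commute (γ u) (γ v) := fun u v e => by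
    obtain ⟨τ, u, v, rfl, rfl⟩ := d.ti2 e
    exact ((k.ww _ _ e).mul_right (k.ctv d f e x)).mul_left ((k.ctv d f (d.sw e) x).symm.mul_right (by rw [tv_eq, tv_eq]; exact wl_cm ..))
  have g2 : ∀ v, γ v * γ v = 1 := fun v => by rw [← pow_two, (k.ctv d f (d.iso v) x).mul_pow, pow_two, pow_two, k.sq, tt, mul_one]
  have P : ∀ u v, Pr σ u v → γ (u + v) * γ u * γ v = β u ((1 + μ) • v) := fun u v p => by
    have := h u v p
    obtain ⟨τ, u, v, rfl, rfl⟩ := d.ti2 p.2
    simp only [hγ]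
    rw [← Submodule.coe_add, tv_eq, tv_eq, tv_eq, mul_assoc _ (wl ρ _), ← mul_assoc (wl ρ _), k.cw d f, mul_assoc (ω u), wl_mul,
      ← mul_assoc (ω _), mul_assoc _ (wl ρ _), ← mul_assoc (wl ρ _), k.cw d f, mul_assoc (ω v), wl_mul, ← mul_assoc, Submodule.coe_add,
      ← Pw, this, e3_eq, mul_assoc, wl_mul, mul_eq_left, ← wl_zero (ρ := ρ) (τ := τ)]
    congr 1; simp only [qd_add]; clear * -; match_scalars <;> grind
  have S : ∀ u (a c : K), β (a • u) ((1 + μ) • c • u) = 1 := fun u a c => by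
    rw [f.adj _ _ _ (by simp [d.iso]), smul_smul, smul_smul, f.self, show μ * (a * (1 + μ) * c) = 0 by clear * - mm; grind, tv, E_zero, up_one]
  have wp : ∀ u v, hf σ u v = 0 → γ (u + v) * γ u * γ v = β u ((1 + μ) • v) := fun u v e => by
    rcases d.pr_or e with p | rfl | ⟨c, rfl⟩
    · exact P u v p
    · simp [g0, g2, f.b0l d]
    have S1 := S u 1 c
    rw [one_smul] at S1
    rw [S1]
    by_cases c0 : c = 0
    · simp [c0, g0, g2]
    by_cases c1 : c = 1
    · simp [c1, vv, g0, g2]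
    by_cases u0 : u = 0
    · simp [u0, g0]
    obtain ⟨y, j, e₁, -⟩ := d.out2 u u
    have p : Pr σ u y := ⟨li_two u0 (by simpa using j), d.sw e₁⟩
    have h1 := P (u + y) (c • u + y) ⟨li2.2 fun a b e => by
      have := li2.1 p.1 (a + b * c) (a + b) (by rw [← e]; module); clear * - this c1; grind, by simp [d.iso, p.2, e₁]⟩
    have S2 := S y 1 1
    rw [one_smul] at S2
    rw [add_add_add_comm, vv, add_zero, f.add1 d p.2 (by simp [d.iso, p.2]) (by simp [d.iso, e₁]), smul_add,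
      f.add _ _ _ (by simp [d.iso]) (by simp [p.2]) (by simp [p.2]), f.add _ _ _ (by simp [e₁]) (by simp [d.iso]) (by simp [p.2]), S1, S2,
      f.sym ((1 + μ) • c • u) y (by simp [p.2]), ev, d.E_sm (by simp [e₁]), smul_smul (1 + μ) μ, mul_comm _ μ, mm, zero_smul, mul_zero, E_zero,
      up_one, one_mul, mul_one, mul_one, f.adj _ _ _ (by simp [p.2]), ← f.add1 d (by simp [d.iso]) (by simp [p.2]) (by simp [p.2])] at h1
    rw [← cc9 (g2 (u + y)) (g2 (c • u + y)) (g2 y) (gg _ _ (by simp [d.iso, p.2, e₁])) (gg _ u (by simp [d.iso, e₁]))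
      (gg _ _ (by simp [d.iso, p.2])) (gg _ _ (by simp [e₁])), h1, P _ _ p, P _ _ (p.sml c0), mul_assoc,
      ← f.add1 d (by simp [d.iso]) (by simp [p.2]) (by simp [p.2]), f.bb d (by simp [e₁])]
  refine ⟨γ, x, f, by clear * - mm; grind, fun v n n' c e e' o => ?_, fun g i v => ?_, fun v => ?_, wp, fun v a c => ?_,
    fun u v n e₁ e₂ e₃ => ((k.wb _ _ _ e₁ e₂ e₃).mul_left (f.ctv d (d.sw e₃) (d.sw e₁) (d.sw e₂) x).symm).eq, fun o v => by simp [hγ, h1 o, tt]⟩
  · rw [k.mul d f e e' o, mul_comm x, ← d.tvs, mul_assoc (ω _), tt, mul_one,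
      (k.wb _ _ _ (by simp [d.iso]) (by simp [d.sw e, d.sw e']) (by simp [e, e'])).eq]
  · rw [conj_mul_conj, k.we g i, tv_cj' i]
  · rw [← k.wt d f, mul_inv_rev, ← mul_assoc, mul_assoc (ω v), mul_assoc (ω v), conj_eq_iff.2 (f.cs _).symm.eq]
  · have := wp (a • v) (c • v) (by simp [d.iso])
    rw [S, mul_assoc, mul_eq_one_iff_inv_eq, inv_eq_of_mul_eq_one_right (g2 _), ← add_smul] at this
    exact this.symm

end CF.Sq
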