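import Cfsg.Agent.Sq.J1

/-! Standard symplectic subgroups in characteristic two: semilinear `2`-groups normalising `U`, centralisers of involutions. -/

set_option autoImplicit false
set_option linter.unusedSectionVars false

namespace CF.Sq

open Cfsg Subgroup Equiv CF.Loc CF.LX CF.Ud Module
open scoped commutatorElement

variable {K : Type} [Field K] [Fintype K] [CharP K 2] {m : ℕ} {σ θ : K ≃+* K} {g w : Perm (Fin m → K)}
  {P : Subgroup (Perm (Fin m → K))}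

namespace SW

variable (K m) in
/-- the coordinatewise action as a homomorphism -/
def cwH : (K ≃+* K) →* Perm (Fin m → K) := MonoidHom.mk' cw fun _ _ => rfl

theorem sem_pow (l : Sem σ θ g) (j : ℕ) : Sem σ (θ ^ j) (g ^ j) := by
  induction j with
  | zero => exact sem_one
  | succ j ih => rw [pow_succ, pow_succ]; exact ih.mul l

end SW
open SW

namespace Sd
variable (d : Sd σ m)
include d

theorem cjw (l : P ≤ Gam σ m) (two : IsPGroup 2 P) (n : P ≤ 𝐍(UT σ m)) : ∃ g ∈ SU σ m ⊓ 𝐍(UT σ m), ∀ ξ ∈ P, ∀ θ,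
    Sem σ θ ξ → g * ξ * g⁻¹ * (cw θ : Perm (Fin m → K))⁻¹ ∈ UT σ m := by
  have uq : ∀ {θ θ'} {ξ : Perm (Fin m → K)}, Sem σ θ ξ → Sem σ θ' ξ → θ = θ' := fun e e' => by obtain rfl := d.one; exact d.sm.sem_uq e e'
  have cs : ∀ θ, Sem σ θ (cw θ : Perm (Fin m → K)) := fun θ => cw_sem fun c => by rw [d.s1, d.s1]
  have cn : ∀ θ, (cw θ : Perm (Fin m → K)) ∈ 𝐍(UT σ m) := fun θ =>
    (d.U_norm ⟨_, cs θ⟩).2 fun _ _ h i k => by rw [cw_ap, h i k, map_zero]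
  let D : Subgroup (K ≃+* K) := ⟨⟨⟨{θ | ∃ ξ ∈ P, Sem σ θ ξ}, fun ⟨_, a, b⟩ ⟨_, a', b'⟩ => ⟨_, mul_mem a a', b.mul b'⟩⟩,
    ⟨1, one_mem _, sem_one⟩⟩, fun ⟨_, a, b⟩ => ⟨_, inv_mem a, b.inv⟩⟩
  let Γ : Subgroup (Perm (Fin m → K)) := ⟨⟨⟨{ξ | ∃ θ ∈ D, Sem σ θ ξ}, fun ⟨_, a, b⟩ ⟨_, a', b'⟩ => ⟨_, mul_mem a a', b.mul b'⟩⟩,
    ⟨1, one_mem _, sem_one⟩⟩, fun ⟨_, a, b⟩ => ⟨_, inv_mem a, b.inv⟩⟩
  have pD : IsPGroup 2 D := isPGroup_iff_forall.2 fun θ ⟨ξ, a, b⟩ => by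
    obtain ⟨j, e⟩ := e2_of two a
    exact ⟨j, uq (sem_pow b _) (by rw [e]; exact sem_one)⟩
  have nD : D.map (cwH K m) ≤ 𝐍(UT σ m) := by rintro _ ⟨θ, -, rfl⟩; exact cn θ
  have cR : ∀ θ ∈ D, cw θ ∈ UT σ m ⊔ D.map (cwH K m) := fun θ h => mem_sup_right ⟨θ, h, rfl⟩
  have s : IsSyl 2 (UT σ m ⊔ D.map (cwH K m)) (Γ ⊓ 𝐍(UT σ m)) :=
    ⟨sup_le (le_inf (fun u h => ⟨1, one_mem _, h.1⟩) le_normalizer) (le_inf (by rintro _ ⟨θ, h, rfl⟩; exact ⟨θ, h, cs θ⟩) nD),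
      by rw [sup_comm]; exact (pD.map _).to_sup_of_normal_right' d.U_two nD, fun Q q a b => le_antisymm (fun ξ h => by
        obtain ⟨⟨θ, i, j⟩, k⟩ := b h
        have e : Sem σ 1 (ξ * (cw θ)⁻¹) := by simpa using j.mul (cs θ).inv
        simpa using mul_mem (mem_sup_left (d.U_of e ((d.U_norm ⟨_, e⟩).1 (mul_mem k (inv_mem (cn θ))))
          (e2_of q (mul_mem h (inv_mem (a (cR θ i))))))) (cR θ i)) a⟩
  obtain ⟨r, ⟨⟨θ', i, j⟩, k⟩, e⟩ := s.exists_cj_le two (le_inf (fun ξ h => (l h).elim fun θ b => ⟨θ, ⟨ξ, h, b⟩, b⟩) n)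
  have lin : Sem σ 1 ((cw θ')⁻¹ * r) := by simpa using (cs θ').inv.mul j
  refine ⟨_, mem_inf.2 ⟨d.mem_SU lin, mul_mem (inv_mem (cn θ')) k⟩, fun ξ h θ b => ?_⟩
  have := mul_mem (mul_mem (inv_mem (cR θ' i)) (e (conj_mem_cj r h))) (cR θ' i)
  rw [show (cw θ')⁻¹ * (r * ξ * r⁻¹) * cw θ' = (cw θ')⁻¹ * r * ξ * ((cw θ')⁻¹ * r)⁻¹ by group] at this
  have t : Sem σ θ ((cw θ')⁻¹ * r * ξ * ((cw θ')⁻¹ * r)⁻¹) := by simpa using (lin.mul b).mul lin.inv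
  obtain ⟨u, hu, _, ⟨θ'', -, rfl⟩, c⟩ := (mem_sup_of_le_normalizer nD).1 this
  change u * cw θ'' = _ at c
  obtain rfl : θ'' = θ := uq (by simpa using (show Sem σ 1 u from hu.1).mul (cs θ'')) (c ▸ t)
  rwa [← c, mul_inv_cancel_right]

theorem exn (i : w ∈ WW σ m) : ∃ n ∉ Vf K m (m / 2), ∃ v ∈ Vf K m (m / 2), v ≠ 0 ∧ hf σ n v = 0 ∧ ∃ c : K, w n = n + c • v := by
  have := d.hm
  have ww : ∀ x, w (w x) = x := fun x => by rw [← Perm.mul_apply, d.W_el (Vf_ti (by have := d.half; omega)) w i]; rfl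
  have sy : ∀ x y, hf σ x (w y) = hf σ y (w x) := fun x y => by rw [← i.1.form1, ww, d.comm]
  obtain ⟨n, o, e⟩ : ∃ n ∉ Vf K m (m / 2), hf σ n (w n) = 0 := by
    by_cases z : hf σ (bv (m - 1)) (w (bv (m - 1))) = 0
    · exact ⟨_, fun h => by simpa [bv] using h ⟨m - 1, by omega⟩ (by simp only; omega), z⟩
    obtain ⟨c, e⟩ := (frobeniusEquiv K 2).surjective (hf σ (bv (m - 2)) (w (bv (m - 2))) / hf σ (bv (m - 1)) (w (bv (m - 1))))
    rw [frobeniusEquiv_apply, frobenius_def, eq_div_iff z] at e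
    refine ⟨bv (m - 2) + c • bv (m - 1), fun h => ?_, ?_⟩
    · simpa [bv, show ¬ m - 2 = m - 1 by omega] using h ⟨m - 2, by omega⟩ (by simp only; omega)
    · rw [i.1.add, i.1.smul1, hf_add_l, hf_add_r, hf_add_r, hf_smul_l, hf_smul_l, d.smr, d.smr, sy (bv (m - 1)), ← e]
      grind
  refine ⟨n, o, ?_⟩
  by_cases z : w n + n = 0
  · obtain ⟨u, a, v, -, l, b, -⟩ := d.two_perp n
    exact ⟨u, a, l.ne_zero 0, d.sw b, 0, by rw [zero_smul, add_zero, ← sub_eq_zero, vsub, z]⟩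
  · exact ⟨_, vsub (w n) n ▸ i.2 n, z, by rw [hf_add_r, e, d.iso, add_zero], 1, by rw [one_smul, add_left_comm, vv, add_zero]⟩

theorem loI (i : g ∈ SU σ m) (e : g * g = 1) : ∃ R ≤ SU σ m ⊓ 𝐂₁(g), IsPGroup 2 R ∧ 2 * Nat.card (WW σ m) ≤ Nat.card R := by
  obtain ⟨r, hr, j⟩ := d.m3 (su_sem i) e
  obtain ⟨n, o, v, a, v0, b, c, k⟩ := d.exn j
  have ti : Ti σ (Vf K m (m / 2)) := Vf_ti (by have := d.half; omega)
  have el := d.W_el ti
  have y2 := d.E_sq v n 0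
  have nW : zpowers (E σ v n 0) ≤ 𝐍(WW σ m) :=
    zpowers_le.2 ((d.W_norm ⟨_, E_sem v n 0⟩).2 (d.mem_PP.1 (d.E_PP a n 0)).2)
  have out : E σ v n 0 ∉ WW σ m := fun h => by
    obtain ⟨y, e⟩ := d.partner v0
    have := h.2 y
    rw [E_ap (d.ok b 0), e, one_smul, add_assoc, add_sub_cancel_left] at this
    exact o ((Submodule.add_mem_iff_left _ (Submodule.smul_mem _ _ a)).1 this)
  have od := orderOf_eq_prime (p := 2) ((pow_two _).trans y2) fun k => out (k ▸ one_mem _)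
  refine ⟨cj[r⁻¹] (WW σ m ⊔ zpowers (E σ v n 0)), ?_, isPGroup_cj _ ?_, ?_⟩
  · rw [← le_cj_iff, cj_inf, cj_eq_self_of_mem hr, cj_centralizer_singleton]
    refine sup_le (le_inf d.W_SU fun x h => mem_c1.2 (el_cm el h j)) (zpowers_le.2 ⟨d.E_SU v n 0, mem_c1.2 (conj_eq_iff.1 ?_).symm⟩)
    rw [E_cj1 j.1, k, W_fix j fun z h => ti v a z h, d.E_shift b]
  · rw [sup_comm]
    exact (isPGroup_zpowers (k := 1) (by rw [pow_one, pow_two, y2])).to_sup_of_normal_right' (d.U_two.to_le d.W_le) nW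
  · have := card_sup_mul_card_inf' nW
    rw [show WW σ m ⊓ zpowers (E σ v n 0) = ⊥ from eq_bot_iff.2 fun x i =>
      ((CF.Even.mem_zpowers_invol od).1 i.2).resolve_right fun k => out (k ▸ i.1), card_bot, mul_one, Nat.card_zpowers, od] at this
    rw [card_cj]
    omega

end Sd

end CF.Sq
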