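import Cfsg.Agent.Sq.T1b

/-! From the clean section back to the group. -/

set_option autoImplicit false
set_option linter.unusedSectionVars false
set_option linter.unusedVariables false

namespace CF.Sq

open Cfsg Subgroup Equiv CF.Loc CF.LX CF.Ud
open CF.Dbl (SL tau_tau)
open scoped commutatorElement

variable {K : Type} [Field K] [Fintype K] [CharP K 2] {m m' : ℕ} {σ : K ≃+* K}
  {G X : Type*} [Group G] [Finite G] [Group X] [Finite X] {ρ : SU σ m →* G} {ρ' : SU σ m →* X} {t : G} {s : X}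
  {N : Subgroup G} {π : N →* X} {K' : Type} [Field K'] [Fintype K'] [CharP K' 2] {σ' τ : K' ≃+* K'}

namespace Cn
variable (d : Sd σ m) (f : F0 ρ t) (c : Cn ρ t N π ρ' s)
include c in
theorem eq2 {x y : N} (i : y ∈ 𝐂(π.ker)) (e : π x = π y) (x2 : x * x = 1) (y2 : y * y = 1) : x = y := by
  have k : y⁻¹ * x ∈ π.ker := by simp [e]
  refine (inv_mul_eq_one.1 (odd_e2 c.odd k (e2_inv ?_))).symm
  have : Commute y x := by simpa using (Commute.refl y).mul_right (show Commute y (y⁻¹ * x) from (i _ k).symm)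
  rw [← pow_two, this.inv_left.mul_pow, inv_pow, pow_two, pow_two, x2, y2]; simp
include d f c in
theorem lift {P : Type*} [Group P] (pf : _root_.commutator P = ⊤) {φ : P →* X}
    (lf : ∀ {Y : Subgroup N} {p : Y →* X}, Odd (Nat.card p.ker) → p.ker ≤ center Y → φ.range ≤ p.range → ∃ η : P →* Y, p.comp η = φ)
    (le : ρ'.range ≤ φ.range) (nor : 𝐂₁(s) ≤ 𝐍(φ.range)) (ncl : φ.range ≤ normalClosure (ρ'.range : Set X)) :
    ∃ η : P →* N, (∀ g, π (η g) = φ g) ∧ (∀ g, η g ∈ 𝐂(π.ker)) ∧ ρ.range ≤ (N.subtype.comp η).range ∧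
      𝐂₁(t) ≤ 𝐍((N.subtype.comp η).range) ∧ (N.subtype.comp η).range ≤ normalClosure (ρ.range : Set G) := by
  have rN : ρ.range ≤ N := f.Lc.trans c.ct
  have πr : ∀ g, π ⟨ρ g, rN ⟨g, rfl⟩⟩ = ρ' g := fun g => (up_eq _).symm.trans (c.rr g)
  have rC : ∀ g, ⟨ρ g, rN ⟨g, rfl⟩⟩ ∈ 𝐂(π.ker) := fun g k i => Subtype.ext ((c.ker k i).2 _ ⟨g, rfl⟩).symm
  have l0 : ∀ D : Subgroup N, D.Normal → (∀ g, ⟨ρ g, rN ⟨g, rfl⟩⟩ ∈ D) → φ.range ≤ D.map π := fun D n i =>
    have := n.map π c.sur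
    ncl.trans (normalClosure_le_normal (by rintro _ ⟨g, rfl⟩; exact ⟨_, i g, πr g⟩))
  let Γ := 𝐂(π.ker) ⊓ φ.range.comap π
  have z : (π.comp Γ.subtype).ker ≤ center Γ := fun x i => mem_center_iff.2 fun y => Subtype.ext (y.2.1 x i).symm
  obtain ⟨η, e⟩ := lf (p := π.comp Γ.subtype) (c.odd.of_dvd_nat (card_dvd_of_injective
    ((Γ.subtype.comp (Subgroup.subtype _)).codRestrict _ fun x => x.2) fun a b e => Subtype.ext (Subtype.ext (congrArg Subtype.val e :)))) z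
    fun x i => by obtain ⟨y, j, rfl⟩ := l0 _ inferInstance rC i; exact ⟨⟨y, j, i⟩, rfl⟩
  have e' : ∀ g, π (η g) = φ g := fun g => DFunLike.congr_fun e g
  have r : (N.subtype.comp (Γ.subtype.comp η)).range = ⁅Γ.map N.subtype, Γ.map N.subtype⁆ := by
    rw [MonoidHom.range_comp, MonoidHom.range_comp, η.range_eq_map, ← pf, Schur.map_commutator_of_over
      (ξ := (π.comp Γ.subtype).codRestrict φ.range fun x => x.2.2) (fun x i => z (congrArg Subtype.val i :)) φ.rangeRestrict_surjective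
      (MonoidHom.ext fun g => Subtype.ext (e' g)), map_subtype_commutator, Subgroup.map_commutator]
  refine ⟨Γ.subtype.comp η, e', fun g => (η g).2.1, ?_, fun x i => ?_, ?_⟩
  · have : ρ.range ≤ Γ.map N.subtype := by rintro _ ⟨g, rfl⟩; exact ⟨_, ⟨rC g, mem_comap.2 (πr g ▸ le ⟨g, rfl⟩)⟩, rfl⟩
    exact r ▸ (d.perfL ρ).trans (commutator_mono this this)
  · have : x ∈ 𝐍(Γ.map N.subtype) := mem_normalizer_of_conj_mem (by
      rintro _ ⟨y, j, rfl⟩
      refine ⟨⟨x, c.ct i⟩ * y * ⟨x, c.ct i⟩⁻¹, ⟨Normal.conj_mem inferInstance _ j.1 _, mem_comap.2 ?_⟩, rfl⟩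
      rw [map_mul, map_mul, map_inv]
      refine conj_mem_of_mem_normalizer (nor (mem_c1.2 ?_)) j.2
      simp only [← (up_eq c.tN).symm.trans c.tt, ← map_mul]; exact congrArg π (Subtype.ext (mem_c1.1 i)))
    rw [r]; exact mem_normalizer_of_cj_le (by rw [cj_commutator, cj_eq_self this])
  rw [MonoidHom.range_eq_map, ← pf, _root_.commutator_def, Subgroup.map_commutator, commutator_le]
  rintro _ ⟨g, -, rfl⟩ _ ⟨g', -, rfl⟩
  obtain ⟨y, j, k⟩ := l0 ((normalClosure (ρ.range : Set G)).subgroupOf N) inferInstance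
    (fun g => subset_normalClosure ⟨g, rfl⟩) ⟨g, rfl⟩
  have : (y⁻¹ * η g : N) * η g' = η g' * (y⁻¹ * η g) := (η g').2.1 _ (by simp [k, e'])
  have : (⁅(η g : N), (η g' : N)⁆ : N) = ⁅y, (η g' : N)⁆ := by
    calc _ = y * ((y⁻¹ * η g : N) * η g') * (η g : N)⁻¹ * (η g' : N)⁻¹ := by rw [commutatorElement_def]; group
      _ = _ := by rw [this, commutatorElement_def]; group
  exact Set.mem_of_eq_of_mem (congrArg Subtype.val this) (commutator_le_left _ ⊤ (commutator_mem_commutator j (mem_top (η g').1.1)))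
end Cn

theorem Cn.eu (d : Sd σ m) (f : F0 ρ t) (c : Cn ρ t N π ρ' s) (o : Sx σ' m' ∨ ∃ q, Dm σ' q m') (com : ∀ c, τ (σ' c) = σ' (τ c))
    {ρ₀ : SU σ' m' →* X} (e : Eu ρ' s τ ρ₀) : ∃ ρ₃ : SU σ' m' →* G, Eu ρ t τ ρ₃ := by
  have pf := o.elim (fun o => o.toSd.perf) fun ⟨_, o⟩ => o.perf
  obtain ⟨η, a1, a2, a3, a4, a5⟩ := c.lift d f pf (fun a b l => o.elim (fun o => o.toSd.lift (.inl a) b l) fun ⟨_, o⟩ => o.lift b l)
    e.le e.nor e.ncl
  have l := cw_sem (m := m') com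
  have tC : ⟨t, c.tN⟩ ∈ 𝐂(π.ker) := fun k i => Subtype.ext (mem_c1.1 (c.ker k i).1)
  refine ⟨_, fun g i k => e.ker g i ?_, a3, a4, a5, fun g i => ?_, ?_⟩
  · rw [up_eq i] at k ⊢; rw [← a1, show η ⟨g, i⟩ = 1 from Subtype.ext k, map_one]
  · let f₁ := (MulAut.conj (⟨t, c.tN⟩ : N)).toMonoidHom.comp η
    let f₂ := η.comp (((MulAut.conj (cw τ)).toMonoidHom.comp (SU σ' m').subtype).codRestrict _ fun g => l.su g.2)
    have k : ∀ x, (f₁ x)⁻¹ * f₂ x ∈ π.ker := fun x => by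
      have := e.act x x.2
      rw [up_coe, up_eq (l.su x.2), ← a1, ← a1, ← c.tt, up_eq c.tN, ← map_inv, ← map_mul, ← map_mul] at this
      rw [MonoidHom.mem_ker, map_mul, map_inv, inv_mul_eq_one]; exact this
    rw [up_eq i, up_eq (l.su i)]
    exact congrArg Subtype.val (DFunLike.congr_fun (hom_eq pf (f := f₁) (k := f₂)
      (fun x y => mul_mem (mul_mem tC (a2 y)) (inv_mem tC) _ (k x)) fun x y => a2 _ _ (k x)) ⟨g, i⟩)
  · have := e.zz
    rw [tv, up_eq (tv_SU _ _), ← a1, tv, ← c.ur f, up_eq (c.rN f _)] at this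
    rw [tv, up_eq (tv_SU _ _)]
    exact (congrArg Subtype.val (c.eq2 (a2 _) this.symm (Subtype.ext (by
      rw [coe_mul, ← up_mul (tv_SU _ _) (tv_SU _ _), tv_sq, up_one]; rfl))
      (by rw [← map_mul]; exact (congrArg η (Subtype.ext (tv_sq _ _))).trans η.map_one))).symm

theorem Cn.ev (d : Sd σ m) (f : F0 ρ t) (c : Cn ρ t N π ρ' s) (hm : 5 ≤ m') {φ : SL m' K →* X} (e : Ev ρ' s φ) :
    ∃ φ' : SL m' K →* G, Ev ρ t φ' := by
  obtain ⟨η, a1, a2, a3, a4, a5⟩ := c.lift d f (CF.Classical.commutator_SL_eq_top (F := K) (ι := Fin m') (by simp; omega))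
    (fun _ b l => liftL hm b l) e.le e.nor e.ncl
  have sq : ∀ n, η (Dbl.tau n) * η (Dbl.tau n) = 1 := fun n => by rw [← map_mul, tau_tau, map_one]
  refine ⟨_, ⟨fun g k => e.emb.ker ?_, e.emb.m3, e.emb.big⟩, a3, a4, a5, fun i j n a => ?_, ?_⟩
  · rw [MonoidHom.mem_ker, ← a1, show η g = 1 from Subtype.ext k, map_one]
  · refine congrArg Subtype.val (c.eq2 (x := ⟨t, c.tN⟩ * η (Dbl.tau (Dbl.F4.EE i j a)) * ⟨t, c.tN⟩⁻¹) (a2 _) ?_ (by rw [← conj_mul_conj, sq]; simp) (sq _))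
    rw [map_mul, map_mul, map_inv, a1, a1, ← up_eq c.tN, c.tt, e.tg i j n]
  · have := e.zz
    rw [← a1, tv, ← c.ur f, up_eq (c.rN f _)] at this
    exact (congrArg Subtype.val (c.eq2 (a2 _) this.symm (Subtype.ext (by
      rw [coe_mul, ← up_mul (tv_SU _ _) (tv_SU _ _), tv_sq, up_one]; rfl)) (sq _))).symm

end CF.Sq
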