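import Cfsg.Agent.Sq.A2
import Cfsg.Agent.Dq.P1
import Cfsg.Agent.Ud.Fr
import Cfsg.Agent.S0270
import Cfsg.Agent.S2093
import Cfsg.Agent.Chev.ClsSp
import Cfsg.Agent.Known.Aut.PSp

/-! The matrix bridge for symplectic groups in characteristic two. -/

set_option autoImplicit false
set_option linter.unusedSectionVars false
set_option linter.unusedVariables false

namespace CF.Sq

open Cfsg Subgroup Equiv CF.Loc CF.LX CF.Ud CF.Geom Module QuadraticMap
open CF.Dbl (El SL Emb)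
open scoped commutatorElement Matrix MatrixGroups

variable {K : Type} [Field K] [Fintype K] [CharP K 2] {m q j : ℕ} {σ θ θ' : K ≃+* K}
  {g ξ ξ' w : Perm (Fin m → K)} {H : Subgroup (Perm (Fin m → K))}
  {G X : Type*} [Group G] [Finite G] [Group X] [Finite X] {t h : G}

theorem lift_cop {P A Y Q : Type*} [Group P] [CommGroup A] [Group Y] [Group Q] (hP : _root_.commutator P = ⊤)
    (s : HasSchurMultiplier P A) {ξ : Y →* Q} (c : Schur.CExt ξ) (o : (Nat.card A).Coprime (Nat.card ξ.ker)) (f : P →* Q) :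
    ∃ η : P →* Y, ξ.comp η = f := by
  obtain ⟨h1, -⟩ := (c.pull f).stem_commutator hP
  have h2 := Schur.HasSchur.card_mul_dvd s (Schur.stem_cext h1)
  rw [Schur.stem_mul h1] at h2
  have h3 := card_dvd_of_injective (α := ((Schur.pullSnd ξ f).comp (_root_.commutator _).subtype).ker)
    ((Schur.pullKerEquiv ξ f).toMonoidHom.comp (((_root_.commutator _).subtype.comp (Subgroup.subtype _)).codRestrict _ fun x => x.2))
    ((Schur.pullKerEquiv ξ f).injective.comp fun a b e => Subtype.ext (Subtype.ext (congrArg Subtype.val e :)))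
  have h4 := (MonoidHom.ker_eq_bot_iff _).1 (card_eq_one.1 (Nat.eq_one_of_dvd_coprimes o h2 h3))
  let e := MulEquiv.ofBijective _ ⟨h4, h1.1⟩
  refine ⟨(Schur.pullFst ξ f).comp ((_root_.commutator _).subtype.comp e.symm.toMonoidHom), MonoidHom.ext fun g => ?_⟩
  exact (DFunLike.congr_fun (Schur.pull_comm ξ f) _).trans (congrArg f (e.apply_symm_apply g))
theorem iso_quot {P : Type*} [Group P] (f : P →* G) (k : f.ker ≤ center P) (n : ¬ IsMulCommutative f.range)
    (e : IsSimpleGroup f.range) : Nonempty (f.range ≃* P ⧸ center P) := by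
  have z : (center P).map f.rangeRestrict = ⊥ := by
    have : ((center P).map f.rangeRestrict).Normal := Normal.map inferInstance _ f.rangeRestrict_surjective
    refine this.eq_bot_or_eq_top.resolve_right fun r => n ⟨⟨fun a b => ?_⟩⟩
    obtain ⟨a, i, rfl⟩ := r.ge (mem_top a)
    obtain ⟨b, rfl⟩ := f.rangeRestrict_surjective b
    rw [← map_mul, ← map_mul, mem_center_iff.1 i]
  exact ⟨(QuotientGroup.quotientKerEquivRange f).symm.trans (QuotientGroup.quotientMulEquivOfEq (le_antisymm k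
    (f.ker_rangeRestrict ▸ (Subgroup.map_eq_bot_iff _).1 z)))⟩
theorem nab_of {P : Type*} [Group P] (f : P →* G) (k : f.ker ≤ center P) (p : IsQuasisimple P) : ¬ IsMulCommutative f.range :=
  fun c => Sig.qs_not_isSolvable p (by
    have : Group.IsSolvable f.range := Group.isSolvable_of_comm fun a b => c.1.1 a b
    have : Group.IsSolvable (center P) := Group.isSolvable_of_comm fun a b => mul_comm' a b
    exact Group.isSolvable_of_ker_le_range (center P).subtype f.rangeRestrict (by rwa [f.ker_rangeRestrict, range_subtype]))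
theorem cycA : IsCyclic (K ≃+* K) := Known.isCyclic_ringAut
theorem isoU {ρ : SU σ m →* G} (d : Dm σ q m) (k : Ker ρ) (e : IsSimpleGroup ρ.range) : Nonempty (ρ.range ≃* PSU m K q) := by
  have k' : ρ.ker ≤ center _ := fun g i => d.center_iff.2 (k g g.2 ((up_coe g).trans i))
  obtain ⟨-, -, f, -⟩ := d.bridge
  exact (iso_quot ρ k' (nab_of ρ k' d.qs) e).map fun c => c.trans (CF.Classical.quotientCenterEquiv f)
theorem isoL {φ : SL m K →* G} (k : Emb φ) (e : IsSimpleGroup φ.range) :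
    Nonempty (φ.range ≃* Matrix.ProjectiveSpecialLinearGroup (Fin m) K) := iso_quot φ k.ker (fun c => by
  have := e.toNontrivial
  exact (Subgroup.nontrivial_iff_ne_bot _).1 this (k.perfect ▸ commutator_eq_bot_iff_le_centralizer.2
    le_centralizer_of_isMulCommutative)) e
theorem liftL (hm : 5 ≤ m) {φ : SL m K →* X} {f : G →* X} (c : f.ker ≤ center G) (l : φ.range ≤ f.range) :
    ∃ φ' : SL m K →* G, f.comp φ' = φ := by
  obtain ⟨m, rfl⟩ : ∃ n, m = n + 1 := ⟨m - 1, by omega⟩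
  obtain ⟨η, k⟩ := Schur.exists_lift_of_trivial (CF.Classical.commutator_SL_eq_top (F := K) (ι := Fin (m + 1)) (by simp; omega))
    (Chev.schur_SL (by omega) (by omega) (by omega))
    (ξ := f.rangeRestrict) ⟨f.rangeRestrict_surjective, by rwa [MonoidHom.ker_rangeRestrict]⟩ (φ.codRestrict _ fun g => l ⟨g, rfl⟩)
  exact ⟨η, MonoidHom.ext fun g => congrArg Subtype.val (DFunLike.congr_fun k g)⟩

/-! The results valid for `m = 4`, `q > 2` too. -/
namespace B4
variable (s : Dq.Sm K m) {ρ ρ₁ ρ₂ : SU (1 : K ≃+* K) m →* G} {ρ' : SU (1 : K ≃+* K) m →* X}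
include s
theorem bridge (hj : m = 2 * j) : ∃ e : (Fin m → K) ≃ₗ[K] (Fin j ⊕ Fin j → K), (∀ x y, sympForm j K (e x) (e y) = hf 1 x y) ∧
    ∃ f : SU (1 : K ≃+* K) m ≃* Matrix.symplecticGroup (Fin j) K, ∀ g x, e (g.1 x) = (f g).1 *ᵥ e x := by
  obtain ⟨e, k⟩ := exists_equiv_sympBilin (B := polarBilin (Dq.Q0 K m)) s.nd0 (fun x => (s.pol x x).trans (s.iso x))
    (finrank_V.trans hj)
  let c : SpG (polarBilin (Dq.Q0 K m)) ≃* SpG (sympBilin j K) := isomCongr e k fun _ => rfl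
  let p : SpG (polarBilin (Dq.Q0 K m)) →* Perm (Fin m → K) := ⟨⟨fun g => g.1.toEquiv, rfl⟩, fun _ _ => rfl⟩
  let ψ := p.comp (c.symm.toMonoidHom.comp (spEquiv j K).toMonoidHom)
  have i : Function.Injective ψ := (show Function.Injective p from fun a b h => Subtype.ext (LinearEquiv.toEquiv_injective h)).comp
    (c.symm.injective.comp (spEquiv j K).injective)
  have r : SU 1 m = ψ.range := by
    rw [MonoidHom.range_comp, MonoidHom.range_eq_top.2 (c.symm.surjective.comp (spEquiv j K).surjective), ← MonoidHom.range_eq_map]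
    refine le_antisymm (fun g a => ?_) ?_
    · have a := su_sem a
      exact ⟨⟨{ lin a with invFun := g.symm, left_inv := g.left_inv, right_inv := g.right_inv },
        mem_SpG.2 fun x y => (s.pol _ _).trans ((a.form1 x y).trans (s.pol _ _).symm)⟩, rfl⟩
    · rintro _ ⟨g, rfl⟩
      exact s.mem_SU ⟨g.1.map_add, g.1.map_smul, fun x y => (s.pol _ _).symm.trans ((mem_SpG.1 g.2 x y).trans (s.pol _ _)), fun _ => rfl⟩
  refine ⟨e, fun x y => (sympBilin_apply _ _ _).symm.trans ((k x y).trans (s.pol x y)),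
    (MulEquiv.subgroupCongr r).trans (MonoidHom.ofInjective i).symm, fun g x => ?_⟩
  have := MonoidHom.apply_ofInjective_symm i (MulEquiv.subgroupCongr r g)
  rw [show g.1 = _ from this.symm]
  exact e.apply_symm_apply _
theorem hj : m = 2 * (m / 2) := by have := s.half; omega
theorem cen (l : ξ ∈ Gam 1 m) (e : ξ ∈ 𝐂(SU 1 m)) : ξ = 1 := s.gam_eq l fun _ _ => (mem_centralizer_iff'.1 e _ (tv_SU _ _)).symm
theorem center_eq : center (SU (1 : K ≃+* K) m) = ⊥ := eq_bot_iff.2 fun g e => Subtype.ext (cen s (GU_le (SU_le g.2))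
  (mem_centralizer_iff'.2 fun k l => congrArg Subtype.val (mem_center_iff.1 e ⟨k, l⟩)))
theorem psp (hj : m = 2 * j) : ∃ e : (Fin m → K) ≃ₗ[K] (Fin j ⊕ Fin j → K), (∀ x y, sympForm j K (e x) (e y) = hf 1 x y) ∧
    ∃ f : SU (1 : K ≃+* K) m ≃* Matrix.symplecticGroup (Fin j) K, (∀ g x, e (g.1 x) = (f g).1 *ᵥ e x) ∧
    ∃ c : SU (1 : K ≃+* K) m ≃* PSp j K, ∀ g, c g = QuotientGroup.mk (f g) := by
  obtain ⟨e, k, f, l⟩ := bridge s hj
  exact ⟨e, k, f, l, (QuotientGroup.quotientBot.symm.trans (QuotientGroup.quotientMulEquivOfEq (center_eq s).symm)).trans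
    (CF.Classical.quotientCenterEquiv f), fun _ => rfl⟩
theorem simple : IsSimpleGroup (SU (1 : K ≃+* K) m) := by
  obtain ⟨-, -, -, -, c, -⟩ := psp s (hj s)
  have := Cfsg.Agent.S0270.result (F := K) (m / 2) s.l2 fun e => Nat.card_eq_fintype_card (α := K) ▸ s.ex (by have := s.half; omega)
  exact c.isSimpleGroup
theorem perf : _root_.commutator (SU (1 : K ≃+* K) m) = ⊤ := by
  obtain ⟨-, -, f, -⟩ := bridge s (hj s)
  have := commutator_symplecticGroup_eq_top (F := K) (m / 2) (by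
    have := s.ex; have := s.half; have := s.l2; rw [Nat.card_eq_fintype_card] at *; omega)
  exact eq_top_iff.2 fun g _ => (mem_commutator_iff_of_equiv f g).2 (this ▸ mem_top _)
theorem su_perf : SU (1 : K ≃+* K) m ≤ ⁅SU (1 : K ≃+* K) m, SU (1 : K ≃+* K) m⁆ := by
  rw [← map_subtype_commutator, perf s, ← MonoidHom.range_eq_map, range_subtype]
theorem qs : IsQuasisimple (SU (1 : K ≃+* K) m) := by
  have := simple s
  exact ⟨⟨perf s⟩, (QuotientGroup.quotientBot.symm.trans (QuotientGroup.quotientMulEquivOfEq (center_eq s).symm)).symm.isSimpleGroup⟩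
theorem su_simple (l : H ≤ SU 1 m) (n : SU 1 m ≤ 𝐍(H)) : H = ⊥ ∨ H = SU 1 m :=
  (Sig.qs_eq_or_le_centralizer (qs s) l n).symm.imp_left fun e => eq_bot_iff.2 fun g k => cen s (GU_le (SU_le (l k))) (e k)
theorem inj (k : Ker ρ) : Function.Injective ρ := (injective_iff_map_eq_one ρ).2 fun g e =>
  Subtype.ext (s.sc_eq (su_sem g.2) (k g g.2 ((up_coe g).trans e)))
theorem up_inj (k : Ker ρ) (i : g ∈ SU 1 m) (i' : w ∈ SU 1 m) (e : up ρ g = up ρ w) : g = w := by
  rw [up_eq i, up_eq i'] at e; exact congrArg Subtype.val (inj s k e)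
theorem i_cm (k : Ker ρ) (l : Sem 1 θ ξ) (i : Ind ρ h ξ) (a : g ∈ SU 1 m) (e : h * up ρ g = up ρ g * h) : ξ * g = g * ξ :=
  mul_inv_eq_iff_eq_mul.1 (up_inj s k (l.su a) a (by rw [← i g a, e, mul_inv_cancel_right]))
theorem ind_cen (k : Ker ρ) (l : ξ ∈ Gam 1 m) (i : Ind ρ h ξ) : h ∈ 𝐂(ρ.range) ↔ ξ = 1 :=
  ⟨fun e => s.gam_eq l fun _ _ => i_cm s k l.choose_spec i (tv_SU _ _) (mem_centralizer_iff'.1 e _ (up_range _)).symm,
    fun e => mem_centralizer_iff'.2 fun x j => by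
      obtain ⟨p, j', rfl⟩ := mem_range_up.1 j
      exact (i.cm j' (by simp [e])).symm⟩
theorem ind_uq (k : Ker ρ) (l : ξ ∈ Gam 1 m) (l' : ξ' ∈ Gam 1 m) (i : Ind ρ h ξ) (i' : Ind ρ h ξ') : ξ = ξ' :=
  mul_inv_eq_one.1 ((ind_cen s k (mul_mem l (inv_mem l')) (i.mul l'.choose_spec.inv (i'.inv l'.choose_spec))).1 (by simp))
theorem isoS (e : m = 2 * j) (k : Ker ρ) : Nonempty (ρ.range ≃* PSp j K) :=
  let ⟨_, _, _, _, c, _⟩ := psp s e; ⟨(MonoidHom.ofInjective (inj s k)).symm.trans c⟩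
theorem lift {f : G →* X} (o : Odd (Nat.card f.ker) ∨ ¬ (m = 6 ∧ Nat.card K = 2)) (c : f.ker ≤ center G)
    (l : ρ'.range ≤ f.range) : ∃ ρ : SU 1 m →* G, f.comp ρ = ρ' := by
  have x : Schur.CExt f.rangeRestrict := ⟨f.rangeRestrict_surjective, by rwa [MonoidHom.ker_rangeRestrict]⟩
  suffices ∃ η : SU 1 m →* G, f.rangeRestrict.comp η = ρ'.codRestrict _ fun g => l ⟨g, rfl⟩ from
    this.imp fun η k => MonoidHom.ext fun g => congrArg Subtype.val (DFunLike.congr_fun k g)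
  by_cases n : m = 6 ∧ Nat.card K = 2
  · obtain ⟨-, -, -, -, e, -⟩ := psp s (j := 3) n.1
    exact lift_cop (perf s) (Schur.HasSchur.congr_left (Cfsg.Agent.S2093.result (Nat.card_eq_fintype_card.symm.trans n.2)) e.symm) x
      (by rw [f.ker_rangeRestrict]; simpa using o.resolve_right (not_not.2 n)) _
  · obtain ⟨-, -, e, -⟩ := bridge s (hj s)
    exact Schur.exists_lift_of_trivial (perf s) (Schur.HasSchur.congr_left (Chev.schur_Sp s.l2 (by
      have := s.ex; have := s.half; have := s.l2; omega)) e.symm) x _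
theorem aut (h6 : 6 ≤ m) (β : MulAut (SU (1 : K ≃+* K) m)) :
    ∃ ξ ∈ Gam (1 : K ≃+* K) m, ∀ g : SU (1 : K ≃+* K) m, (β g : Perm (Fin m → K)) = ξ * g * ξ⁻¹ := by
  obtain ⟨e, k, f, l, c, hc⟩ := psp s (hj s)
  obtain ⟨γ, r⟩ := Known.psi_sp_surjective (F := K) 2 s.l2 (by omega) (c.symm.trans (β.trans c))
  have i := Known.mem_semiSim_sp.1 γ.2
  have h1 := (Known.isInducedPSp_iff i γ.1.right _).2 r.symm
  obtain ⟨a, ha⟩ := i
  generalize γ.1.left = M at *
  generalize γ.1.right = θ at *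
  obtain ⟨b, hb⟩ := exists_rt (a⁻¹).1
  have b0 : b ≠ 0 := fun z => (a⁻¹).ne_zero (by rw [← hb, z, zero_mul])
  let ξ : Perm (Fin m → K) := e.toEquiv.trans ((Equiv.piCongrRight fun _ => θ.toEquiv).trans
    ((glEquiv _ K M).toEquiv.trans ((MulAction.toPerm (Units.mk0 b b0)).trans e.symm.toEquiv)))
  have hξ : ∀ x, e (ξ x) = b • M.1 *ᵥ (θ ∘ e x) := fun x => e.apply_symm_apply _
  have S : Sem 1 θ ξ := by
    refine ⟨fun x y => e.injective ?_, fun c x => e.injective ?_, fun x y => ?_, fun _ => rfl⟩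
    · rw [map_add e, hξ, hξ, hξ, ← smul_add, ← Matrix.mulVec_add]; congr 2; ext; simp
    · rw [map_smul e, hξ, hξ, smul_comm (θ c) b, ← Matrix.mulVec_smul _ (θ c)]; congr 2; ext; simp
    · rw [← k, hξ, hξ, ← sympBilin_apply, map_smul, map_smul, LinearMap.smul_apply, sympBilin_apply, ha, Known.sympForm_comp, k,
        smul_eq_mul, smul_eq_mul, ← mul_assoc, ← mul_assoc, hb]; simp
  refine ⟨ξ, ⟨θ, S⟩, fun g => congrArg Subtype.val (c.injective (?_ : c (β g) = c ⟨_, S.su g.2⟩))⟩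
  rw [hc ⟨_, S.su g.2⟩, ← h1 (f g) _ (matrix_eq_iff_mulVec.2 fun v => ?_), ← hc]
  · simp
  obtain ⟨v, rfl⟩ := e.surjective v
  obtain ⟨v, rfl⟩ := ξ.surjective v
  rw [← l, Perm.mul_apply, Perm.mul_apply, show ξ⁻¹ (ξ v) = v from ξ.symm_apply_apply v, hξ, hξ, Matrix.mulVec_smul,
    Matrix.mulVec_mulVec, mul_assoc, ← Units.val_mul, inv_mul_cancel, Units.val_one, mul_one, ← Matrix.mulVec_mulVec, l]
  congr 2; ext i; exact RingHom.map_mulVec (θ : K →+* K) _ _ i
theorem ind2 (h6 : 6 ≤ m) (k₁ : Ker ρ₁) (k₂ : Ker ρ₂) (e : ρ₁.range = ρ₂.range) :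
    ∃ ξ ∈ Gam 1 m, ∀ g ∈ SU 1 m, up ρ₂ g = up ρ₁ (ξ * g * ξ⁻¹) := by
  obtain ⟨ξ, l, r⟩ := aut s h6 ((MonoidHom.ofInjective (inj s k₂)).trans ((MulEquiv.subgroupCongr e.symm).trans
    (MonoidHom.ofInjective (inj s k₁)).symm))
  refine ⟨ξ, l, fun g i => ?_⟩
  rw [← r ⟨g, i⟩, up_coe, up_eq i]
  exact (MonoidHom.apply_ofInjective_symm (inj s k₁) (MulEquiv.subgroupCongr e.symm (MonoidHom.ofInjective (inj s k₂) ⟨g, i⟩))).symm
theorem ind_of (h6 : 6 ≤ m) (k : Ker ρ) (n : h ∈ 𝐍(ρ.range)) : ∃ ξ ∈ Gam 1 m, Ind ρ h ξ := by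
  obtain ⟨ξ, l, e⟩ := ind2 s h6 k (k.cj h) (by rw [MonoidHom.range_comp]; exact (cj_eq_self n).symm)
  exact ⟨ξ, l, fun g i => (up_comp (MulAut.conj h).toMonoidHom g).symm.trans (e g i)⟩
end B4

end CF.Sq
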