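import Cfsg.Agent.Sq.T1a

/-! The clean section attached to a standard symplectic subgroup. -/

set_option autoImplicit false
set_option linter.unusedSectionVars false
set_option linter.unusedVariables false

namespace CF.Sq

open Cfsg Subgroup Equiv CF.Loc CF.LX CF.Ud Module
open scoped commutatorElement

universe u

variable {K : Type} [Field K] [Fintype K] [CharP K 2] {m j : ℕ} {σ θ θ' : K ≃+* K}
  {g ξ ξ' w : Perm (Fin m → K)} {u v x n : Fin m → K} {A B P H : Subgroup (Perm (Fin m → K))} {T : Submodule K (Fin m → K)}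
  {G X : Type*} [Group G] [Finite G] [Group X] [Finite X] {ρ : SU σ m →* G} {ρ' : SU σ m →* X} {t h y : G} {s z : X}
  {F N R : Subgroup G} {π : N →* X}

theorem odd_e2 {A : Type*} [Group A] {O : Subgroup A} {x : A} (o : Odd (Nat.card O)) (i : x ∈ O) (e : E2 x) : x = 1 :=
  e.odd o (congrArg Subtype.val (pow_card_eq_one' (x := (⟨x, i⟩ : O))))

theorem F0.clean {G : Type u} [Group G] [Finite G] {ρ : SU σ m →* G} {t : G} (d : Sd σ m) (f : F0 ρ t) :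
    ∃ (N : Subgroup G) (X : Type u) (_ : Group X) (_ : Finite X) (π : N →* X) (ρ' : SU σ m →* X) (s : X), Cn ρ t N π ρ' s := by
  obtain ⟨O, hO⟩ : ∃ O, O = 𝐑[2](𝐂₁(t) ⊓ 𝐂(ρ.range)) := ⟨_, rfl⟩
  have l : O ≤ 𝐂₁(t) ⊓ 𝐂(ρ.range) := hO ▸ pResidualOf_le _ _
  have tC : zpowers t ≤ 𝐂₁(t) ⊓ 𝐂(ρ.range) := zpowers_le.2 ⟨mem_c1.2 rfl, f.cm⟩
  have od : Odd (Nat.card O) := hO ▸ Nat.coprime_two_right.1 (IsSyl.burnside (T := zpowers t) ⟨tC, f.two, fun Q a b c =>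
    le_antisymm (fun y j => by
      rcases f.r2 y (c j) (e2_of a j) with rfl | rfl
      exacts [one_mem _, mem_zpowers _]) b⟩ (centralizer_zpowers t ▸ inf_le_left.trans inf_le_left))
  have mo : ∀ y ∈ 𝐂₁(t) ⊓ 𝐂(ρ.range), Odd (orderOf y) → y ∈ O := fun y j o => hO ▸ mem_pResidualOf j (Nat.coprime_two_right.2 o)
  have ct : 𝐂₁(t) ≤ 𝐍(O) := hO ▸ (le_normalizer_inf le_normalizer (le_normalizer_centralizer f.ct)).trans
    (normalizer_le_normalizer_pResidualOf 2 _)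
  have tt : t * t ∈ O := f.t2 ▸ one_mem O
  have tN : t ∈ 𝐍(O) := ct (mem_c1.2 rfl)
  have rN : ∀ g, ρ g ∈ 𝐍(O) := fun g => ct (f.Lc ⟨g, rfl⟩)
  have := normal_subgroupOf_of_le_normalizer' (le_refl 𝐍(O))
  let π := QuotientGroup.mk' (O.subgroupOf 𝐍(O))
  have k : ∀ n : 𝐍(O), π n = 1 ↔ n.1 ∈ O := fun n => QuotientGroup.eq_one_iff n
  let ρ' := π.comp (ρ.codRestrict _ rN)
  have ur : ∀ g, up ρ' g = π ⟨up ρ g, ct (f.Lc (up_range g))⟩ := fun g => by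
    rw [up_comp]; congr 1; exact Subtype.ext (up_comp (φ := ρ.codRestrict _ rN) (𝐍(O)).subtype g).symm
  have c1 : ∀ n : 𝐍(O), π n ∈ 𝐂₁(π ⟨t, tN⟩) → n.1 ∈ 𝐂₁(t) := fun n j => by
    have a : n.1 * t * n.1⁻¹ * t ∈ O := (k (n * ⟨t, tN⟩ * n⁻¹ * ⟨t, tN⟩)).1 (by
      rw [map_mul, map_mul, map_mul, map_inv, conj_eq_iff.2 (mem_c1.1 j), ← map_mul]; exact (k _).2 tt)
    have b := mem_c1.1 (l a).1
    have := odd_e2 od a ((e2_inv (f.cj n).t2).mul (e2_inv f.t2) (mul_right_cancel (b := t) (by rw [b, mul_assoc t])))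
    exact mem_c1.2 (conj_eq_iff.1 ((eq_inv_of_mul_eq_one_left this).trans f.ti))
  have LO : ∀ x ∈ ρ.range, x ∈ O → x = 1 := fun x i j => d.cap f.ker i (l j).2
  have cen : ∀ y ∈ 𝐂₁(π ⟨t, tN⟩) ⊓ 𝐂(ρ'.range), y = 1 ∨ y = π ⟨t, tN⟩ := fun y j => by
    obtain ⟨n, rfl⟩ := QuotientGroup.mk'_surjective _ y
    have a := c1 n j.1
    have b : n.1 ∈ 𝐂(ρ.range) := mem_centralizer_of_conj_eq fun x i => mul_inv_eq_one.1 (LO _
      (mul_mem (conj_mem_of_mem_normalizer (f.ct a) i) (inv_mem i)) (by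
        obtain ⟨g, -, rfl⟩ := mem_range_up.1 i
        refine (k (n * ⟨_, ct (f.Lc i)⟩ * n⁻¹ * ⟨_, ct (f.Lc i)⟩⁻¹)).1 ?_
        rw [map_mul, map_mul, map_mul, map_inv, map_inv, ← ur, conj_eq_of_mem_centralizer j.2 (up_range g), mul_inv_cancel]))
    have ab := mem_inf.2 ⟨a, b⟩
    refine (f.c0 ab).imp (fun e => (k n).2 (mo _ ab e)) fun e => ?_
    have := (k (n * ⟨t, tN⟩⁻¹)).2 (mo _ (mul_mem ab (inv_mem (tC (mem_zpowers t)))) (by rwa [← f.ti] at e))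
    rwa [map_mul, map_inv, mul_inv_eq_one] at this
  refine ⟨𝐍(O), _, inferInstance, inferInstance, π, ρ', π ⟨t, tN⟩, ct, QuotientGroup.mk'_surjective _, ?_, fun n j => l ((k n).1 j),
    fun g => up_eq (rN g), up_eq tN, ⟨⟨by rw [← map_mul]; exact (k _).2 tt, fun j => f.t1 (odd_e2 od ((k _).1 j) (e2_inv f.t2)),
      fun g a b => f.ker g a (LO _ (up_range g) ((k _).1 ((ur g).symm.trans b))), ?_, fun y j => ?_, fun y j _ => cen y j⟩, cen⟩,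
    fun x e => mem_normalizer_of_conj_mem fun o i => ?_⟩
  · rw [QuotientGroup.ker_mk', Nat.card_congr (subgroupOfEquivOfLe le_normalizer).toEquiv]; exact od
  · rintro _ ⟨g, rfl⟩
    exact (map_mul π _ _).symm.trans ((congrArg π (Subtype.ext (f.cm _ ⟨g, rfl⟩))).trans (map_mul π _ _))
  · obtain ⟨n, rfl⟩ := QuotientGroup.mk'_surjective _ y
    refine mem_normalizer_of_conj_mem ?_
    rintro _ ⟨g, rfl⟩
    obtain ⟨g', o⟩ := conj_mem_of_mem_normalizer (f.ct (c1 n j)) (⟨g, rfl⟩ : ρ g ∈ ρ.range)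
    exact ⟨g', (congrArg π (Subtype.ext o : _ = n * ⟨_, rN g⟩ * n⁻¹)).trans (by rw [map_mul, map_mul, map_inv]; rfl)⟩
  · have := od.of_dvd_nat (orderOf_dvd_natCard O i)
    exact mo _ (e o (l i) this) (by rwa [(SemiconjBy.orderOf_eq x (SemiconjBy.conj_mk x o)).symm])

namespace C0
variable (d : Sd σ m) (f : C0 ρ' s)
include d f
theorem lin (i : z ∈ 𝐂₁(s)) (l : g ∈ SU σ m) (e : Ind ρ' z g) : z = up ρ' g ∨ z = s * up ρ' g :=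
  (f.cen _ (f.quo d i l e)).imp mul_inv_eq_one.1 mul_inv_eq_iff_eq_mul.1
theorem cP (l : P ≤ SU σ m) (l' : H ≤ SU σ m) (k : ∀ ξ ∈ Gam σ m, ξ ∈ 𝐂(P) → ξ ∈ H) (i : z ∈ 𝐂₁(s)) (e : z ∈ 𝐂(im ρ' P)) :
    ∃ g ∈ H, z = up ρ' g ∨ z = s * up ρ' g :=
  let ⟨θ, ξ, a, b⟩ := f.ind d i
  have := k ξ ⟨θ, a⟩ (d.i_cent f.ker a b l e)
  ⟨ξ, this, f.lin d i (l' this) b⟩
theorem cx (l : Ti σ T) (r : 2 ≤ finrank K T) (i : z ∈ 𝐂₁(s))
    (e : ∀ v ∈ T, ∀ n a, (∀ x ∈ T, hf σ x n = 0) → z * ev ρ' v n a = ev ρ' v n a * z) :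
    ∃ w ∈ WX σ T, z = up ρ' w ∨ z = s * up ρ' w :=
  let ⟨θ, ξ, a, b⟩ := f.ind d i
  have := d.cX l r ⟨θ, a⟩ fun v j n c k => d.i_cm f.ker a b (d.E_SU _ _ _) (e v j n c k)
  ⟨ξ, this, f.lin d i (d.W_SU this) b⟩
theorem cyy (p : Pr σ u v) (i : z ∈ 𝐂₁(s)) (e : z ∈ 𝐂(im ρ' (Yy σ u v))) : ∃ a b c : K,
    z = tv ρ' u a * tv ρ' v b * ev ρ' u (c • v) 0 ∨ z = s * (tv ρ' u a * tv ρ' v b * ev ρ' u (c • v) 0) := by
  obtain ⟨w, j, k⟩ := f.cP d (fun _ i => (mem_Yy.1 i).1) d.W_SU (fun _ => d.cY2 p.2) i e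
  obtain ⟨a, b, c, rfl⟩ := d.W2 p.2 j
  exact ⟨a, b, c, by rwa [up_mul (mul_mem (tv_SU _ _) (tv_SU _ _)) (d.E_SU _ _ _), up_mul (tv_SU _ _) (tv_SU _ _)] at k⟩
theorem cy (v0 : v ≠ 0) (i : z ∈ 𝐂₁(s)) (e : z ∈ 𝐂(im ρ' (Y σ v))) : ∃ a, z = tv ρ' v a ∨ z = s * tv ρ' v a := by
  obtain ⟨w, j, k⟩ := f.cP d (fun _ i => (mem_Y.1 i).1) d.W_SU (fun _ => d.cY1) i e
  obtain ⟨a, rfl⟩ := d.W1 j
  exact ⟨a, k⟩
theorem cq (v0 : v ≠ 0) (i : z ∈ 𝐂₁(s)) (e : z ∈ 𝐂(im ρ' (Q σ v))) : ∃ g ∈ Q σ v, z = up ρ' g ∨ z = s * up ρ' g :=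
  f.cP d d.Q_SU d.Q_SU (fun _ => d.cQ0 v0) i e
end C0

/-- elements of odd order centralising `t` and a subgroup whose centraliser has exponent two centralise `L` -/
theorem F0.odc (d : Sd σ m) (f : F0 ρ t) (l : P ≤ SU σ m) (k : ∀ ξ ∈ Gam σ m, ξ ∈ 𝐂(P) → ξ * ξ = 1) (i : h ∈ 𝐂₁(t))
    (e : h ∈ 𝐂(im ρ P)) (o : Odd (orderOf h)) : h ∈ 𝐂(ρ.range) := by
  obtain ⟨θ, ξ, a, b⟩ := f.ind d i
  have := (d.ind_cen f.ker (one_mem _) (by simpa [k ξ ⟨θ, a⟩ (d.i_cent f.ker a b l e)] using b.mul a b)).2 rfl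
  obtain ⟨r, o⟩ := o
  have := inv_mem (pow_mem this r)
  rwa [← pow_two, ← pow_mul, inv_eq_of_mul_eq_one_right (b := h) (by rw [← pow_succ, ← o, pow_orderOf_eq_one])] at this

namespace Cn
variable (d : Sd σ m) (f : F0 ρ t) (c : Cn ρ t N π ρ' s)
include c
theorem tN : t ∈ N := c.ct (mem_c1.2 rfl)
include f
theorem rN (g : Perm (Fin m → K)) : up ρ g ∈ N := c.ct (f.Lc (up_range g))
theorem ur (g : Perm (Fin m → K)) : up π (up ρ g) = up ρ' g := by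
  by_cases i : g ∈ SU σ m
  · rw [up_eq i, up_eq i, c.rr]
  · rw [show up ρ g = 1 from dif_neg i, show up ρ' g = 1 from dif_neg i, up_one]
theorem cim (i : y ∈ N) (e : y ∈ 𝐂(im ρ P)) : up π y ∈ 𝐂(im ρ' P) := fun x j => by
  obtain ⟨g, a, b, rfl⟩ := mem_im.1 j
  rw [← c.ur f, ← up_mul (c.rN f g) i, e _ (up_im a b), up_mul i (c.rN f g)]
theorem tcj (i : y ∈ N) (e : y * t * y⁻¹ = t * up ρ g) : up π y * s * (up π y)⁻¹ = s * up ρ' g := by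
  rw [← c.tt, ← c.ur f, ← up_cj i c.tN, e, up_mul c.tN (c.rN f g)]
include d
theorem conj (i : g ∈ SU σ m) (e : g * g = 1) (k : IsConj s (s * up ρ' g)) : IsConj t (t * up ρ g) := by
  obtain ⟨x, k⟩ := isConj_iff.1 k
  obtain ⟨x, rfl⟩ := c.sur x
  let o : N := (⟨t, c.tN⟩ * ⟨_, c.rN f g⟩)⁻¹ * (x * ⟨t, c.tN⟩ * x⁻¹)
  have j : o ∈ π.ker := by
    rw [MonoidHom.mem_ker, map_mul, map_inv, inv_mul_eq_one, map_mul, map_mul, map_mul, map_inv, ← up_eq c.tN, ← up_eq (c.rN f g),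
      c.tt, c.ur f, k]
  have a := c.ker o j
  have : o = 1 := odd_e2 c.odd j (e2_inv (Subtype.ext (by
    have b : Commute (t * up ρ g) o.1 := Commute.mul_left (mem_c1.1 a.1).symm (a.2 _ (up_range g))
    have t2 : t * up ρ g * (t * up ρ g) = 1 := by
      rw [mul_assoc, ← mul_assoc _ t, f.tc, mul_assoc, ← up_mul i i, e, up_one, mul_one, f.t2]
    have := (f.cj x).t2
    rw [show x.1 * t * x.1⁻¹ = t * up ρ g * o.1 from (mul_inv_cancel_left _ _).symm, ← pow_two, b.mul_pow, pow_two, t2, one_mul,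
      pow_two] at this
    exact this)))
  exact isConj_iff.2 ⟨x, (inv_mul_eq_one.1 (congrArg Subtype.val this)).symm⟩
theorem mem (l : P ≤ SU σ m) (k : ∀ ξ ∈ Gam σ m, ξ ∈ 𝐂(P) → ξ * ξ = 1) (i : g ∈ P) (e : y * t * y⁻¹ = t * up ρ g)
    (j : y ∈ 𝐂(im ρ P)) : y ∈ N := c.big y fun o a b => by
  have p : y * o * y⁻¹ ∈ 𝐂(im ρ P) := mul_mem (mul_mem j (centralizer_anti im_le a.2)) (inv_mem j)
  have q : y * o * y⁻¹ ∈ 𝐂₁(t) := mem_c1.2 (mul_right_cancel (b := up ρ g) (by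
    rw [mul_assoc _ t, mul_assoc t, ← p _ (up_im i (l i)), ← mul_assoc t, ← e, ← conj_mul_conj, ← conj_mul_conj, mem_c1.1 a.1]))
  exact ⟨q, f.odc d l k q p (by rwa [(SemiconjBy.orderOf_eq y (SemiconjBy.conj_mk y o)).symm])⟩
theorem xzN (k : Xz ρ t y) : y ∈ N :=
  c.mem d f d.Q_SU (fun _ a b => d.Q_sq (d.cQ0 d.pr01.u0 a b)) (E_Q _ _ _) k.tz k.cq
theorem xbN (k : Xb ρ t y) : y ∈ N :=
  c.mem d f (fun _ i => (mem_Yy.1 i).1) (fun _ a b => d.W_el (d.tiP d.pr01.2) _ (d.cY2 d.pr01.2 a b))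
    (d.E_Yy (d.iso _) d.pr01.2 (d.sw d.pr01.2) (d.iso _) 0) k.ta k.cy
theorem xz (k : Xz ρ t y) : Xz ρ' s (up π y) :=
  have i := c.xzN d f k
  ⟨c.tcj f i k.tz, c.cim f i k.cq, fun x j => by
    obtain ⟨g, a, b, rfl⟩ := mem_im.1 j
    obtain ⟨w, a', b', e⟩ := mem_im.1 (k.cy _ (up_im a b))
    rw [← c.ur f, ← up_comm i (c.rN f g), ← e, c.ur f]; exact up_im a' b'⟩
theorem xb (k : Xb ρ t y) : Xb ρ' s (up π y) :=
  have i := c.xbN d f k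
  ⟨c.tcj f i k.ta, c.cim f i k.cy⟩
end Cn

end CF.Sq
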