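import Cfsg.Agent.Sq.J1
import Cfsg.Agent.Ud.T1

/-! Standard symplectic subgroups: the first fusion of `t`. -/

set_option autoImplicit false
set_option linter.unusedSectionVars false
set_option linter.unusedVariables false

namespace CF.Sq

open Cfsg Subgroup Equiv CF.Loc CF.LX CF.Ud Module Ud.Tx
open CF.Dbl (El)
open scoped commutatorElement

variable {K : Type} [Field K] [Fintype K] [CharP K 2] {m : ℕ} {σ θ : K ≃+* K} {g ξ w : Perm (Fin m → K)}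
  {P : Subgroup (Perm (Fin m → K))} {G : Type*} [Group G] [Finite G] {ρ : SU σ m →* G} {t h x y : G} {F R J : Subgroup G}

namespace T2
variable (d : Sd σ m) (f : Fr ρ t)
include d f
theorem tL : t ∉ ρ.range := fun i => f.t1 (d.cap f.ker i f.cm)
theorem sq (l : Sem σ θ ξ) (i : Ind ρ h ξ) (e : h * h = 1) : ξ * ξ = 1 :=
  (d.ind_cen f.ker (mul_mem ⟨θ, l⟩ ⟨θ, l⟩) (i.mul l i)).1 (e ▸ one_mem _)
theorem lin (i : h ∈ 𝐂₁(t)) (e : h * h = 1) (l : g ∈ SU σ m) (k : Ind ρ h g) : h = up ρ g ∨ h = t * up ρ g := by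
  have c : h * (up ρ g)⁻¹ ∈ 𝐂(ρ.range) :=
    (d.ind_cen f.ker (one_mem _) (by simpa using k.mul (su_sem l).inv ((ind_up l).inv (su_sem l)))).2 rfl
  refine (inv1 f ((𝐂₁(t)).mul_mem i (inv_mem (mem_c1.2 (f.cm _ (up_range g))))) c ?_).imp mul_inv_eq_one.1 mul_inv_eq_iff_eq_mul.1
  have : Commute h (up ρ g)⁻¹ := Commute.inv_right (k.cm l rfl)
  rw [← pow_two, this.mul_pow, inv_pow, pow_two, pow_two, e, ← up_mul l l, sq d f (su_sem l) k e]; simp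
omit d in
theorem memA (i : g ∈ P) (j : g ∈ SU σ m) (e : h = up ρ g ∨ h = t * up ρ g) : h ∈ im ρ P ⊔ zpowers t := by
  rcases e with rfl | rfl
  exacts [mem_sup_left (up_im i j), mul_mem (mem_sup_right (mem_zpowers t)) (mem_sup_left (up_im i j))]
theorem lin3 (i : h ∈ 𝐂₁(t)) (e : h * h = 1) (l : Sem σ 1 g) (k : Ind ρ h g) : ∃ r ∈ ρ.range, r * h * r⁻¹ ∈ im ρ (WW σ m) ⊔ zpowers t := by
  obtain ⟨r, a, b⟩ := d.m3 l (sq d f l k e)
  refine ⟨_, up_range r, memA f b (d.W_SU b) ((lin d f i e (d.mem_SU l) k).imp (fun k => ?_) fun k => ?_)⟩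
  · rw [k, up_cj a (d.mem_SU l)]
  · rw [k, up_cj a (d.mem_SU l), conj_mul_conj, conj_eq_iff.2 (f.cm _ (up_range r))]
theorem dlin (i : h ∈ ⁅𝐂₁(t), 𝐂₁(t)⁆) : ∃ g, Sem σ 1 g ∧ Ind ρ h g := by
  obtain ⟨ψ, Θ, a, -⟩ := d.psi f.ker
  have := cycA (K := K)
  have l := commutator_mono (Dm.s_ct f) (Dm.s_ct f) i
  rw [← map_subtype_commutator] at l
  obtain ⟨x, l, rfl⟩ := l
  refine ⟨_, (show Θ x = 1 from (commutator_le (H₃ := Θ.ker)).2 (fun a _ b _ => ?_) l) ▸ (a x).1, (a x).2⟩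
  rw [MonoidHom.mem_ker, map_commutatorElement, commutatorElement_eq_one_iff_mul_comm, mul_comm']
theorem exA (o : Top ρ F) : ∃ g : G, g * t * g⁻¹ ∈ im ρ (WW σ m) ⊔ zpowers t ∧ g * t * g⁻¹ ≠ t := by
  obtain ⟨g, c, n⟩ : ∃ g, Commute t (g * t * g⁻¹) ∧ g * t * g⁻¹ ≠ t := by
    by_contra! k
    have := (Char.inZStar_iff_mem_center o.oc).1 (Char.inZStar_of_isolated ⟨orderOf_eq_prime (by rw [pow_two, f.t2]) f.t1, k⟩)
    exact f.t1 (mem_bot.1 (o.cen ▸ fun x _ => mem_center_iff.1 this x))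
  have s2 := (fr_cj f g).t2
  have i := mem_c1.2 c.eq.symm
  obtain ⟨α, ⟨θ, s⟩, j⟩ := d.ind_of f.ker (Dm.s_ct f i)
  by_cases e : θ = 1
  · obtain ⟨r, a, b⟩ := lin3 d f i s2 (e ▸ s) j
    refine ⟨r * g, by simpa [mul_assoc] using b, fun k => n ?_⟩
    calc _ = r⁻¹ * (r * g * t * (r * g)⁻¹) * r⁻¹⁻¹ := by group
      _ = t := by rw [k, conj_eq_iff.2 (f.cm _ (inv_mem a))]
  obtain ⟨a, k, a2, a1, y, b, p⟩ := d.good s (sq d f s j s2) e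
  have aS := (commutator_le_self _ k).1
  have l : cj[g⁻¹] (im ρ (SU σ m ⊓ 𝐂₁(α))) ≤ 𝐂₁(t) := by
    rw [cj_le_iff, inv_inv, cj_centralizer_singleton]
    intro y a
    obtain ⟨y, b, b', rfl⟩ := mem_im.1 a
    exact mem_c1.2 (j.cm b' (mem_c1.1 b.2).symm).symm
  have j' : g⁻¹ * up ρ a * g⁻¹⁻¹ ∈ ⁅𝐂₁(t), 𝐂₁(t)⁆ := commutator_mono l l (cj_commutator g⁻¹ _ _ ▸ conj_mem_cj _
    (Ud.Sx.im_comm (φ := ρ) inf_le_left inf_le_left ▸ up_im k aS))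
  obtain ⟨ξ, q, q'⟩ := dlin d f j'
  obtain ⟨r, b', k⟩ := lin3 d f (commutator_le_self _ j') (by rw [← conj_mul_conj, ← up_mul aS aS, a2]; simp) q q'
  have e : up ρ y * (g * t * g⁻¹) * (up ρ y)⁻¹ = g * t * g⁻¹ * up ρ a := by
    have : a = α⁻¹ * y * α⁻¹⁻¹ * y⁻¹ := by rw [inv_inv, mul_assoc, mul_assoc, ← mul_assoc y, p]; simp
    rw [this, up_mul (s.inv.su b) (inv_mem b), ← j.inv s y b, up_inv b]; group
  have : r * (g⁻¹ * up ρ y * g) * t * (r * (g⁻¹ * up ρ y * g))⁻¹ = t * (r * (g⁻¹ * up ρ a * g⁻¹⁻¹) * r⁻¹) := by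
    calc _ = r * g⁻¹ * (up ρ y * (g * t * g⁻¹) * (up ρ y)⁻¹) * g * r⁻¹ := by group
      _ = r * t * r⁻¹ * (r * (g⁻¹ * up ρ a * g⁻¹⁻¹) * r⁻¹) := by rw [e]; group
      _ = _ := by rw [conj_eq_iff.2 (f.cm r b')]
  exact ⟨_, this ▸ mul_mem (mem_sup_right (mem_zpowers t)) k, fun k => a1 (d.up_inj f.ker aS (one_mem _)
    ((conj_eq_one_iff.1 (conj_eq_one_iff.1 (mul_eq_left.1 (this.symm.trans k)))).trans up_one.symm))⟩
theorem elA : El (im ρ (WW σ m) ⊔ zpowers t) :=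
  Dm.s_elsup (Ud.Sx.el_im (d.W_el (Vf_ti le_rfl))) (fun x i => by rcases mzp f.t2 i with rfl | rfl <;> simp [f.t2]) (cB f)
theorem cardA : 2 * Nat.card (WW σ m) ≤ Nat.card ↥(im ρ (WW σ m) ⊔ zpowers t) := by
  have := card_sup_mul_card_inf' ((cB (P := WW σ m) f).trans (centralizer_le_normalizer _))
  rw [show im ρ (WW σ m) ⊓ zpowers t = ⊥ from eq_bot_iff.2 fun x i => (mzp f.t2 i.2).resolve_right fun k => tL d f (im_le (k ▸ i.1)),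
    card_bot, mul_one, d.card_im f.ker (P := WW σ m) d.W_SU, Nat.card_zpowers, orderOf_eq_prime (p := 2) (by rw [pow_two, f.t2]) f.t1] at this
  omega
theorem wc (two : IsPGroup 2 R) (l : R ≤ 𝐂₁(t)) (u : im ρ (WW σ m) ≤ R) (i : J ≤ R) (e : El J)
    (k : 2 * Nat.card (WW σ m) ≤ Nat.card J) : J ≤ im ρ (WW σ m) ⊔ zpowers t := by
  obtain ⟨ψ, Θ, a, b, c⟩ := d.psi f.ker
  have n := l.trans (Dm.s_ct f)
  have p := Dq.T1.card2 (ψ.comp (inclusion (i.trans n))) (fun c => c.1 = t) (fun c k => (inv1 f (l (i c.2)) ((b _).1 k) (e _ c.2)).imp_left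
    Subtype.ext) fun a b i j => Subtype.ext (i.trans j.symm)
  have q := d.ju (P := im ψ R) (A := (ψ.comp (inclusion (i.trans n))).range) (im_le.trans (by rintro _ ⟨r, rfl⟩; exact ⟨_, (a r).1⟩))
    (Ud.Sx.two_im two) (by rintro _ ⟨r, rfl⟩; exact ⟨_, i r.2, rfl⟩) (by
      rintro _ ⟨r, rfl⟩; rw [← map_mul, show r * r = 1 from Subtype.ext (e _ r.2), map_one]) (by omega)
    (fun w j => have := u (up_im j (d.W_SU j)); c w (d.W_SU j) ▸ up_im this (n this)) (d.W_el (Vf_ti le_rfl)) le_rfl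
  intro x j
  have w : ψ ⟨x, n (i j)⟩ ∈ WW σ m := q ▸ ⟨⟨x, j⟩, rfl⟩
  exact memA f w (d.W_SU w) (lin d f (l (i j)) (e x j) (d.W_SU w) (a ⟨x, n (i j)⟩).2)
theorem ctl (s : IsSyl 2 R 𝐂₁(t)) (u : im ρ (WW σ m) ≤ R) (i : x * t * x⁻¹ ∈ im ρ (WW σ m) ⊔ zpowers t) :
    ∃ n ∈ 𝐍(im ρ (WW σ m) ⊔ zpowers t), n * t * n⁻¹ = x * t * x⁻¹ := by
  have el := elA d f
  obtain ⟨k, j, l⟩ := s.exists_cj_le (el_two (el_cj el x⁻¹)) (by
    rw [cj_le_iff, inv_inv, cj_centralizer_singleton]; exact fun y j => mem_c1.2 (el_cm el j i))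
  rw [← cj_mul] at l
  refine ⟨_, inv_mem (mem_normalizer_of_cj_le (wc d f s.isPGroup s.le u l (el_cj el _) (by rw [card_cj]; exact cardA d f))), ?_⟩
  calc _ = x * (k⁻¹ * t * k⁻¹⁻¹) * x⁻¹ := by group
    _ = _ := by rw [conj_eq_iff.2 (mem_c1.1 (inv_mem j))]
theorem nW (n : h ∈ 𝐍(ρ.range)) (i : h ∈ 𝐍(im ρ (UT σ m))) : h ∈ 𝐍(im ρ (WW σ m)) :=
  let ⟨ξ, l, k⟩ := d.ind_of f.ker n
  inor d.W_SU k ((d.W_norm l).2 ((d.U_norm l).1 (d.i_nor f.ker l.choose_spec k d.U_SU i) _))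
theorem r2 (s : IsSyl 2 R 𝐂₁(t)) (u : im ρ (UT σ m) ≤ R) (n : x ∈ 𝐍(im ρ (WW σ m) ⊔ zpowers t)) (e : x * t * x⁻¹ ≠ t) : R2 ρ t :=
    fun r i r2 => by
  by_contra! k
  obtain ⟨r', a, b, r4⟩ : ∃ r' ∈ R, r' ∈ 𝐂(ρ.range) ∧ r' * r' = t := by
    obtain ⟨y, j, l⟩ := s.exists_cj_le (two_zp r2) (zpowers_le.2 i.1)
    have a := l (conj_mem_cj y (mem_zpowers r))
    have b := conj_mem_of_mem_normalizer (normalizer_le_normalizer_centralizer _ (Dm.s_ct f j)) i.2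
    have k1 : y * r * y⁻¹ ≠ 1 := by simpa using k.1
    have k2 : y * r * y⁻¹ ≠ t := fun o => k.2 (by
      rw [mul_inv_eq_iff_eq_mul, ← mem_c1.1 j] at o; exact mul_left_cancel o)
    obtain ⟨n, o⟩ := r2.cj y
    generalize y * r * y⁻¹ = r at *
    induction n generalizing r with
    | zero => exact (k1 (by simpa using o)).elim
    | succ n ih =>
      by_cases p : r * r = t
      · exact ⟨r, a, b, p⟩
      · exact ih _ (mul_mem a a) (mul_mem b b) (fun p => (inv1 f (s.le a) b p).elim k1 k2) p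
          (by rw [← pow_two, ← pow_mul, ← pow_succ', o])
  have RN := s.le.trans (Dm.s_ct f)
  have nA : R ≤ 𝐍(im ρ (WW σ m) ⊔ zpowers t) := le_normalizer_sup (fun y j => nW d f (RN j) (by
    rw [← (d.sylL ρ).eq_of_le s.isPGroup.to_inf_left (le_inf u im_le) inf_le_right]
    exact le_normalizer_inf le_normalizer RN j)) fun y j => centralizer_le_normalizer _ (centralizer_zpowers t ▸ s.le j)
  have cA : 𝐂(im ρ (WW σ m) ⊔ zpowers t) = 𝐂(im ρ (WW σ m)) ⊓ 𝐂₁(t) := by rw [centralizer_sup, centralizer_zpowers]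
  have s1 := (s.mono (le_inf s.le nA) inf_le_left).inf_of_le_normalizer (le_inf (cA.le.trans inf_le_right) (centralizer_le_normalizer _))
    (le_normalizer_centralizer inf_le_right)
  obtain ⟨y, j, z, l, rfl⟩ := s1.frattini (normalizer_le_normalizer_centralizer _ n)
  have rP : r' ∈ R ⊓ 𝐂(im ρ (WW σ m) ⊔ zpowers t) := ⟨a, cA ▸ ⟨centralizer_anti im_le b, s.le a⟩⟩
  have uP := conj_mem_of_mem_normalizer l rP
  obtain ⟨ξ, ⟨θ, p⟩, q⟩ := d.ind_of f.ker (RN uP.1)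
  have := (d.ind_cen f.ker (mul_mem ⟨θ, p⟩ ⟨θ, p⟩) (q.mul p q)).2 (d.W_el (Vf_ti le_rfl) _
    (d.cW ⟨θ, p⟩ (d.i_cent f.ker p q d.W_SU (cA.le uP.2).1)))
  rw [← conj_mul_conj, r4] at this
  have tP : t ∈ R ⊓ 𝐂(im ρ (WW σ m) ⊔ zpowers t) := by have := mul_mem rP rP; rwa [r4] at this
  rcases inv1 f (s.le (conj_mem_of_mem_normalizer l tP).1) this (fr_cj f z).t2 with k | k
  · exact (fr_cj f z).t1 k
  · exact e (by rw [mul_inv_rev, ← mul_assoc, mul_assoc y, mul_assoc y, k, conj_eq_iff.2 (mem_c1.1 (cA.le j).2)])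
end T2

open T2

theorem tz0 (d : Sd σ m) (f : Fr ρ t) (o : Top ρ F) :
    R2 ρ t ∧ ∃ c a : K, (c ≠ 0 ∨ a ≠ 0) ∧ IsConj t (t * ev ρ (bv 0) (c • bv 1) a) := by
  obtain ⟨T, s, u⟩ := exists_isSyl_ge (Ud.Sx.two_im d.U_two) (im_le.trans fun x i => mem_c1.2 (f.cm x i) : im ρ (UT σ m) ≤ 𝐂₁(t))
  obtain ⟨g, i, e⟩ := exA d f o
  obtain ⟨n, i, k⟩ := ctl d f s ((Ud.Sx.im_mono d.W_le).trans u) i
  rw [← k] at e
  refine ⟨r2 d f s u i e, by_contra fun nc => ?_⟩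
  have tA : t ∈ im ρ (WW σ m) ⊔ zpowers t := mem_sup_right (mem_zpowers t)
  have tB : t ∉ im ρ (WW σ m) := fun k => tL d f (im_le k)
  have st : ∀ n ∈ 𝐍(im ρ (WW σ m) ⊔ zpowers t), ∀ y ∈ {y | y ∈ im ρ (WW σ m) ⊔ zpowers t ∧ IsConj t y},
      n * y * n⁻¹ ∈ {y | y ∈ im ρ (WW σ m) ⊔ zpowers t ∧ IsConj t y} := fun n i y j =>
    ⟨conj_mem_of_mem_normalizer i j.1, j.2.trans (isConj_iff.2 ⟨n, rfl⟩)⟩
  have nA : ∀ x ∈ ρ.range, x ∈ 𝐍(im ρ (WW σ m)) → x ∈ 𝐍(im ρ (WW σ m) ⊔ zpowers t) := fun x i j =>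
    le_normalizer_sup (zpowers_le.2 j) (zpowers_le.2 (centralizer_le_normalizer _ (centralizer_zpowers t ▸ mem_c1.2 (f.cm x i))))
      (mem_zpowers x)
  have nB : im ρ (UT σ m) ≤ 𝐍(im ρ (WW σ m)) := fun x i => nW d f (le_normalizer (im_le i)) (le_normalizer i)
  obtain ⟨x, xA, xB, k⟩ := prod_fix (fun a i b j => el_cm (elA d f) j i) f.t2 tA tB (fun x i => (Tx.memA f i).resolve_left)
    (Ω := {y | y ∈ im ρ (WW σ m) ⊔ zpowers t ∧ IsConj t y}) (fun _ i => i.1) (by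
      have := Ab2.ncard_modEq Nat.prime_two (BG.piGrp_of_isPGroup Nat.prime_two (Ud.Sx.two_im (φ := ρ) d.U_two))
        (s := {y | y ∈ im ρ (WW σ m) ⊔ zpowers t ∧ IsConj t y} \ im ρ (WW σ m)) fun u i y j =>
          ⟨st u (nA u (im_le i) (nB i)) y j.1, fun k => j.2 (by
            simpa [mul_assoc] using conj_mem_of_mem_normalizer' (nB i) k)⟩
      refine Nat.odd_iff.2 (Eq.trans this (congrArg (· % 2) (Set.ncard_eq_one.2 ⟨t, ?_⟩)))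
      refine Set.eq_singleton_iff_unique_mem.2 ⟨⟨⟨⟨tA, IsConj.refl t⟩, tB⟩, centralizer_anti im_le f.cm⟩, fun y j => ?_⟩
      obtain ⟨w, a, b, k⟩ := mem_im.1 ((Tx.memA f j.1.1.1).resolve_left j.1.2)
      obtain ⟨c, a', rfl⟩ := d.zU.1 ⟨d.W_le a, d.i_cent f.ker (su_sem b) (ind_up b) d.U_SU
        (k ▸ mul_mem (centralizer_anti im_le f.cm) j.2)⟩
      have k : y = t * ev ρ (bv 0) (c • bv 1) a' := by rw [ev, k, ← mul_assoc, f.t2, one_mul]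
      by_contra y1
      exact nc ⟨c, a', by_contra fun z => y1 (by push Not at z; simp [k, z.1, z.2, ev]), k ▸ j.1.1.2⟩)
  obtain ⟨w, a, b, l⟩ := mem_im.1 ((Tx.memA f xA).resolve_left xB)
  have : w = 1 := d.PP_fix a fun g j => d.i_cm f.ker (su_sem j.1) (ind_up j.1) b (by
    have n := nA _ (up_range g) (inor d.W_SU (ind_up j.1) j.2)
    rw [l, ← mul_assoc, f.cm _ (up_range g), mul_assoc, conj_eq_iff.1 (k _ n (st _ n)), mul_assoc])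
  rw [this, up_one, eq_comm, mul_eq_one_iff_inv_eq, Ud.Sx.ti f.t2] at l
  exact e (l ▸ k n i (st n i))

theorem Sx.tz0 (d : Sx σ m) (f : Fr ρ t) (o : Top ρ F) :
    R2 ρ t ∧ ∃ c a : K, (c ≠ 0 ∨ a ≠ 0) ∧ IsConj t (t * ev ρ (bv 0) (c • bv 1) a) := Sq.tz0 d.toSd f o

end CF.Sq
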