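import Cfsg.Agent.Sq.C2
import Cfsg.Agent.Sq.B2
import Cfsg.Agent.Ud.E0

/-! The groups `WX T` in additive coordinates. -/

set_option autoImplicit false
set_option linter.unusedSectionVars false
set_option linter.unusedVariables false

namespace CF.Sq

open Cfsg Subgroup Equiv CF.Loc CF.LX CF.Ud Module
open CF.Ud.Ex (pe pe_ap)
open scoped commutatorElement

variable {K : Type} [Field K] [Fintype K] [CharP K 2] {m : ℕ} {σ : K ≃+* K} {a b c : K} {g : Perm (Fin m → K)}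
  {X : Type*} [Group X] [Finite X] {ρ : SU σ m →* X}

/-- totally isotropic subspaces -/
structure TI (σ : K ≃+* K) (m : ℕ) where
  T : Submodule K (Fin m → K)
  d : Sd σ m
  l : Ti σ T

variable (σ) in
/-- rank one maps -/
def ot (u v : Fin m → K) : End K (Fin m → K) where
  toFun x := hf σ x u • v
  map_add' x y := by simp [add_smul]
  map_smul' c x := by simp [mul_smul]

theorem ot_ap (u v x : Fin m → K) : ot σ u v x = hf σ x u • v := rfl

theorem li3 {x y z : Fin m → K} : LinearIndependent K ![x, y, z] ↔ ∀ a b c : K, a • x + b • y + c • z = 0 → a = 0 ∧ b = 0 ∧ c = 0 := by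
  rw [Fintype.linearIndependent_iff]
  refine ⟨fun h a b c e => ?_, fun h g e i => ?_⟩
  · have := h ![a, b, c] (by simpa [Fin.sum_univ_three] using e)
    exact ⟨this 0, this 1, this 2⟩
  · obtain ⟨a, b, c⟩ := h (g 0) (g 1) (g 2) (by simpa [Fin.sum_univ_three] using e)
    fin_cases i <;> assumption
theorem li2 {x y : Fin m → K} : LinearIndependent K ![x, y] ↔ ∀ a b : K, a • x + b • y = 0 → a = 0 ∧ b = 0 := LinearIndependent.pair_iff

namespace TI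
variable (τ : TI σ m)

/-- symmetric maps into `T` -/
def N : Submodule K (End K (Fin m → K)) where
  carrier := {D | (∀ x, D x ∈ τ.T) ∧ (∀ x ∈ τ.T, D x = 0) ∧ ∀ x y, hf σ (D x) y = hf σ (D y) x}
  add_mem' := fun a b => ⟨fun x => add_mem (a.1 x) (b.1 x), fun x h => by simp [a.2.1 x h, b.2.1 x h],
    fun x y => by simp [a.2.2 x y, b.2.2 x y]⟩
  zero_mem' := ⟨fun _ => zero_mem _, fun _ _ => rfl, by simp⟩
  smul_mem' := fun c _ a => ⟨fun x => Submodule.smul_mem _ c (a.1 x), fun x h => by simp [a.2.1 x h], fun x y => by simp [a.2.2 x y]⟩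

variable {τ} (u v x : τ.T) (D D' : τ.N)

theorem pp : hf σ u.1 v.1 = 0 := τ.l _ u.2 _ v.2

/-- the square of a vector -/
def qd : τ.N := ⟨ot σ u u, fun _ => Submodule.smul_mem _ _ u.2, fun x h => by simp [ot_ap, τ.l x h _ u.2],
  fun x y => by simp [ot_ap, τ.d.comm u.1, mul_comm]⟩

/-- the symmetric product -/
def sy : τ.N := ⟨ot σ u v + ot σ v u, fun _ => add_mem (Submodule.smul_mem _ _ v.2) (Submodule.smul_mem _ _ u.2),
  fun x h => by simp [ot_ap, τ.l x h _ u.2, τ.l x h _ v.2], fun x y => by simp [ot_ap, τ.d.comm u.1, τ.d.comm v.1]; ring⟩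

theorem qd_ap (y : Fin m → K) : (qd u).1 y = hf σ y u • u.1 := rfl
theorem sy_ap (y : Fin m → K) : (sy u v).1 y = hf σ y u • v.1 + hf σ y v • u.1 := rfl
theorem nn : D + D = 0 := Subtype.ext (Ud.Ex.ee _)
theorem sy_comm : sy u v = sy v u := Subtype.ext (add_comm _ _)
@[simp] theorem sy_self : sy u u = 0 := Subtype.ext (Ud.Ex.ee _)
@[simp] theorem sy_add_l : sy (u + v) x = sy u x + sy v x := Subtype.ext (LinearMap.ext fun y => by simp [sy_ap]; module)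
@[simp] theorem sy_add_r : sy x (u + v) = sy x u + sy x v := Subtype.ext (LinearMap.ext fun y => by simp [sy_ap]; module)
@[simp] theorem sy_sm_l (c : K) : sy (c • u) v = c • sy u v := Subtype.ext (LinearMap.ext fun y => by simp [sy_ap, τ.d.s1]; module)
@[simp] theorem sy_sm_r (c : K) : sy u (c • v) = c • sy u v := by rw [sy_comm, sy_sm_l, sy_comm]
@[simp] theorem sy_zero_r : sy u 0 = 0 := by simpa using sy_sm_r u u 0
@[simp] theorem sy_zero_l : sy 0 u = 0 := by simpa using sy_sm_l u u 0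
@[simp] theorem qd_add : qd (u + v) = qd u + qd v + sy u v := Subtype.ext (LinearMap.ext fun y => by simp [sy_ap, qd_ap]; module)
@[simp] theorem qd_sm (c : K) : qd (c • u) = (c * c) • qd u := Subtype.ext (LinearMap.ext fun y => by simp [qd_ap, τ.d.s1]; module)
@[simp] theorem qd_zero : qd (0 : τ.T) = 0 := by simpa using qd_sm (0 : τ.T) 0

theorem pe_ap' (y : Fin m → K) : pe D.1 y = y + D.1 y := pe_ap (fun x => D.2.2.1 _ (D.2.1 x)) y
theorem pe_W : pe D.1 ∈ WX σ τ.T := ⟨⟨fun x y => by simp only [pe_ap', map_add]; abel, fun c x => by simp [pe_ap'], fun x y => by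
  simp only [pe_ap', hf_add_l, hf_add_r, τ.l _ (D.2.1 x) _ (D.2.1 y), τ.d.comm x (D.1 y), D.2.2.2 x y]
  change _ = hf σ x y
  grind, fun _ => rfl⟩, fun x => by simpa [pe_ap'] using D.2.1 x⟩
theorem pe_SU : pe D.1 ∈ SU σ m := τ.d.su_iff.2 (pe_W D).1
theorem pe_add : pe (D + D').1 = pe D.1 * pe D'.1 := Equiv.ext fun y => by
  rw [pe_ap']; simp [pe_ap', D.2.2.1 _ (D'.2.1 y), add_assoc, add_comm (D.1 y)]
theorem pe_fix : pe D.1 u = u := by simp [pe_ap', D.2.2.1 _ u.2]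
theorem pe_Yy : pe D.1 ∈ Yy σ u.1 v.1 := mem_Yy.2 ⟨pe_SU D, pe_fix _ _, pe_fix _ _⟩
theorem pe_Y : pe D.1 ∈ Y σ u.1 := ⟨pe_SU D, pe_fix _ _⟩
theorem E_eq (a : K) : E σ u.1 v.1 a = pe (sy u v + a • qd u).1 := Equiv.ext fun y => by
  rw [pe_ap']; simp [E_ap (τ.d.ok (pp v u) a), sy_ap, qd_ap]; module
theorem tv_eq' (a : K) : E σ u.1 0 a = pe (a • qd u).1 := by simpa using E_eq u 0 a
theorem E_eq' (c : K) : E σ u.1 (c • v.1) 0 = pe (c • sy u v).1 := by simpa using E_eq u (c • v) 0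

variable (ρ) in
/-- the group element -/
noncomputable def wl : X := up ρ (pe D.1)

theorem wl_add : wl ρ (D + D') = wl ρ D * wl ρ D' := by rw [wl, pe_add, up_mul (pe_SU _) (pe_SU _)]; rfl
theorem wl_mul : wl ρ D * wl ρ D' = wl ρ (D + D') := (wl_add ..).symm
@[simp] theorem wl_zero : wl ρ (0 : τ.N) = 1 := by simpa using wl_add (ρ := ρ) (0 : τ.N) 0
theorem wl_sq : wl ρ D * wl ρ D = 1 := by rw [wl_mul, nn, wl_zero]
theorem wl_inv : (wl ρ D)⁻¹ = wl ρ D := inv_eq_of_mul_eq_one_right (wl_sq D)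
theorem wl_cm : Commute (wl ρ D) (wl ρ D') := by rw [Commute, SemiconjBy, wl_mul, wl_mul, add_comm]
theorem wl_mem : wl ρ D ∈ ρ.range := up_range _
variable {D D'} in
theorem wl_inj (k : Ker ρ) (e : wl ρ D = wl ρ D') : D = D' := Subtype.ext (LinearMap.ext fun y => by
  simpa [pe_ap'] using congrArg (· y) (τ.d.up_inj k (pe_SU _) (pe_SU _) e))
theorem ev_eq (a : K) : ev ρ u.1 v.1 a = wl ρ (sy u v + a • qd u) := congrArg _ (E_eq ..)
theorem ev_eq0 : ev ρ u.1 v.1 0 = wl ρ (sy u v) := by simp [ev_eq]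
theorem tv_eq (a : K) : tv ρ u.1 a = wl ρ (a • qd u) := congrArg _ (tv_eq' ..)
theorem ev_eq' (c : K) : ev ρ u.1 (c • v.1) 0 = wl ρ (c • sy u v) := congrArg _ (E_eq' ..)

variable {u v x}
theorem c6 (l : LinearIndependent K ![u.1, v.1, x.1]) {a₁ a₂ a₃ b₁ b₂ b₃ : K}
    (e : a₁ • qd u + a₂ • qd v + a₃ • qd x + b₁ • sy u v + b₂ • sy u x + b₃ • sy v x = 0) :
    a₁ = 0 ∧ a₂ = 0 ∧ a₃ = 0 ∧ b₁ = 0 ∧ b₂ = 0 ∧ b₃ = 0 := τ.d.w3inj l (pp _ _) (pp _ _) (pp _ _) (by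
  simp only [tv_eq', E_eq', ← pe_add, e]
  exact Equiv.ext fun y => by rw [pe_ap']; simp)
theorem c3 (l : LinearIndependent K ![u.1, v.1]) (e : a • qd u + b • qd v + c • sy u v = 0) : a = 0 ∧ b = 0 ∧ c = 0 := by
  obtain ⟨y, h1, h2⟩ := τ.d.dual2 l 1 0
  obtain ⟨y', h1', h2'⟩ := τ.d.dual2 l 0 1
  have k := fun y => congrArg (fun D : τ.N => D.1 y) e
  have k1 := li2.1 l a c (by simpa [qd_ap, sy_ap, h1, h2] using k y)
  have k2 := li2.1 l c b (by simpa [qd_ap, sy_ap, h1', h2', add_comm] using k y')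
  exact ⟨k1.1, k2.2, k1.2⟩
theorem c1 (u0 : u.1 ≠ 0) (e : a • qd u = 0) : a = 0 := by
  obtain ⟨y, h⟩ := τ.d.partner u0
  simpa [qd_ap, h, u0] using congrArg (fun D : τ.N => D.1 y) e
theorem pr (l : LinearIndependent K ![u.1, v.1]) : Pr σ u.1 v.1 := ⟨l, pp _ _⟩

end TI

theorem Sd.ti4 (d : Sd σ m) {u v x y : Fin m → K} (e₁ : hf σ u v = 0) (e₂ : hf σ u x = 0) (e₃ : hf σ v x = 0) (e₄ : hf σ u y = 0)
    (e₅ : hf σ v y = 0) (e₆ : hf σ x y = 0) : ∃ τ : TI σ m, ∃ u' v' x' y' : τ.T, u = u' ∧ v = v' ∧ x = x' ∧ y = y' := by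
  have l : Ti σ (Submodule.span K (Set.range ![u, v, x, y])) := ti_span fun i j => by
    fin_cases i <;> fin_cases j <;> simp [d.iso, *, d.sw e₁, d.sw e₂, d.sw e₃, d.sw e₄, d.sw e₅, d.sw e₆]
  exact ⟨⟨_, d, l⟩, ⟨u, Submodule.subset_span ⟨0, rfl⟩⟩, ⟨v, Submodule.subset_span ⟨1, rfl⟩⟩, ⟨x, Submodule.subset_span ⟨2, rfl⟩⟩,
    ⟨y, Submodule.subset_span ⟨3, rfl⟩⟩, rfl, rfl, rfl, rfl⟩
theorem Sd.ti3 (d : Sd σ m) {u v x : Fin m → K} (e₁ : hf σ u v = 0) (e₂ : hf σ u x = 0) (e₃ : hf σ v x = 0) :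
    ∃ τ : TI σ m, ∃ u' v' x' : τ.T, u = u' ∧ v = v' ∧ x = x' :=
  let ⟨τ, a, b, c, _, h⟩ := d.ti4 e₁ e₂ e₃ e₂ e₃ (d.iso x); ⟨τ, a, b, c, h.1, h.2.1, h.2.2.1⟩
theorem Sd.ti2 (d : Sd σ m) {u v : Fin m → K} (e : hf σ u v = 0) : ∃ τ : TI σ m, ∃ u' v' : τ.T, u = u' ∧ v = v' :=
  let ⟨τ, a, b, _, h⟩ := d.ti3 e e (d.iso v); ⟨τ, a, b, h.1, h.2.1⟩

/-- a triple, with the two kinds of fourth vector -/
theorem Sx.ex4 (d : Sx σ m) : ∃ τ : TI σ m, ∃ u v x : τ.T, LinearIndependent K ![u.1, v.1, x.1] ∧ ((∃ c : K, c ≠ 0 ∧ c + 1 ≠ 0) ∨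
    ∃ y : τ.T, ∀ a b c e : K, a • u.1 + b • v.1 + c • x.1 + e • y.1 = 0 → a = 0 ∧ b = 0 ∧ c = 0 ∧ e = 0) := by
  have hm := d.hm
  obtain ⟨j, hj⟩ := d.ev
  let τ : TI σ m := ⟨Vf K m (m / 2), d.toSd, Vf_ti le_rfl⟩
  have k : ∀ a b c e : K, ∀ i : Fin m, (a • bv 0 + b • bv 1 + c • bv 2 + e • bv 3 : Fin m → K) = 0 →
      (a • bv 0 + b • bv 1 + c • bv 2 + e • bv 3 : Fin m → K) i = 0 := fun _ _ _ _ _ e => by rw [e]; rfl
  have k' : ∀ a b c e : K, (a • bv 0 + b • bv 1 + c • bv 2 + e • bv 3 : Fin m → K) = 0 → a = 0 ∧ b = 0 ∧ c = 0 ∧ e = 0 :=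
    fun a b c e h => ⟨by simpa [bv] using k a b c e ⟨0, by omega⟩ h, by simpa [bv] using k a b c e ⟨1, by omega⟩ h,
      by simpa [bv] using k a b c e ⟨2, by omega⟩ h, by simpa [bv] using k a b c e ⟨3, by omega⟩ h⟩
  refine ⟨τ, ⟨bv 0, bv_mem (by omega)⟩, ⟨bv 1, bv_mem (by omega)⟩, ⟨bv 2, bv_mem (by omega)⟩,
    li3.2 fun a b c e => by have := k' a b c 0 (by simpa using e); grind, ?_⟩
  by_cases q : 2 < Nat.card K
  · exact .inl (ex_c q)
  have := d.ex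
  have : 1 < Nat.card K := Finite.one_lt_card
  exact .inr ⟨⟨bv 3, bv_mem (by omega)⟩, k'⟩

theorem Sd.pr_or (d : Sd σ m) {u v : Fin m → K} (e : hf σ u v = 0) : Pr σ u v ∨ u = 0 ∨ ∃ c : K, v = c • u := by
  by_contra! h
  exact h.1 ⟨li_two h.2.1 fun i => let ⟨c, e⟩ := Submodule.mem_span_singleton.1 i; h.2.2 c e.symm, e⟩
theorem E0_l (n : Fin m → K) (a : K) : E σ 0 n a = 1 := by
  by_cases h : Ok σ 0 n a
  exacts [Equiv.ext fun x => by simp [E_ap h], E_junk h]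
theorem Sd.E_ln (d : Sd σ m) (v : Fin m → K) (c a : K) : E σ v (c • v) a = E σ v 0 a := by
  simpa using d.E_shift (hf_zero_l v) c a

end CF.Sq
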