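import Cfsg.Agent.Sq.N2a
import Cfsg.Agent.Sq.T1b
import Cfsg.Agent.Sq.W
import Cfsg.Agent.Dq.C4

/-! Standard symplectic subgroups in characteristic two: the graphs of the doubled groups. -/

set_option autoImplicit false
set_option linter.unusedSectionVars false
set_option linter.unusedVariables false

namespace CF.Sq

open Subgroup Equiv CF.Loc CF.LX CF.Ud CF.Dq CF.Dq.C3

variable {F : Type} [Field F] [Fintype F] [CharP F 2] {m : ℕ} {a c k μ ζ : F} {g : Perm (Fin m → F)} {u v w n n' : Fin m → F}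
  {G : Type*} [Group G] [Finite G] {ρ : SU (1 : F ≃+* F) m →* G} {t : G} {b : (Fin m → F) → (Fin m → F) → G} {γ : (Fin m → F) → G}
  {A : Type} [CommRing A] [CharP A 2] {σ θ : A ≃+* A} {f : F →+* A} {ω z : A} {ι : (Fin m → F) → Fin m → A} {x : Fin m → A}
  {e : SU (1 : F ≃+* F) m →* Perm (Fin m → A)} {p : Perm (Fin m → A) × G}

theorem Rl.prod {G' : Type*} [Group G'] {ρ' : SU (1 : F ≃+* F) m →* G'} {b' : (Fin m → F) → (Fin m → F) → G'} {γ' : (Fin m → F) → G'}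
    (r' : Rl ρ' b' γ' k μ) (r : Rl ρ b γ k μ) : Rl (ρ'.prod ρ) (fun v n => (b' v n, b v n)) (fun v => (γ' v, γ v)) k μ where
  mm := r.mm
  eqv g i u v h := by rw [up_prod]; exact Prod.ext (r'.eqv g i u v h) (r.eqv g i u v h)
  self v c := by rw [tv, up_prod]; exact Prod.ext (r'.self v c) (r.self v c)
  add u v w h₁ h₂ h₃ := Prod.ext (r'.add u v w h₁ h₂ h₃) (r.add u v w h₁ h₂ h₃)
  sym u v h := by rw [ev, up_prod]; exact Prod.ext (r'.sym u v h) (r.sym u v h)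
  adj u v c h := Prod.ext (r'.adj u v c h) (r.adj u v c h)
  mul v n n' c h h' q := by rw [tv, up_prod]; exact Prod.ext (r'.mul v n n' c h h' q) (r.mul v n n' c h h' q)
  we g i v := by rw [up_prod]; exact Prod.ext (r'.we g i v) (r.we g i v)
  wp u w h := Prod.ext (r'.wp u w h) (r.wp u w h)
  wl v a c := Prod.ext (r'.wl v a c) (r.wl v a c)
  wb v u w h₁ h₂ h₃ := Prod.ext (r'.wb v u w h₁ h₂ h₃) (r.wb v u w h₁ h₂ h₃)
  w1 h v := Prod.ext (r'.w1 h v) (r.w1 h v)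

theorem Rl.spl (s : Sm F m) (r : Rl ρ b γ k μ) (o : hf 1 v w = 0) (a₁ a₂ c₁ c₂ : F) (y : G) :
    ev ρ w (a₁ • v + c₁ • w) ζ * b w (a₂ • v + c₂ • w) * y = ev ρ v (a₁ • w) 0 * b w (a₂ • v) * (tv ρ w (ζ + μ * c₂) * y) := by
  have := hf_sw o
  rw [r.add _ _ _ ort ort ort, r.self]
  simp only [← mul_assoc, r.eb s, hs s, *]
  exact congrArg (· * y) pt

theorem Bd.nor (d : Sd (1 : F ≃+* F) m) (B : Bd ρ t b γ k μ) : 𝐂₁(t) ≤ 𝐍(GB ρ b) := fun h i => by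
  have s := d.sm
  have r := B.rl
  obtain ⟨θ, ξ, l, j⟩ := B.toF0.ind d i
  have c := mem_c1.1 i
  refine mem_normalizer_of_cj_le (map_le_iff_le_comap.2 (sup_le ?_ ((closure_le _).2 ?_)))
  · rintro _ ⟨g, rfl⟩
    exact mem_sup_left ((mem_normalizer_iff.1 (j.nor l) _).1 ⟨g, rfl⟩)
  rintro _ ⟨u, n, e, rfl⟩
  change h * b u n * h⁻¹ ∈ GB ρ b
  rcases d.pr_or (hf_sw e) with q | rfl | ⟨c, rfl⟩
  rotate_left
  · simp [(r.b0 s n).2]
  · exact r.self u c ▸ mem_sup_left ((mem_normalizer_iff.1 (j.nor l) _).1 (up_range _))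
  have q' : Pr 1 (ξ u) (ξ n) := ⟨li2.2 fun a c h => by
    obtain ⟨a, rfl⟩ := θ.surjective a
    obtain ⟨c, rfl⟩ := θ.surjective c
    rw [← l.smul, ← l.smul, ← l.add, ← l.zero, ξ.injective.eq_iff] at h
    simp [li2.1 q.1 a c h], by rw [l.form, q.2, map_zero]⟩
  have o := q'.2
  have o' := hf_sw o
  have tw := B.tw _ _ o
  have bb := r.bb s o'
  obtain ⟨a₁, a₂, a₃, y⟩ := B.toC0.cyy d q' (z := (b (ξ u) (ξ n))⁻¹ * (h * b u n * h⁻¹)) (mem_c1.2 (conj_eq_iff.1 (calc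
      _ = (b (ξ u) (ξ n))⁻¹ * (h * (b u n * (h⁻¹ * (t * h)) * (b u n)⁻¹) * h⁻¹) * b (ξ u) (ξ n) := by group
      _ = _ := by
        rw [← c, inv_mul_cancel_left, B.tw _ _ q.2, conj_mul_conj, conj_eq_iff.2 c, j _ (s.E_SU _ _ _), E_cj l, map_zero, ← tw]
        group))) fun y i₀ => by
    obtain ⟨g, ⟨⟨i, i₁⟩, -, i₂⟩, -, rfl⟩ := mem_im.1 i₀
    have i' : ξ⁻¹ * g * ξ⁻¹⁻¹ ∈ SU 1 m := l.inv.su i
    have k₁ := r.eqv g i _ _ o
    have k₂ := r.eqv _ i' _ _ q.2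
    have k₃ := j _ i'
    rw [show g (ξ u) = ξ u from i₁, show g (ξ n) = ξ n from i₂] at k₁
    rw [show (ξ⁻¹ * g * ξ⁻¹⁻¹) u = u by simp [show g (ξ u) = ξ u from i₁],
      show (ξ⁻¹ * g * ξ⁻¹⁻¹) n = n by simp [show g (ξ n) = ξ n from i₂]] at k₂
    rw [show ξ * (ξ⁻¹ * g * ξ⁻¹⁻¹) * ξ⁻¹ = g by group] at k₃
    rw [← conj_eq_iff, conj_mul_conj, ← conj_inv, k₁, ← k₃]
    nth_rw 2 [← k₂]
    group
  have m : ∀ y ∈ ρ.range, b (ξ u) (ξ n) * y ∈ GB ρ b := fun y i =>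
    mul_mem (mem_sup_right (subset_closure ⟨_, _, o', rfl⟩)) (mem_sup_left i)
  rcases y with y | y <;> rw [inv_mul_eq_iff_eq_mul] at y
  · exact y ▸ m _ (mul_mem (mul_mem (up_range _) (up_range _)) (up_range _))
  refine absurd (d.up_inj B.ker (s.E_SU _ _ 0) (s.E_SU 0 0 0) ?_) (d.ntv q')
  obtain ⟨W, hW, W2, W3, W4⟩ : ∃ W, tv ρ (ξ u) a₁ * tv ρ (ξ n) a₂ * ev ρ (ξ u) (a₃ • ξ n) 0 = W ∧ W * W = 1 ∧ Commute W t ∧
      Commute W (b (ξ u) (ξ n)) := ⟨_, rfl, by clear y tw bb e; rw [← up_one (φ := ρ)]; exact pt,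
    ((Commute.mul_left (B.toF0.tc _) (B.toF0.tc _)).mul_left (B.toF0.tc _)),
    ((Commute.mul_left (r.eb s ort ort ort ort ort) (r.eb s ort ort ort ort ort)).mul_left (r.eb s ort ort ort ort ort))⟩
  have : b (ξ u) (ξ n) * (t * W) * (b (ξ u) (ξ n) * (t * W)) = 1 := by rw [← hW, ← y, ← conj_mul_conj, r.bb s e]; group
  rw [E0_l, up_one]
  rw [iv bb] at tw
  calc _ = t * (t * ev ρ (ξ u) (ξ n) 0 * (t * (W * W))) * t := by
        simp only [W2, mul_one, mul_assoc, B.t2, cn B.t2]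
    _ = t * (b (ξ u) (ξ n) * t * (b (ξ u) (ξ n) * W) * (t * W)) * t := by
        rw [← tw, show t * (W * W) = W * (t * W) by rw [← mul_assoc, ← mul_assoc, W3.eq]]; simp only [mul_assoc]
    _ = _ := by rw [← W4.eq, show ∀ b t W : G, b * t * (W * b) * (t * W) = b * (t * W) * (b * (t * W)) from fun _ _ _ => by group, this,
      mul_one, B.t2]

/-- the linear model in even dimension -/
structure Mb (σ θ : A ≃+* A) (f : F →+* A) (k μ : F) (ω : A) (ι : (Fin m → F) → Fin m → A)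
    (e : SU (1 : F ≃+* F) m →* Perm (Fin m → A)) : Prop where
  mm : μ * μ = μ
  iv : Iv σ
  sf : ∀ a, σ (f a) = f a
  so : σ ω = ω + f μ
  oo : ω * ω = ω + f k
  oi : ∀ a c, f a + ω * f c = 0 → a = 0 ∧ c = 0
  sa : ∀ z, ∃ a c, z = f a + ω * f c
  ia : ∀ x y, ι (x + y) = ι x + ι y
  is : ∀ c x, ι (c • x) = f c • ι x
  ih : ∀ x y, hf σ (ι x) (ι y) = f (hf 1 x y)
  sp : ∀ x, ∃ x₀ x₁ : Fin m → F, x = ι x₀ + ω • ι x₁
  es : ∀ g, Sem σ 1 (e g)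
  ei : ∀ g x, e g (ι x) = ι (g.1 x)
  com : ∀ c, θ (σ c) = σ (θ c)
  tw : θ ω = ω + 1
  ci : ∀ x, cw θ (ι x) = ι x
  i0 : ι (bv 0) = bv 0

/-- extension of scalars -/
def ek (k : F) : SU (1 : F ≃+* F) m →* Perm (Fin m → KK k) := ⟨⟨fun g => ext k 0 g.1, ext_one⟩, fun g h => by
  simp [ext_mul (su_sem g.2)]⟩

theorem mkv_om (k : F) (x y : Fin m → F) : mkv k x y = mkv k x 0 + om k • mkv k y 0 := by simp [om, mkv_smul, mkv_add]

theorem ex_mb (h : μ * μ = μ) (k : F) :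
    Mb (sg k μ h) (sg k 1 (one_mul 1)) (algebraMap F (KK k)) k μ (om k) (fun x : Fin m → F => mkv k x 0) (ek k) := by
  have al : ∀ a : F, algebraMap F (KK k) a = ⟨a, 0⟩ := fun _ => rfl
  have ih : ∀ x y : Fin m → F, hf (sg k μ h) (mkv k x 0) (mkv k y 0) = algebraMap F (KK k) (hf 1 x y) := fun x y => by
    simp only [hf, map_sum, map_mul]
    exact Finset.sum_congr rfl fun i _ => by ext <;> simp [mkv, sg_ap]
  refine ⟨h, fun a => ?_, fun a => ?_, ?_, ?_, fun a c h => ?_, fun z => ⟨z.re, z.im, ?_⟩, fun x y => ?_, fun c x => ?_, ih, fun x => ?_,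
    fun g => ?_, fun g x => ?_, fun c => ?_, ?_, fun x => ?_, ?_⟩
  · obtain ⟨a, b⟩ := a
    simp [sg_ap, add_assoc, CharTwo.add_self_eq_zero]
  · simp [al, sg_ap]
  · ext <;> simp [om, sg_ap]
  · ext <;> simp [om]
  · exact ⟨by simpa [om] using congrArg (·.re) h, by simpa [om] using congrArg (·.im) h⟩
  · ext <;> simp [om]
  · simp [mkv_add]
  · simp [al, mkv_smul]
  · obtain ⟨x₀, x₁, rfl⟩ := exists_mkv x
    exact ⟨x₀, x₁, mkv_om ..⟩
  · have l := (su_sem g.2).ext1 (k := k) rfl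
    refine ⟨l.add, l.smul, fun x y => ?_, fun _ => rfl⟩
    obtain ⟨x₀, x₁, rfl⟩ := exists_mkv x
    obtain ⟨y₀, y₁, rfl⟩ := exists_mkv y
    simp only [ek, MonoidHom.coe_mk, OneHom.coe_mk, ext_ap, zero_smul, add_zero]
    rw [mkv_om k x₀, mkv_om k y₀, mkv_om k (g.1 x₀), mkv_om k (g.1 y₀)]
    simp [ih, (su_sem g.2).form1]
  · simp [ek, ext_ap, (su_sem g.2).zero]
  · obtain ⟨a, b⟩ := c
    simp [sg_ap, add_right_comm]
  · ext <;> simp [om, sg_ap] <;> rfl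
  · exact funext fun i => by simp [cw_ap, mkv, sg_ap]
  · funext i
    simp only [mkv, bv]
    split_ifs <;> rfl

namespace Mb
variable (s : Sm F m) (M : Mb σ θ f k μ ω ι e)
include M

theorem z0 : ι 0 = 0 := by simpa using M.is 0 0
theorem ext {p q : Perm (Fin m → A)} (i : Sem σ 1 p) (j : Sem σ 1 q) (h : ∀ x, p (ι x) = q (ι x)) : p = q :=
  Equiv.ext fun x => by
    obtain ⟨x₀, x₁, rfl⟩ := M.sp x
    simp only [i.add, j.add, i.smul1, j.smul1, h]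
theorem cj (i : g ∈ SU 1 m) (x : Fin m → F) (p : Fin m → A) (z : A) : up e g * E σ (ι x) p z * (up e g)⁻¹ = E σ (ι (g x)) (up e g p) z := by
  rw [up_eq i, E_cj1 (M.es _), M.ei]
theorem fm : f μ * f μ = f μ := by rw [← map_mul, M.mm]
theorem hn (h : hf σ (ι u) (ι n + ω • ι n') = 0) : hf 1 n u = 0 ∧ hf 1 n' u = 0 := M.oi _ _ (by simpa [M.ih] using hf_swap M.iv h)
theorem um (h : hf 1 v u = 1) (l : z • ι v = 0) : z = 0 := by simpa [M.ih, h] using congrArg (hf σ · (ι u)) l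

include s
theorem vv (v : Fin m → F) : hf σ (ι v) (ι v) = 0 := by simp [M.ih, s.iso]
theorem ok1 (h : hf 1 n v = 0) (ζ : F) : Ok σ (ι v) (ι n) (f ζ) :=
  ⟨M.iv, M.vv s v, by simp [M.ih, h], by simp [M.ih, s.iso, M.sf, CharTwo.add_self_eq_zero]⟩
theorem ok2 (h : hf 1 n v = 0) : Ok σ (ι v) (ω • ι n) 0 := ⟨M.iv, M.vv s v, by simp [M.ih, h], by simp [M.ih, s.iso]⟩
theorem ok3 (v : Fin m → F) : Ok σ (ι v) 0 ((1 + f μ) * ω) := ok_tv M.iv (M.vv s v) (by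
  have := M.fm
  rw [map_mul, map_add, map_one, M.sf, M.so]
  grind)
theorem eE (h : hf 1 n v = 0) (ζ : F) : ev e v n ζ = E σ (ι v) (ι n) (f ζ) := by
  rw [ev, up_eq (s.E_SU _ _ _)]
  exact M.ext (M.es _) (E_sem ..) (fun x => by simp [M.ei, E_ap (s.ok h ζ), E_ap (M.ok1 s h ζ), M.ia, M.is, M.ih])
theorem eT (v : Fin m → F) (ζ : F) : tv e v ζ = E σ (ι v) (ι 0) (f ζ) := M.eE s (hf_zero_l _) ζ
theorem ap1 (h : hf 1 n v = 0) (z : Fin m → A) : E σ (ι v) (ι n) (f ζ) z = ef σ (ι v) (ι n) (f ζ) z := E_ap (M.ok1 s h ζ) z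
theorem ap2 (h : hf 1 n v = 0) (z : Fin m → A) : E σ (ι v) (ω • ι n) 0 z = ef σ (ι v) (ω • ι n) 0 z := E_ap (M.ok2 s h) z

set_option quotPrecheck false in
set_option hygiene false in
local notation "mt" hh:max => (by
  refine Equiv.ext fun z => ?_
  simp (disch := simp [hh, s.iso]) only [Perm.mul_apply, Perm.one_apply, M.ap1 s, M.ap2 s, ef, E_ap (M.ok3 s _)]
  simp only [M.ia, M.is, M.z0, hf_add_l, hf_add_r, hf_smul_l, hf_smul_r, hf_zero_l, hf_zero_r, M.ih, M.sf, M.so, s.iso, hh,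
    map_zero, map_one, map_mul, map_add]
  ext i
  simp only [Pi.add_apply, Pi.smul_apply, smul_eq_mul, Pi.zero_apply]
  have := M.oo
  have := M.fm
  grind)

theorem rl : Rl e (fun v n => E σ (ι v) (ω • ι n) 0) (fun v => E σ (ι v) 0 ((1 + f μ) * ω)) k μ where
  mm := M.mm
  eqv g i u v h := by rw [M.cj i, up_eq i, (M.es _).smul1, M.ei]
  self v c := by rw [M.eT s]; exact mt (s.iso v)
  add u v w h₁ h₂ h₃ := mt (show _ ∧ _ ∧ _ ∧ _ ∧ _ ∧ _ from ⟨h₁, hf_sw h₁, h₂, hf_sw h₂, h₃, hf_sw h₃⟩)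
  sym u v h := by rw [M.eE s (by simp [hf_sw h])]; exact mt (And.intro h (hf_sw h))
  adj u v c h := mt (And.intro h (hf_sw h))
  mul v n n' c h h' q := by
    rw [M.eT s]; exact mt (show _ ∧ _ ∧ _ ∧ _ ∧ _ ∧ _ from ⟨h, hf_sw h, h', hf_sw h', q.symm, (hf_comm n' n).trans q.symm⟩)
  we g i v := by rw [M.cj i, up_eq i, (M.es _).zero]
  wp u w h := mt (And.intro h (hf_sw h))
  wl v a c := mt (s.iso v)
  wb v u w h₁ h₂ h₃ := mt (show _ ∧ _ ∧ _ ∧ _ ∧ _ ∧ _ from ⟨h₁, hf_sw h₁, h₂, hf_sw h₂, h₃, hf_sw h₃⟩)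
  w1 h v := by simp [h, CharTwo.add_self_eq_zero]

theorem tW (a c : F) (v : Fin m → F) (x : Fin m → A) : (tv e v a * E σ (ι (c • v)) 0 ((1 + f μ) * ω)) x =
    x + ((f a + ω * f (c * c * (1 + μ))) * hf σ x (ι v)) • ι v := by
  rw [M.eT s, Perm.mul_apply, E_ap (M.ok1 s (hf_zero_l _) _), E_ap (M.ok3 s _)]
  simp only [M.is, M.z0, hf_add_l, hf_smul_l, hf_smul_r, hf_zero_l, hf_zero_r,
    M.vv s, M.sf, map_mul, map_add, map_one]
  ext i
  simp only [Pi.add_apply, Pi.smul_apply, smul_eq_mul, Pi.zero_apply]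
  grind

end Mb

namespace Mb
variable [Finite A] (d : Sd (1 : F ≃+* F) m) (M : Mb σ θ f k μ ω ι e) (R : Rl ρ b γ k μ)
include d M R

local notation "𝐁" => fun v n => (E σ (ι v) (ω • ι n) 0, b v n)
local notation "𝐖" => fun v => (E σ (ι v) 0 ((1 + f μ) * ω), γ v)
local notation "𝐉" => JB (e.prod ρ) 𝐁

theorem f1 (h : hf 1 n v = 0) (h' : hf 1 n' v = 0) (ζ c : F) : ∃ ζ', Ok σ (ι v) (ι n + ω • ι n') ζ' ∧
    (ev (e.prod ρ) v n ζ * 𝐁 v n' * 𝐖 (c • v)).1 = E σ (ι v) (ι n + ω • ι n') ζ' := by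
  have s := d.sm
  have p := M.ok3 s (c • v)
  rw [M.is] at p
  have p' := p.smul (M.vv s v) (hf_zero_l _)
  have o := ((M.ok1 s h ζ).mul (M.ok2 s h')).mul p'
  have := E_mul ((M.ok1 s h ζ).mul (M.ok2 s h')) p'
  rw [← E_mul (M.ok1 s h ζ) (M.ok2 s h'), ← E_smul p (M.vv s v) (hf_zero_l _), ← M.is, ← M.eE s h] at this
  rw [smul_zero, add_zero] at o this
  exact ⟨_, o, by rw [← this, ev, up_prod]; rfl⟩

theorem nf (i : p ∈ 𝐉 v) : ∃ (n : Fin m → F) (ζ : F) (n' : Fin m → F) (c : F) (ζ' : A), hf 1 n v = 0 ∧ hf 1 n' v = 0 ∧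
    p = ev (e.prod ρ) v n ζ * 𝐁 v n' * 𝐖 (c • v) ∧ Ok σ (ι v) (ι n + ω • ι n') ζ' ∧ p.1 = E σ (ι v) (ι n + ω • ι n') ζ' := by
  obtain ⟨n, ζ, n', c, h, h', rfl⟩ := ((M.rl d.sm).prod R).nf d i
  obtain ⟨ζ', o, l⟩ := M.f1 d R h h' ζ c
  exact ⟨n, ζ, n', c, ζ', h, h', rfl, o, l⟩

theorem fQ (i : p ∈ 𝐉 v) : p.1 ∈ Q σ (ι v) := by
  obtain ⟨_, _, _, _, _, -, -, -, -, l⟩ := M.nf d R i
  exact l ▸ E_Q _ _ _

theorem t1 (h : hf 1 w u = 1) (l : hf σ ((tv (e.prod ρ) w a * 𝐖 (c • w)).1 (ι u)) (ι u) = 0) : tv (e.prod ρ) w a * 𝐖 (c • w) = 1 := by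
  have s := d.sm
  have R' := (M.rl s).prod R
  rw [tv, up_prod, Prod.fst_mul, M.tW s] at l
  obtain ⟨rfl, j⟩ := M.oi _ _ (by simpa only [hf_add_l, hf_smul_l, M.ih, s.iso, hf_comm u w, h, map_zero, map_one, mul_one, zero_add] using l)
  rw [tv, E_zero, up_one, one_mul]
  rcases mul_eq_zero.1 j with j | j
  · rw [mul_self_eq_zero.1 j, zero_smul]; exact R'.w0 s
  · exact R'.w1 (by grind) _

theorem jr : Jr σ f ω ι (e.prod ρ) 𝐉 := by
  have s := d.sm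
  have R' := (M.rl s).prod R
  refine ⟨M.iv, M.ia, M.is, M.ih, M.oi, fun x => ?_, fun n => ?_, M.es, M.ei, fun g x h => ?_,
    fun v _ g i => subset_closure (.inl ⟨g, i, (up_coe g).symm⟩), fun g v => up_coe (φ := e.prod ρ) g ▸ R'.nr s g.2 v,
    fun v _ => le_antisymm ?_ ?_, fun v v0 p i h => ?_, fun v v0 w w0 o p i h => ?_, fun v v0 w w0 o p i h => ?_, fun c c0 v => R'.ns s c0 v⟩
  · obtain ⟨x₀, x₁, rfl⟩ := M.sp x
    exact ⟨x₀, x₁, 0, fun u => hf_zero_l _, (add_zero _).symm⟩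
  · obtain ⟨x₀, x₁, rfl⟩ := M.sp n
    exact ⟨ω * f (hf 1 x₀ x₁), by simp [M.ih, M.sf, M.so, s.iso, hf_comm x₁, add_comm]⟩
  · rw [show x = 0 from hf_ext (σ := σ) fun y => by obtain ⟨x₀, x₁, rfl⟩ := M.sp y; simp [h]]
    exact (M.es g).zero
  · rintro _ ⟨p, i, rfl⟩
    exact M.fQ d R i
  · intro q i
    obtain ⟨N, ζ, o, rfl⟩ := (mem_Q M.iv (M.vv s v)).1 i
    obtain ⟨n, n', rfl⟩ := M.sp N
    obtain ⟨h, h'⟩ := M.hn o.vn
    obtain ⟨ζ', o', l⟩ := M.f1 d R h h' 0 0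
    obtain ⟨a, c, j⟩ := M.sa (ζ + ζ')
    obtain ⟨c, rfl⟩ := rt c
    have j' : f μ * f (c * c) = 0 := by
      have := congrArg σ j
      have := o.tr
      have := o'.tr
      simp only [map_add, map_mul, M.sf, M.so] at *
      grind
    refine ⟨_, mul_mem (mul_mem (mul_mem (eJ v n 0) (bJ h')) (R'.wJ d 0 v)) (mul_mem (eJ v 0 a) (R'.wJ d c v)), Equiv.ext fun x => ?_⟩
    rw [MonoidHom.coe_fst, Prod.fst_mul, l, ev, up_prod, Prod.fst_mul, Perm.mul_apply, M.tW s, E_ap o, E_ap o']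
    simp only [hf_add_l, hf_smul_l, M.vv s, o.vn, map_mul, map_add, map_one] at j j' ⊢
    ext i
    simp only [Pi.add_apply, Pi.smul_apply, smul_eq_mul]
    grind
  · obtain ⟨n, ζ, n', c, ζ', h₁, h₂, q, o, l⟩ := M.nf d R i
    obtain ⟨v', y⟩ := s.partner v0
    have y' := (hf_comm v v').trans y
    have key : ∀ u, hf 1 u v = 0 → _ := fun u j => M.hn (u := u) (n := n) (n' := n') (M.um y' (by
      simpa only [E_ap o, M.ih, j, map_zero, zero_smul, add_zero, mul_zero, Perm.one_apply, left_eq_add] using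
        congrArg (· (ι u)) (h.symm.trans l)))
    obtain ⟨a₁, rfl⟩ := s.perp_perp1 (x := n) (v := v) fun u j => (key u j).1
    obtain ⟨a₂, rfl⟩ := s.perp_perp1 (x := n') (v := v) fun u j => (key u j).2
    have q' := R'.spl s (ζ := ζ) (s.iso v) 0 0 a₁ a₂ (𝐖 (c • v))
    simp only [zero_smul, zero_add, ev, E_zero, up_one, (R'.b0 s v).1, one_mul] at q q'
    rw [q'] at q
    rw [q, M.t1 d R y' (by rw [← q, h]; exact M.vv s v'), Prod.snd_one]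
  · obtain ⟨n, ζ, n', c, ζ', h₁, h₂, rfl, o', l⟩ := M.nf d R i
    obtain ⟨w', q⟩ := s.partner w0
    rw [l, E_ap o', M.ih, o, map_zero, zero_smul, add_zero, mul_zero, add_zero, add_eq_left] at h
    obtain ⟨j, j'⟩ := M.hn (M.um ((hf_comm w w').trans q) h)
    exact mul_mem (mul_mem (R'.nu s (s.E_SU _ _ _) (E_fix o (hf_sw j) _)) (R'.nb d (hf_sw o) j' h₂)) (R'.nw d (hf_sw o) c)
  · by_cases w1 : w ∈ Submodule.span F {v}
    · obtain ⟨c, rfl⟩ := Submodule.mem_span_singleton.1 w1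
      rwa [R'.ns s (by rintro rfl; simp at w0)] at i
    obtain ⟨n, ζ, n', c, ζ', h₁, h₂, q, o', l⟩ := M.nf d R i
    obtain ⟨N, ζ₁, o₁, l₁⟩ := (mem_Q M.iv (M.vv s v)).1 h
    obtain ⟨w', e₁, e₂⟩ := p1 s w1
    have key : ∀ u, (∀ z ∈ Submodule.span F {v, w}, hf 1 u z = 0) → _ := fun u j => M.hn (u := u) (n := n) (n' := n') (by
      simpa [E_ap o', E_ap o₁, j v (Submodule.subset_span (by simp)), j w (Submodule.subset_span (by simp)), M.ih, hf_comm w w',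
        hf_comm v w', e₁, e₂] using congrArg (fun g => hf σ (g (ι u)) (ι w') + f (hf 1 u w')) (l.symm.trans l₁))
    obtain ⟨a₁, c₁, rfl⟩ := Submodule.mem_span_pair.1 (s.mem_of_pp (x := n) fun u j => (key u j).1)
    obtain ⟨a₂, c₂, rfl⟩ := Submodule.mem_span_pair.1 (s.mem_of_pp (x := n') fun u j => (key u j).2)
    rw [q.trans (R'.spl s o _ _ _ _ _)] at h ⊢
    have i₁ := mul_mem (eJ v (a₁ • w) 0) (R'.swJ s (hf_sw o) a₂)
    obtain ⟨N, ζ₂, o₂, l₂⟩ := (mem_Q M.iv (M.vv s v)).1 ((mul_mem_cancel_left (M.fQ d R i₁)).1 h)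
    rwa [M.t1 d R ((hf_comm w w').trans e₁) (by rw [l₂]; simp [E_ap o₂, M.ih, e₂, hf_sw e₂, s.iso]), mul_one]

theorem gj : GJ 𝐉 = GB ρ b := by
  have s := d.sm
  refine le_antisymm ((closure_le _).2 ?_) (sup_le ?_ ((closure_le _).2 ?_))
  · rintro _ ⟨v, -, p, i, rfl⟩
    exact JB_le s (H := comap (MonoidHom.snd _ _) (GB ρ b)) (fun n ζ _ => by rw [ev, up_prod]; exact mem_sup_left (up_range _))
      (fun n e => mem_sup_right (subset_closure ⟨v, n, e, rfl⟩)) i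
  · rintro _ ⟨g, rfl⟩
    obtain ⟨g', i, j⟩ := SU_iso iv1 (H := ((GJ 𝐉).comap ρ).map (SU 1 m).subtype) (fun v a _ _ => ⟨⟨_, tv_SU v a⟩, by
      by_cases v0 : v = 0
      · simp [v0, E_zero_v, show ∀ h, (⟨1, h⟩ : SU (1 : F ≃+* F) m) = 1 from fun _ => rfl]
      · exact subset_closure ⟨v, v0, _, eJ v 0 a, by rw [ev, up_eq (tv_SU v a)]; rfl⟩, rfl⟩) g.2
    exact Subtype.ext j ▸ i
  · rintro _ ⟨v, n, e, rfl⟩
    by_cases v0 : v = 0
    · simp [v0, (R.b0 s n).2]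
    · exact subset_closure ⟨v, v0, _, bJ e, rfl⟩

omit R in
theorem jt (B : Bd ρ t b γ k μ) : Jt ρ t σ θ f ω ι (e.prod ρ) 𝐉 := by
  have s := d.sm
  have R := B.rl
  have c := cw_sem (m := m) M.com
  refine ⟨M.jr d R, fun _ => rfl, M.i0, M.com, fun v _ => ((M.rl s).prod R).nt s (fun g => Prod.ext ?_ (B.cm _ ⟨g, rfl⟩).symm)
    (fun u v h => ?_) v, M.gj d R ▸ B.nor d, M.gj d R ▸ sup_le le_normalClosure ((closure_le _).2 ?_)⟩
  · change cw θ * e g = e g * cw θ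
    exact mul_inv_eq_iff_eq_mul.1 (M.ext (c.cj (M.es g)) (M.es g)
      (fun x => by rw [Perm.mul_apply, Perm.mul_apply, Perm.inv_eq_iff_eq.2 (M.ci x).symm, M.ei, M.ci]))
  · rw [ev, up_prod]
    have := hf_sw h
    refine Prod.ext ?_ ?_
    · simp only [Prod.fst_mul, Prod.fst_inv]
      rw [E_cj c, c.smul, M.ci, M.ci, M.tw, ← ev, M.eE s (hf_sw h), E_mul (M.ok2 s (hf_sw h)) (M.ok1 s (hf_sw h) 0)]
      simp [add_smul, M.ih, s.iso]
    · simp only [Prod.snd_mul, Prod.snd_inv]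
      rw [C3.iv B.t2, mul_assoc, mul_inv_eq_iff_eq_mul.1 (B.tw u v h), mul_assoc, cn B.t2, R.eb s h ort ort ort ort]
  · rintro _ ⟨v, n, e, rfl⟩
    exact R.ncl d e

end Mb

theorem Bd.jt {σ : F ≃+* F} {ρ : SU σ m →* G} (d : Sd σ m) (f : Bd ρ t b γ k μ) : ∃ ε, (∀ g, ε g = pr k ρ g.1) ∧
    GJ (JS k f.mm ρ b) = GB ρ b ∧
    Jt ρ t (sg k μ f.mm) (sg k 1 (one_mul 1)) (algebraMap F (KK k)) (om k) (fun x => mkv k x 0) ε (JS k f.mm ρ b) := by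
  obtain rfl := d.one
  have : Finite (KK k) := Finite.of_equiv _ (QuadraticAlgebra.equivProd k 1).symm
  have M := ex_mb (m := m) f.mm k
  have e : JS k f.mm ρ b = JB ((ek k).prod ρ) fun v n => (E (sg k μ f.mm) (mkv k v 0) (om k • mkv k n 0) 0, b v n) := funext fun v => by
    unfold JS JB
    congr 1
    ext p
    refine or_congr (exists_congr fun g => and_congr_right fun i => ?_) (exists_congr fun n => ?_)
    · rw [pr, up_prod, up_eq (φ := ek k) (d.Q_SU i)]; rfl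
    · rw [pb, mkv_om k 0 n, mkv_zero, zero_add]
  exact ⟨(ek k).prod ρ, fun g => by rw [pr, up_coe]; rfl, e ▸ M.gj d f.rl, e ▸ M.jt d f⟩

end CF.Sq
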