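import Cfsg.Agent.Sq.P2

/-! The doubled elements of type `a₂`: symmetry and the structure `Bt`. -/

set_option autoImplicit false
set_option linter.unusedSectionVars false
set_option linter.unusedVariables false

namespace CF.Sq

open Cfsg Subgroup Equiv CF.Loc CF.LX CF.Ud Module TI
open scoped commutatorElement

variable {K : Type} [Field K] [Fintype K] [CharP K 2] {m : ℕ} {σ θ : K ≃+* K} {a b c r γ μ : K} {g : Perm (Fin m → K)}
  {X : Type*} [Group X] [Finite X] {ρ : SU σ m →* X} {s x x' z : X} {u v w n u' v' w' : Fin m → K}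
  {β β' : (Fin m → K) → (Fin m → K) → X} {τ : TI σ m}

theorem Pr.sml (p : Pr σ u v) (c0 : c ≠ 0) : Pr σ (c • u) v := ⟨li2.2 fun a b e => by
  have := li2.1 p.1 (a * c) b (by rw [← e]; module); grind, by simp [p.2]⟩
theorem Pr.smr (p : Pr σ u v) (c0 : c ≠ 0) : Pr σ u (c • v) := ⟨li2.2 fun a b e => by
  have := li2.1 p.1 a (b * c) (by rw [← e]; module); grind, by simp [p.2]⟩
theorem Pr.nm (p : Pr σ u v) (c : K) : v ≠ c • u := fun e => one_ne_zero (li2.1 p.1 c 1 (by simp [e, vv])).2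
theorem Sd.ex3 (d : Sd σ m) : ∃ τ : TI σ m, ∃ u v w : τ.T, L3 u v w := by
  obtain ⟨y, j, a, b⟩ := d.out2 (bv 0) (bv 1)
  obtain ⟨τ, u, v, w, h1, h2, h3⟩ := d.ti3 a b d.pr01.2
  exact ⟨τ, u, v, w, by rw [L3, ← h1, ← h2, ← h3]; exact li_three d.pr01.1 j⟩

namespace B2
variable (d : Sd σ m) (f : C0 ρ s) (k : B2 ρ s β)
include d f k

theorem cm3 {u v w : τ.T} (l : L3 u v w) : β u v * β u w = β u w * β u v := by rw [← k.ad _ _ _ _ l, ← k.ad _ _ _ _ l.swap, add_comm]
theorem ad2 (p : Pr σ u v) (p' : Pr σ u w) (p'' : Pr σ u (v + w)) (e : hf σ v w = 0) : β u (v + w) = β u v * β u w := by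
  by_cases j : w ∈ Submodule.span K {u, v}
  swap
  · obtain ⟨τ, u, v, w, rfl, rfl, rfl⟩ := d.ti3 p.2 p'.2 e
    exact k.ad _ _ _ _ (L3.rot (li_three p.1 j))
  obtain ⟨a, b, rfl⟩ := Submodule.mem_span_pair.1 j
  obtain ⟨y, j, h1, h2⟩ := d.out2 u v
  obtain ⟨τ, y, u, v, rfl, rfl, rfl⟩ := d.ti3 h1 h2 p.2
  have l : L3 u v y := L3.rot (li_three p.1 j)
  have b0 : b ≠ 0 := fun o => p'.nm a (by simp [o])
  have b1 : b + 1 ≠ 0 := fun o => p''.nm a (by rw [show b = 1 by grind]; simp [add_comm (a • u.1), ← add_assoc, vv])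
  have l1 : L3 u (a • u + b • v) y := by simpa [add_comm] using ((l.swap.sm b0).sh a 0).swap
  have h := k.ad _ u (v + y) (a • u + b • v + y) (li3.2 fun p q r e => by
    have := li3.1 l (p + r * a) (q + r * b) (q + r) (by rw [← e]; simp; module); clear * - this b1; grind)
  have h1 := k.ad _ _ _ _ l1; have h2 := k.cm3 d f l1
  simp only [Submodule.coe_add, Submodule.coe_smul] at h h1 h2
  rw [k.ad _ _ _ _ l, h1, h2, mul_assoc, ← mul_assoc (β u y), k.sq _ _ l.p13, one_mul] at h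
  rw [← h]; congr 1; rw [add_add_add_comm, vv, add_zero]
theorem cw {u v : τ.T} (p : Pr σ u.1 v.1) (D : τ.N) : wl ρ D * β u v = β u v * wl ρ D := ((k.vl _ _ p).cw D).eq.symm
theorem unif (k' : Eq2 ρ β') (l' : ∀ u v, Pr σ u v → Vl ρ s u v v (β' u v)) (e : ∀ u v, Pr σ u v → β' u v * β' u v = 1) :
    ∃ a b c, ∀ u v, Pr σ u v → β' u v = β u v * e3 ρ u v a b c :=
  k.eqv.unif d f one_ne_zero k' (by simpa using k.vl) (by simpa using l') fun u v p => by rw [e u v p, k.sq u v p]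

theorem sh0 (c : K) : ∃ r, ∀ u v, Pr σ u v → β u (v + c • u) = β u v * tv ρ u r := by
  obtain ⟨a, b, e, h⟩ := k.unif d f (β' := fun u v => β u (v + c • u)) (fun g i u v p => by
    rw [k.eqv g i _ _ (k.shr d f p c).1, (su_sem i).add, (su_sem i).smul1]) (fun u v p => (k.shr d f p c).2)
    fun u v p => k.sq _ _ (k.shr d f p c).1
  obtain ⟨τ, u, v, w, l⟩ := d.ex3
  have h1 := k.ad _ _ _ _ (l.sh c 0)
  simp only [Submodule.coe_add, Submodule.coe_smul, zero_smul, add_zero] at h1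
  rw [← add_assoc, h _ _ l.p1, h _ _ l.p13, k.ad _ _ _ _ l, mul_assoc, mul_right_inj, mul_right_inj, ← Submodule.coe_add, e3_eq, e3_eq] at h1
  have := c6 l (a₁ := 0) (a₂ := b) (a₃ := 0) (b₁ := e) (b₂ := 0) (b₃ := b) (by
    rw [← wz f.ker h1]; simp only [qd_add, sy_add_r]; clear * -; match_scalars <;> grind)
  exact ⟨a, fun u v p => by simp [h u v p, e3, this.2.1, this.2.2.2.1, tv, ev]⟩

theorem adj0 (c0 : c ≠ 0) : ∃ r : K, ∀ (τ : TI σ m) (u v : τ.T), Pr σ u.1 v.1 → β (c • u) v = β u (c • v) * wl ρ (r • sy u v) := by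
  obtain ⟨a, b, e, h⟩ := Eq2.unif d f c0 (β := fun u v => β u (c • v)) (β' := fun u v => β (c • u) v)
    (fun g i u v p => by rw [k.eqv g i _ _ (p.smr c0), (su_sem i).smul1]) (fun g i u v p => by rw [k.eqv g i _ _ (p.sml c0), (su_sem i).smul1])
    (fun u v p => (k.vl _ _ (p.smr c0)).mono (Yy_le (a := 1) (b := 0) (by simp) (a' := 0) (b' := c) (by simp)) rfl)
    (fun u v p => (k.vl _ _ (p.sml c0)).mono (Yy_le (a := c) (b := 0) (by simp) (a' := 0) (b' := 1) (by simp)) (by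
      rw [d.E_sm (d.sw p.2), mul_zero])) fun u v p => by rw [k.sq _ _ (p.smr c0), k.sq _ _ (p.sml c0)]
  obtain ⟨τ, u, v, w, l⟩ := d.ex3
  have h1 := k.ad _ (c • u) _ _ (l.rot.sm c0).rot.rot
  have h2 := k.ad _ _ (c • v) (c • w) ((l.sm c0).swap.sm c0).swap
  simp only [Submodule.coe_smul] at h1 h2
  rw [h _ _ l.p1, h _ _ l.p12, h _ _ l.p13, smul_add, h2, ← Submodule.coe_add, e3_eq, e3_eq, e3_eq, mul_assoc, mul_assoc, mul_right_inj,
    ← mul_assoc, ← Submodule.coe_smul, k.cw d f (l.sm c0).p13, mul_assoc, mul_right_inj, wl_mul] at h1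
  have := c6 l (a₁ := a) (a₂ := 0) (a₃ := 0) (b₁ := 0) (b₂ := 0) (b₃ := b) (by
    rw [← wz f.ker h1]; simp only [qd_add, sy_add_r]; clear * -; match_scalars <;> grind)
  exact ⟨e, fun τ u v p => by simp [h _ _ p, e3_eq, this.1, this.2.2.2.2.2]⟩
theorem adj (p : Pr σ u v) (c0 : c ≠ 0) : β (c • u) v = β u (c • v) := by
  obtain ⟨r, rfl⟩ := exists_rt c
  have r0 : r ≠ 0 := fun o => c0 (by simp [o])
  obtain ⟨e, h⟩ := k.adj0 d f r0
  obtain ⟨τ, u, v, rfl, rfl⟩ := d.ti2 p.2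
  have h1 := h τ (r • u) v (p.sml r0); have h2 := h τ u (r • v) (p.smr r0)
  simp only [Submodule.coe_smul] at h1 h2
  rw [mul_smul, mul_smul, h1, h2, mul_assoc, sy_sm_l, sy_sm_r, wl_sq, mul_one]

theorem sym0 : ∃ a μ : K, ∀ (τ : TI σ m) (u v : τ.T), Pr σ u.1 v.1 → β v u = β u v * wl ρ (a • qd u + a • qd v + μ • sy u v) := by
  obtain ⟨a, b, e, h⟩ := k.unif d f (β' := fun u v => β v u) (fun g i u v p => k.eqv g i _ _ (p.symm d)) (fun u v p => k.swp d f p)
    fun u v p => k.sq _ _ (p.symm d)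
  obtain ⟨τ, u, v, w, l⟩ := d.ex3
  have h1 := h _ _ l.p12
  rw [h _ _ (l.p12.symm d), mul_assoc, left_eq_mul, e3_eq, e3_eq, wl_mul, ← wl_zero (ρ := ρ) (τ := τ)] at h1
  have := (c3 l.p12.1 (a := a + b) (b := a + b) (c := 0) (by
    rw [← wl_inj f.ker h1, sy_comm v u]; clear * -; match_scalars <;> grind)).1
  exact ⟨a, e, fun τ u v p => by rw [h _ _ p, e3_eq, show b = a by clear * - this; grind]⟩

section sym
variable (h : ∀ (τ : TI σ m) (u v : τ.T), Pr σ u.1 v.1 → β v u = β u v * wl ρ (a • qd u + a • qd v + μ • sy u v))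
include h
theorem fv {u w y : τ.T} (l : L3 y u w) : β (u + w) y = β u y * β w y * wl ρ (a • sy u w + a • qd y) := by
  have := h _ y (u + w) l.p1
  simp only [Submodule.coe_add] at this
  rw [this, k.ad _ _ _ _ l, h _ _ _ l.p12, h _ _ _ l.p13, mul_assoc (β y u) (wl ρ _), ← mul_assoc (wl ρ _), k.cw d f l.p13]
  simp only [mul_assoc, wl_mul]
  congr 3; simp only [qd_add, sy_add_r]; clear * -; match_scalars <;> grind
theorem cm4 {u v w y : τ.T} (l : ∀ a b c e : K, a • u.1 + b • v.1 + c • w.1 + e • y.1 = 0 → a = 0 ∧ b = 0 ∧ c = 0 ∧ e = 0) :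
    β w v * β u y = β u y * β w v * wl ρ (a • sy u w + a • sy v y) := by
  have l1 : L3 v u w := li3.2 fun a b c e => by have := l b a c 0 (by rw [← e]; module); tauto
  have l2 : L3 y u w := li3.2 fun a b c e => by have := l b 0 c a (by rw [← e]; module); tauto
  have l3 : L3 u v y := li3.2 fun a b c e => by have := l a b 0 c (by rw [← e]; module); tauto
  have l4 : L3 w v y := li3.2 fun a b c e => by have := l 0 b a c (by rw [← e]; module); tauto
  have h1 := k.ad _ (u + w) v y (li3.2 fun a b c e => by have := l a b a c (by rw [← e]; simp; module); tauto)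
  have h2 := k.fv d f h (y := v + y) (u := u) (w := w) (li3.2 fun a b c e => by have := l b a c a (by rw [← e]; simp; module); tauto)
  simp only [Submodule.coe_add] at h1 h2
  rw [h2, k.fv d f h l1, k.fv d f h l2, k.ad _ _ _ _ l3, k.ad _ _ _ _ l4, mul_assoc _ (wl ρ _), ← mul_assoc (wl ρ _), ← mul_assoc (wl ρ _),
    k.cw d f l3.p13, mul_assoc _ (wl ρ _), k.cw d f l4.p13] at h1
  simp only [mul_assoc, wl_mul, mul_right_inj] at h1
  rw [← k.cw d f l4.p13, ← k.cw d f l4.p13] at h1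
  simp only [← mul_assoc, mul_left_inj] at h1
  rw [← mul_inv_eq_iff_eq_mul, wl_inv, mul_assoc, wl_mul] at h1
  rw [← h1]; congr 2; simp only [qd_add]; clear * -; match_scalars <;> grind
theorem z1 (d' : Sx σ m) : a = 0 := by
  obtain ⟨τ, u, v, w, l, ⟨c, c0, c1⟩ | ⟨y, l'⟩⟩ := d'.ex4
  · have p := L3.p12 l
    have h1 := h τ (c • u) v (p.sml c0); have h2 := h τ u (c • v) (p.smr c0)
    simp only [Submodule.coe_smul] at h1 h2
    rw [← k.adj d f (p.symm d) c0, h2, k.adj d f p c0, mul_right_inj] at h1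
    have := (c3 p.1 (a := a * ((c + 1) * (c + 1))) (b := a * ((c + 1) * (c + 1))) (c := 0) (by
      rw [← wz f.ker h1]; simp only [qd_sm, sy_sm_l, sy_sm_r]; clear * -; match_scalars <;> grind)).1
    simpa [c1] using this
  have h1 := k.cm4 d f h l'
  have h2 := k.cm4 d f h (u := u) (v := w) (w := v) (y := y) fun a b c e o => by have := l' a c b e (by rw [← o]; module); tauto
  have p : Pr σ u.1 y.1 := pr (li2.2 fun a b e => by have := l' a 0 0 b (by rw [← e]; module); tauto)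
  rw [h _ _ _ (L3.rot l).p12, mul_assoc, k.cw d f p, ← mul_assoc, h2] at h1
  simp only [mul_assoc, wl_mul, mul_right_inj] at h1
  by_contra a0
  exact sy_ne (u := u + y) (v := v + w) (li2.2 fun a b e => by have := l' a b b a (by rw [← e]; simp; module); tauto) a0 (by
    rw [← wz f.ker h1]; simp only [sy_add_l, sy_add_r, sy_comm y]; clear * -; match_scalars <;> grind)
end sym

theorem sh (h : ∀ (τ : TI σ m) (u v : τ.T), Pr σ u.1 v.1 → β v u = β u v * wl ρ (μ • sy u v)) (p : Pr σ u v) (c : K) :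
    β u (v + c • u) = β u v * tv ρ u (μ * c) := by
  by_cases c0 : c = 0
  · simp [c0, tv]
  obtain ⟨r, e⟩ := k.sh0 d f c
  suffices r = μ * c from this ▸ e u v p
  obtain ⟨τ, y, u, v, l⟩ := d.ex3
  have fv := fun {u w y : τ.T} (l : L3 y u w) => k.fv d f (a := 0) (by simpa using h) l
  simp only [zero_smul, add_zero, wl_zero, mul_one] at fv
  have h1 := fv (y := y + c • u + c • v) (u := u) (w := v) (l.rot.sh c c).rot.rot
  have h2 := e _ _ (l.p1.symm d)
  have h3 := e u (y + c • v) (by simpa using (l.rot.sh 0 c).p13)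
  have h4 := e v (y + c • u) (by simpa using (l.swap.rot.sh 0 c).p13)
  have h5 := k.ad _ u y (c • v) (l.rot.swap.sm c0)
  have h6 := k.ad _ v y (c • u) (l.rot.rot.sm c0)
  have h7 := k.cm3 d f (l.rot.rot.sm c0)
  have h8 := h _ v (c • u) (l.rot.rot.sm c0).p13
  simp only [Submodule.coe_add, Submodule.coe_smul, zero_smul, add_zero] at h1 h3 h4 h5 h6 h7 h8
  rw [smul_add, ← add_assoc, h1, h4, add_right_comm, h3, h5, h6, fv l, ← k.adj d f l.rot.p12 c0, h8, h7, ← Submodule.coe_add] at h2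
  simp only [tv_eq, mul_assoc, mul_right_inj] at h2
  rw [← Submodule.coe_smul, ← mul_assoc (wl ρ _), wl_mul, ← mul_assoc (wl ρ _), k.cw d f (l.rot.rot.sm c0).p13, mul_assoc,
    ← mul_assoc (β _ _), k.sq _ _ (l.rot.rot.sm c0).p13, one_mul, ← mul_assoc, k.cw d f l.rot.rot.p12, mul_assoc, wl_mul, mul_right_inj] at h2
  have := (c3 l.rot.p12.1 (a := 0) (b := 0) (c := r + μ * c) (by
    rw [← wz f.ker h2]; simp only [qd_add, sy_sm_r, sy_comm v u]; clear * -; match_scalars <;> grind)).2.2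
  clear * - this; grind
end B2

open _root_.Classical in
variable (ρ β μ) in
/-- the extension to dependent pairs -/
noncomputable def bx (u v : Fin m → K) : X := if Pr σ u v then β u v else if h : ∃ c : K, v = c • u then tv ρ u (μ * h.choose) else 1
theorem bx_pr (p : Pr σ u v) : bx μ ρ β u v = β u v := if_pos p
theorem tv_0 (a : K) : tv ρ 0 a = 1 := by rw [tv, E0_l, up_one]
theorem bx_0 (v : Fin m → K) : bx μ ρ β 0 v = 1 := by
  rw [bx, if_neg fun p => p.u0 rfl]; split_ifs <;> simp [tv_0]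
theorem bx_self (v : Fin m → K) (c : K) : bx μ ρ β v (c • v) = tv ρ v (μ * c) := by
  by_cases v0 : v = 0
  · rw [v0, bx_0, tv_0]
  have h : ∃ c' : K, c • v = c' • v := ⟨c, rfl⟩
  rw [bx, if_neg fun p => p.nm c rfl, dif_pos h, smul_left_injective K v0 h.choose_spec.symm]
theorem Sd.tvm (d : Sd σ m) (v : Fin m → K) (a b : K) : tv ρ v a * tv ρ v b = tv ρ v (a + b) := by
  rw [← up_mul (tv_SU _ _) (tv_SU _ _), tv_mul d.iv (d.iso v) (d.s1 _) (d.s1 _)]
theorem Sd.tvs (d : Sd σ m) (c : K) (v : Fin m → K) (a : K) : tv ρ (c • v) a = tv ρ v (c * c * a) := by rw [tv, d.tv_sm]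

theorem C0.bt (d : Sx σ m) (f : C0 ρ s) (e : Xb ρ s z) : ∃ β μ, Bt ρ s β μ := by
  obtain ⟨β, k⟩ := f.b2 d e
  obtain ⟨a, μ, h⟩ := k.sym0 d.toSd f
  obtain rfl := k.z1 d.toSd f h d
  have d := d.toSd
  simp only [zero_smul, zero_add] at h
  have sh := fun u v => k.sh d f h (u := u) (v := v)
  have ct : ∀ u v, Pr σ u v → ∀ a, tv ρ u a * β u v = β u v * tv ρ u a := fun u v p a =>
    ((k.vl _ _ p).cm (d.E_Yy (d.iso u) p.2 (hf_zero_l _) (hf_zero_l _) a)).eq.symm
  refine ⟨bx μ ρ β, μ, f, fun g i u v o => ?_, fun u v o => ?_, bx_self, fun u v w o o' o'' => ?_, fun u v o => ?_, fun u v c o => ?_⟩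
  · rcases d.pr_or o with p | rfl | ⟨c, rfl⟩
    · rw [bx_pr p, bx_pr (p.cj (su_sem i)), k.eqv g i _ _ p]
    · simp [(su_sem i).zero, bx_0]
    · rw [(su_sem i).smul1, bx_self, bx_self, tv_cj' i]
  · rcases d.pr_or o with p | rfl | ⟨c, rfl⟩
    · rw [bx_pr p, (k.vl _ _ p).tw]
    · simp [bx_0, E0_l, ev]
    · rw [bx_self, conj_eq_iff.2 (f.cs _).symm.eq, ev, d.E_ln]; simp
  · rcases d.pr_or o with p | rfl | ⟨c, rfl⟩
    · rcases d.pr_or o' with p' | rfl | ⟨c, rfl⟩
      · rcases d.pr_or (u := u) (v := v + w) (by simp [o, o']) with p'' | rfl | ⟨c, e⟩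
        · rw [bx_pr p, bx_pr p', bx_pr p'', k.ad2 d f p p' p'' o'']
        · exact (p.u0 rfl).elim
        · obtain rfl : w = v + c • u := by rw [← e, ← add_assoc, vv, zero_add]
          rw [e, bx_self, bx_pr p, bx_pr p', sh _ _ p, ← mul_assoc, k.sq _ _ p, one_mul]
      · exact (p.u0 rfl).elim
      · rw [bx_pr p, bx_pr (k.shr d f p c).1, bx_self, sh _ _ p]
    · simp [bx_0]
    · rcases d.pr_or o' with p' | rfl | ⟨c', rfl⟩
      · rw [add_comm, bx_pr p', bx_pr (k.shr d f p' c).1, bx_self, sh _ _ p', ct _ _ p']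
      · simp [bx_0]
      · rw [← add_smul, bx_self, bx_self, bx_self, d.tvm, mul_add]
  · rcases d.pr_or o with p | rfl | ⟨c, rfl⟩
    · obtain ⟨τ, u, v, rfl, rfl⟩ := d.ti2 o
      rw [bx_pr p, bx_pr (p.symm d), h _ _ _ p, ev_eq']
    · simpa [bx_0, E0_l, ev, tv] using bx_self (μ := μ) (ρ := ρ) (β := β) v 0
    · rw [bx_self, smul_smul, ev, d.E_ln, E_zero, up_one, mul_one]
      by_cases c0 : c = 0
      · simp [c0, bx_0, tv]
      · have := bx_self (μ := μ) (ρ := ρ) (β := β) (c • u) c⁻¹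
        rw [inv_smul_smul₀ c0, d.tvs] at this
        rw [this]; congr 1; field_simp
  · by_cases c0 : c = 0
    · simpa [c0, bx_0, tv] using (bx_self (μ := μ) (ρ := ρ) (β := β) u 0).symm
    rcases d.pr_or o with p | rfl | ⟨c', rfl⟩
    · rw [bx_pr (p.sml c0), bx_pr (p.smr c0), k.adj d f p c0]
    · simp [bx_0]
    · have := bx_self (μ := μ) (ρ := ρ) (β := β) (c • u) (c' * c⁻¹)
      rw [mul_smul, inv_smul_smul₀ c0, d.tvs] at this
      rw [this, smul_smul, bx_self]; congr 1; field_simp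

end CF.Sq
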