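import Cfsg.Agent.Sq.C1

/-! Symplectic geometry in characteristic two: generation and perfectness of stabilisers. -/

set_option autoImplicit false
set_option linter.unusedSectionVars false
set_option linter.unusedVariables false

namespace CF.Sq

open Cfsg Subgroup Equiv CF.Loc CF.LX CF.Ud Module
open CF.Dq (hf_comm hf_sw hf_smr iv1 add_eq0)
open scoped commutatorElement

variable {K : Type} [Field K] [Fintype K] [CharP K 2] {m : ℕ} {σ θ : K ≃+* K} {a b c : K}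
  {g h ξ : Perm (Fin m → K)} {u v w x y n u' v' n' : Fin m → K} {P H : Subgroup (Perm (Fin m → K))}
  {T : Submodule K (Fin m → K)}

theorem tv_back (i : Sem σ 1 h) (l : h ∈ H) (e : E σ (h w) 0 a ∈ H) : E σ w 0 a ∈ H := by
  rw [← tv_cj1 i] at e
  simpa [mul_assoc] using mul_mem (mul_mem (inv_mem l) e) l
theorem ex_c (e : 2 < Nat.card K) : ∃ c : K, c ≠ 0 ∧ c + 1 ≠ 0 := by
  classical
  by_contra! z
  have := Nat.card_le_card_of_injective (fun c : K => decide (c = 0)) fun a b k => by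
    by_cases h : a = 0
    · simpa [h, eq_comm] using k
    · have h' : b ≠ 0 := by simpa [h] using k
      exact add_right_cancel ((z a h).trans (z b h').symm)
  simp only [Nat.card_eq_fintype_card, Fintype.card_bool] at this e
  omega
theorem cong_mem {G : Type*} [Group G] {H : Subgroup G} {g x : G} (i : g ∈ H) (j : x ∈ H) (e : x * x = 1) :
    g * x * g⁻¹ * x ∈ ⁅H, H⁆ := by
  simpa [commutatorElement_def, inv_eq_of_mul_eq_one_right e] using commutator_mem_commutator i j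
theorem mem_Yy : g ∈ Yy σ u v ↔ g ∈ SU σ m ∧ g u = u ∧ g v = v := ⟨fun h => ⟨h.1.1, h.1.2, h.2.2⟩, fun h => ⟨⟨h.1, h.2.1⟩, h.1, h.2.2⟩⟩
theorem Yy_comm : Yy σ u v = Yy σ v u := inf_comm ..

namespace Sd
variable (d : Sd σ m)
include d

theorem tv_rt (l : ∀ c : K, E σ (c • w) 0 1 ∈ H) (a : K) : E σ w 0 a ∈ H := by
  obtain ⟨c, rfl⟩ := exists_rt a
  simpa [d.tv_sm] using l c
theorem tv_add (e : hf σ u v = 0) : E σ (u + v) 0 1 = E σ u 0 1 * E σ v 0 1 * E σ u v 0 := by obtain rfl := d.one; exact d.sm.tv_add e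
theorem Y_gen (v0 : v ≠ 0) (l : ∀ w, hf σ w v = 0 → E σ w 0 1 ∈ H) : Y σ v ≤ H := by obtain rfl := d.one; exact d.sm.Y_gen v0 l
theorem gen1 (e' : hf σ n' v = 0) (f : hf σ n' n = 1) (l₁ : ∀ p a, hf σ p v = 0 → hf σ p n = 0 → E σ n p a ∈ H)
    (l₂ : ∀ a, E σ n' 0 a ∈ H) (o : hf σ w v = 0) (z : hf σ w n ≠ 0) : E σ w 0 1 ∈ H := by
  have k : hf σ ((hf σ w n)⁻¹ • w + n') n = 0 := by rw [hf_add_l, hf_smul_l, inv_mul_cancel₀ z, f, CharTwo.add_self_eq_zero]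
  refine tv_back (E_sem n _ (hf σ w n' / hf σ w n)) (l₁ _ _ (by simp [o, e']) k) ?_
  rw [E_ap (d.ok k _), hf_add_r, d.smr, d.iso, div_mul_cancel₀ _ z, mul_zero, zero_add, CharTwo.add_self_eq_zero, zero_smul, add_zero,
    smul_add, smul_inv_smul₀ z, ← add_assoc, vv, zero_add, d.tv_sm]
  exact l₂ _
theorem gen2 (e : hf σ n v = 0) (e' : hf σ n' v = 0) (f : hf σ n n' = 1) (l : ∀ c : K, E σ (c • v) 0 1 ∈ H)
    (l₁ : ∀ p a, hf σ p v = 0 → hf σ p n = 0 → E σ n p a ∈ H) (l₂ : ∀ p a, hf σ p v = 0 → hf σ p n' = 0 → E σ n' p a ∈ H)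
    (o : hf σ w v = 0) : E σ w 0 1 ∈ H := by
  have k₁ : ∀ w, hf σ w v = 0 → hf σ w n ≠ 0 → E σ w 0 1 ∈ H := fun w =>
    d.gen1 e' ((d.comm _ _).trans f) l₁ fun a => l₂ 0 a (by simp) (by simp)
  have k₂ : ∀ w, hf σ w v = 0 → hf σ w n' ≠ 0 → E σ w 0 1 ∈ H := fun w => d.gen1 e f l₂ fun a => l₁ 0 a (by simp) (by simp)
  by_cases z : hf σ w n = 0
  swap; · exact k₁ w o z
  by_cases z' : hf σ w n' = 0
  swap; · exact k₂ w o z'
  by_cases j : w ∈ Submodule.span K {v, n}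
  · obtain ⟨a, b, rfl⟩ := Submodule.mem_span_pair.1 j
    rw [hf_add_l, hf_smul_l, hf_smul_l, d.sw e', f, mul_zero, zero_add, mul_one] at z'
    simpa [z'] using l a
  obtain ⟨p, h1, h2, h3⟩ := d.part2 j
  refine tv_back (E_sem n p 0) (l₁ p 0 h2 h3) ?_
  rw [E_ap (d.ok h3 _), z, d.comm w, h1]
  exact k₂ _ (by simp [o, e]) (by simp [z', f])
theorem Y_gen2 (v0 : v ≠ 0) (e : hf σ n v = 0) (e' : hf σ n' v = 0) (f : hf σ n n' = 1) (l : Q σ v ≤ H)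
    (l₁ : ∀ p a, hf σ p v = 0 → hf σ p n = 0 → E σ n p a ∈ H) (l₂ : ∀ p a, hf σ p v = 0 → hf σ p n' = 0 → E σ n' p a ∈ H) :
    Y σ v ≤ H := d.Y_gen v0 fun _ => d.gen2 e e' f (fun c => l (d.Q_sm c (E_Q _ _ _))) l₁ l₂
theorem QQ_gen (e : hf σ u v ≠ 0) (l : Q σ u ≤ H) (l' : Q σ v ≤ H) : SU σ m ≤ H := SU_iso d.iv fun w a _ _ => d.tv_rt (fun c =>
  d.gen2 (v := 0) (n := u) (n' := (hf σ u v)⁻¹ • v) (by simp) (by simp) (by rw [d.smr, inv_mul_cancel₀ e])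
    (fun c => by rw [smul_zero, E_zero_v]; exact one_mem _) (fun p a _ _ => l (E_Q _ _ _)) (fun p a _ _ => l' (d.Q_sm _ (E_Q _ _ _)))
    (by simp)) a
theorem Yy_gen' (l : ∀ w, hf σ w u = 0 → hf σ w v = 0 → E σ w 0 1 ∈ H) : Yy σ u v ≤ H := fun g i => by
  obtain rfl := d.one
  obtain ⟨i, h1, h2⟩ := mem_Yy.1 i
  refine d.sm.gen (T := Submodule.span K {u, v}) (su_sem i) (fun x j => ?_) fun w j =>
    l w (hf_sw (j _ (Submodule.subset_span (by simp)))) (hf_sw (j _ (Submodule.subset_span (by simp))))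
  obtain ⟨a, b, rfl⟩ := Submodule.mem_span_pair.1 j
  rw [(su_sem i).add, (su_sem i).smul1, (su_sem i).smul1, h1, h2]
theorem Yy_gen (p : Pr σ u v) (l : ∀ w, hf σ w u = 0 → hf σ w v = 0 → E σ w 0 1 ∈ H) : Yy σ u v ≤ H := d.Yy_gen' l
theorem E_Y (e : hf σ w v = 0) (e' : hf σ n v = 0) (a : K) : E σ w n a ∈ Y σ v := ⟨d.E_SU _ _ _, E_fix (d.sw e) (d.sw e') _⟩
theorem tv_Y (e : hf σ w v = 0) (a : K) : E σ w 0 a ∈ Y σ v := d.E_Y e (hf_zero_l v) a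
/-- transvections outside the radical are congruent modulo the commutator subgroup -/
theorem tv_cong (v0 : v ≠ 0) (e : hf σ w v = 0) (e' : hf σ x v = 0) (j : w ∉ Submodule.span K {v}) (j' : x ∉ Submodule.span K {v}) :
    E σ x 0 1 * E σ w 0 1 ∈ ⁅Y σ v, Y σ v⁆ := by
  obtain ⟨g, i, h1, h2⟩ := d.wit2 (li_two v0 j) (li_two v0 j') ((d.sw e).trans (d.sw e').symm)
  simpa only [tv_cj1 (su_sem i), h2] using cong_mem (H := Y σ v) ⟨i, h1⟩ (d.tv_Y e 1) (tv_sq _ _)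
theorem Y_perf (ex : ¬ (m = 6 ∧ Nat.card K = 2)) (v0 : v ≠ 0) : Y σ v ≤ ⁅Y σ v, Y σ v⁆ := by
  have hm := d.hm
  have sp : ∀ {w x : Fin m → K}, x ∉ Submodule.span K {v, w} → x ∉ Submodule.span K {v} ∧ w + x ∉ Submodule.span K {v} := fun {w x} j =>
    ⟨fun k => j (Submodule.span_mono (by simp) k), fun k => j (by
      simpa using sub_mem (Submodule.span_mono (t := {v, w}) (by simp) k) (Submodule.subset_span (show w ∈ ({v, w} : Set _) by simp)))⟩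
  have pol : ∀ w x, hf σ w v = 0 → hf σ x v = 0 → hf σ w x = 0 → x ∉ Submodule.span K {v, w} →
      E σ w 0 1 * E σ w x 0 ∈ ⁅Y σ v, Y σ v⁆ := fun w x a b c j => by
    have := d.tv_cong v0 b (x := w + x) (by simp [a, b]) (sp j).1 (sp j).2
    rwa [d.tv_add c, mul_assoc _ _ (E σ w x 0), d.E_swap c, d.Q_comm (E_Q x 0 1) (E_Q _ _ _), mul_assoc, mul_assoc, tv_sq, mul_one,
      ← d.E_swap c] at this
  have tri : ∀ w x y, hf σ w v = 0 → hf σ x v = 0 → hf σ y v = 0 → hf σ w x = 0 → hf σ w y = 0 → hf σ x y = 0 →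
      x ∉ Submodule.span K {v, w} → y ∉ Submodule.span K {v, w, x} → E σ w 0 1 ∈ ⁅Y σ v, Y σ v⁆ := fun w x y a b c e f g j k => by
    have h1 := pol w x a b e j
    have h2 := pol w y a c f fun l => k (Submodule.span_mono (by simp [Set.insert_subset_iff]) l)
    have h3 := pol w (x + y) a (by simp [b, c]) (by simp [e, f]) fun l => k (by
      simpa using sub_mem (Submodule.span_mono (t := {v, w, x}) (by simp [Set.insert_subset_iff]) l)
        (Submodule.subset_span (show x ∈ ({v, w, x} : Set _) by simp)))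
    have := mul_mem (mul_mem h1 h2) h3
    have e' := d.sw e; have f' := d.sw f
    have z := hf_zero_l (σ := σ) w
    rwa [d.E_mul z e', d.E_mul z f', d.E_mul z (by simp [e', f']), d.E_mul (by simp [e']) (by simp [f']),
      d.E_mul (by simp [e', f']) (by simp [e', f']), zero_add, zero_add, zero_add, vv, hf_zero_r, hf_zero_r, hf_zero_r, d.iso, d.sw g,
      show (1 : K) + 0 + 0 + (1 + 0 + 0) + 0 + (1 + 0 + 0) + 0 = 1 by grind] at this
  have d3 : ∀ a b c : Fin m → K, finrank K (Submodule.span K {a, b, c}) ≤ 3 := fun a b c => by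
    have := span_dim ![a, b, c]
    rwa [Matrix.range_cons, Matrix.range_cons_cons_empty b c ![]] at this
  refine d.Y_gen v0 fun w o => ?_
  by_cases j : w ∈ Submodule.span K {v}
  · obtain ⟨c, rfl⟩ := Submodule.mem_span_singleton.1 j
    have l : Submodule.span K {v, c • v} ≤ Submodule.span K {v} := Submodule.span_le.2 (by simp [Set.insert_subset_iff, j])
    obtain ⟨x, h1, h2, -⟩ := d.out2 v v
    obtain ⟨y, h3, h4, h5⟩ := d.out2 v x
    refine tri _ x y o h2 h4 (by simp [d.sw h2]) (by simp [d.sw h4]) (d.sw h5) (fun k => h1 (by simpa using l k)) fun k => h3 ?_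
    refine (Submodule.span_le.2 ?_ : _ ≤ Submodule.span K {v, x}) k
    have := Submodule.subset_span (R := K) (show v ∈ ({v, x} : Set _) by simp)
    simp [Set.insert_subset_iff, Submodule.smul_mem _ c this, this, Submodule.subset_span (R := K) (show x ∈ ({v, x} : Set _) by simp)]
  by_cases q : 2 < Nat.card K
  · obtain ⟨c, c0, c1⟩ := ex_c q
    have s : ∀ c : K, c ≠ 0 → c • w ∉ Submodule.span K {v} := fun c c0 k => j ((Submodule.smul_mem_iff _ c0).1 k)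
    have := mul_mem (d.tv_cong v0 o (x := c • w) (by simp [o]) j (s c c0)) (d.tv_cong v0 o (x := (c + 1) • w) (by simp [o]) j (s _ c1))
    have z := hf_zero_l (σ := σ) w
    rwa [d.tv_sm, d.tv_sm, d.E_mul z z, d.E_mul z z, d.E_mul (by simp) (by simp), add_zero, add_zero, hf_zero_l,
      show c * c * 1 + 1 + 0 + ((c + 1) * (c + 1) * 1 + 1 + 0) + 0 = 1 by grind] at this
  have : 8 ≤ m := by
    have := Finite.one_lt_card (α := K); obtain ⟨k, e⟩ := d.ev; omega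
  obtain ⟨x, h1, h2, h3⟩ := d.out2 v w
  obtain ⟨y, h4, h5⟩ := d.perp_out ![v, w, x] (Submodule.span K {v, w, x}) (by have := d3 v w x; omega)
  exact tri w x y o h2 (d.sw (h5 0)) (d.sw h3) (h5 1) (h5 2) h1 h4
theorem E_Yy (h1 : hf σ w u = 0) (h2 : hf σ w v = 0) (h3 : hf σ n u = 0) (h4 : hf σ n v = 0) (a : K) : E σ w n a ∈ Yy σ u v :=
  ⟨d.E_Y h1 h3 a, d.E_Y h2 h4 a⟩
theorem Yy_perf (p : Pr σ u v) (e : 2 < Nat.card K) : Yy σ u v ≤ ⁅Yy σ u v, Yy σ u v⁆ := by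
  obtain ⟨c, c0, c1⟩ := ex_c e
  have s : ∀ x, hf σ x u = 0 → hf σ x v = 0 → x ∉ Submodule.span K {u, v} → ∃ g ∈ Yy σ u v, g x = c • x := fun x a b j => by
    obtain ⟨g, i, h1, h2⟩ := d.wit3 (li_three p.1 j) (li_three p.1 (x := c • x) fun k => j ((Submodule.smul_mem_iff _ c0).1 k)) rfl
      (by simp [a]) (by simp [b])
    exact ⟨g, mem_Yy.2 ⟨i, h2⟩, h1⟩
  have k : ∀ x, hf σ x u = 0 → hf σ x v = 0 → x ∉ Submodule.span K {u, v} → E σ x 0 1 ∈ ⁅Yy σ u v, Yy σ u v⁆ := fun x a b j => by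
    obtain ⟨g, i, h1⟩ := s x a b j
    have := cong_mem i (d.E_Yy a b (hf_zero_l u) (hf_zero_l v) ((c + 1) * (c + 1))⁻¹) (tv_sq _ _)
    rwa [tv_cj1 (su_sem i.1.1), h1, d.tv_sm, d.E_mul (hf_zero_l x) (hf_zero_l x), add_zero, hf_zero_l,
      show c * c * ((c + 1) * (c + 1))⁻¹ + ((c + 1) * (c + 1))⁻¹ + 0 = 1 by field_simp; grind] at this
  refine d.Yy_gen p fun w a b => ?_
  by_cases j : w ∈ Submodule.span K {u, v}
  swap; · exact k w a b j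
  obtain ⟨x, h1, h2, h3⟩ := d.out2 u v
  have o : hf σ x w = 0 := by obtain ⟨_, _, rfl⟩ := Submodule.mem_span_pair.1 j; simp [h2, h3]
  obtain ⟨g, i, h4⟩ := s x h2 h3 h1
  have h5 : g w = w := by
    obtain ⟨_, _, rfl⟩ := Submodule.mem_span_pair.1 j
    rw [(su_sem i.1.1).add, (su_sem i.1.1).smul1, (su_sem i.1.1).smul1, (mem_Yy.1 i).2.1, (mem_Yy.1 i).2.2]
  have h6 := cong_mem i (d.E_Yy a b (n := (c + 1)⁻¹ • x) (by simp [h2]) (by simp [h3]) 0) (d.E_sq ..)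
  rw [E_cj1 (su_sem i.1.1), h5, (su_sem i.1.1).smul1, h4, d.E_mul (by simp [o]) (by simp [o]), smul_smul, ← add_smul, ← mul_add_one,
    inv_mul_cancel₀ c1, one_smul, hf_smul_l, d.smr, d.iso, mul_zero, mul_zero, add_zero, add_zero] at h6
  have h7 := k (w + x) (by simp [*]) (by simp [*]) fun l => h1 (by simpa using sub_mem l j)
  rwa [d.tv_add (d.sw o), mul_mem_cancel_right h6, mul_mem_cancel_right (k x h2 h3 h1)] at h7
theorem cQQ (p : Pr σ u v) (i : Sem σ 1 g) : g ∈ 𝐂(Q σ u ⊓ Q σ v) ↔ E σ (g u) (g v) 0 = E σ u v 0 := by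
  refine ⟨fun e => ?_, fun e => mem_centralizer_iff'.2 fun k j => ?_⟩
  · rw [← E_cj1 i, conj_eq_iff, mem_centralizer_iff'.1 e _ ((d.mem_QQ p).2 ⟨1, by rw [one_smul]⟩)]
  obtain ⟨c, rfl⟩ := (d.mem_QQ p).1 j
  have o : hf σ (g v) (g u) = 0 := by rw [i.form1, d.sw p.2]
  refine (conj_eq_iff.1 (Equiv.ext fun x => ?_)).symm
  have := congrArg (· x) e
  simp only [E_ap (d.ok o _), E_ap (d.ok (d.sw p.2) _)] at this
  rw [E_cj1 i, i.smul1, E_ap (d.ok (by simp [o]) _), E_ap (d.ok (by simp [d.sw p.2]) _), d.smr, d.smr]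
  linear_combination (norm := module) c • this
theorem Yy_H (p : Pr σ u v) : Yy σ u v ≤ SU σ m ⊓ 𝐂(Q σ u ⊓ Q σ v) := fun g i =>
  ⟨i.1.1, (d.cQQ p (su_sem i.1.1)).2 (by rw [(mem_Yy.1 i).2.1, (mem_Yy.1 i).2.2])⟩
theorem Q_H : Q σ u ≤ SU σ m ⊓ 𝐂(Q σ u ⊓ Q σ v) := fun g i => ⟨d.Q_SU i, mem_centralizer_iff'.2 fun k j => d.Q_comm j.1 i⟩
theorem Q_H' : Q σ v ≤ SU σ m ⊓ 𝐂(Q σ u ⊓ Q σ v) := inf_comm (Q σ u) (Q σ v) ▸ d.Q_H
theorem H_span (p : Pr σ u v) (i : g ∈ SU σ m ⊓ 𝐂(Q σ u ⊓ Q σ v)) : ∃ a b : K, g u = a • u + b • v := by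
  have s := su_sem i.1
  obtain ⟨y, h1, h2⟩ := d.dual2 p.1 0 1
  have := congrArg (· (g y)) ((d.cQQ p s).1 i.2)
  simp only [E_ap (d.ok (show hf σ (g v) (g u) = 0 by rw [s.form1, d.sw p.2]) _), E_ap (d.ok (d.sw p.2) _), s.form1, h1, h2] at this
  exact ⟨hf σ (g y) v, hf σ (g y) u, by linear_combination (norm := module) this⟩
theorem H_le (p : Pr σ u v) (l₀ : Q σ u ≤ H) (l₁ : Q σ v ≤ H) (l : Yy σ u v ≤ H) : SU σ m ⊓ 𝐂(Q σ u ⊓ Q σ v) ≤ H := by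
  have e := p.2; have e' := d.sw e
  have k₀ : ∀ g ∈ SU σ m ⊓ 𝐂(Q σ u ⊓ Q σ v), g u = u → g ∈ H := fun g i f => by
    have := (d.cQQ p (su_sem i.1)).1 i.2
    rw [f] at this
    obtain ⟨-, c, k⟩ := (d.E_inj p.u0 e' (by rw [← f, (su_sem i.1).form1, e'])).1 this.symm
    obtain ⟨n, h1, h2⟩ := d.dual2 p.1 0 c
    refine (mul_mem_cancel_left (l₀ (E_Q u n 0))).1 (l (mem_Yy.2 ⟨mul_mem (d.E_SU _ _ _) i.1, ?_, ?_⟩))
    · rw [Perm.mul_apply, f, E_self]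
    · rw [Perm.mul_apply, k, E_ap (d.ok h1 _)]
      simp [e', d.iso, d.comm v n, d.comm u n, h1, h2, add_assoc, vv]
  have k₁ : ∀ g ∈ SU σ m ⊓ 𝐂(Q σ u ⊓ Q σ v), ∀ a b : K, b ≠ 0 → g u = a • u + b • v → g ∈ H := fun g i a b b0 f => by
    obtain ⟨n, h1, h2⟩ := d.dual2 p.1 0 ((a + 1) / b)
    obtain ⟨n', h3, h4⟩ := d.dual2 p.1 b 0
    refine (mul_mem_cancel_left (l₀ (E_Q u n 0))).1 ((mul_mem_cancel_left (l₁ (E_Q v n' 0))).1
      (k₀ _ (mul_mem (d.Q_H' (E_Q _ _ _)) (mul_mem (d.Q_H (E_Q _ _ _)) i)) ?_))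
    have : E σ u n 0 (a • u + b • v) = u + b • v := by
      rw [E_ap (d.ok h1 _)]
      simp only [hf_add_l, hf_smul_l, e', d.iso, d.comm v n, d.comm u n, h1, h2, mul_div_cancel₀ _ b0]
      linear_combination (norm := module) vv (a • u)
    rw [Perm.mul_apply, Perm.mul_apply, f, this, E_ap (d.ok h4 _)]
    simp [e, d.iso, d.comm v n', d.comm u n', h3, h4, add_assoc, vv]
  intro g i
  obtain ⟨a, b, f⟩ := d.H_span p i
  by_cases b0 : b = 0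
  swap; · exact k₁ g i a b b0 f
  obtain ⟨n, h1, h2⟩ := d.dual2 p.1 1 0
  refine (mul_mem_cancel_left (l₁ (E_Q v n 0))).1 (k₁ _ (mul_mem (d.Q_H' (E_Q _ _ _)) i) a a
    (fun z => (su_sem i.1).ne p.u0 (by simp [f, z, b0])) ?_)
  rw [Perm.mul_apply, f, E_ap (d.ok h2 _)]
  simp [b0, e, d.comm u n, h1]
theorem H_gen (p : Pr σ u v) (l : ∀ g ∈ SU σ m ⊓ 𝐂(Q σ u ⊓ Q σ v), g * g = 1 → g ∈ H) : SU σ m ⊓ 𝐂(Q σ u ⊓ Q σ v) ≤ H :=
  d.H_le p (fun g i => l g (d.Q_H i) (d.Q_sq i)) (fun g i => l g (d.Q_H' i) (d.Q_sq i)) (d.Yy_gen p fun w a b =>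
    l _ (d.Yy_H p (d.E_Yy a b (hf_zero_l u) (hf_zero_l v) 1)) (tv_sq _ _))
theorem H0_gen (l : ∀ g ∈ H0 m σ, g * g = 1 → g ∈ H) : H0 m σ ≤ H := d.H_gen d.pr01 l
theorem Q_perf (p : Pr σ u v) (e : 2 < Nat.card K) : Q σ u ≤ ⁅SU σ m ⊓ 𝐂(Q σ u ⊓ Q σ v), SU σ m ⊓ 𝐂(Q σ u ⊓ Q σ v)⁆ :=
  d.Q_le_of fun n a o => by
    by_cases z : hf σ n v = 0
    · exact commutator_mono (d.Yy_H p) (d.Yy_H p) (d.Yy_perf p e (d.E_Yy (d.iso u) p.2 o z a))
    obtain ⟨c, c0, c1⟩ := ex_c e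
    have j : n ∉ Submodule.span K {u, v} := fun k => by
      obtain ⟨_, _, rfl⟩ := Submodule.mem_span_pair.1 k
      simp [p.2, d.iso] at z
    have li : LinearIndependent K ![c • n, c • u, c⁻¹ • v] := by
      convert (li_three p.1 j).units_smul ![Units.mk0 c c0, Units.mk0 c c0, (Units.mk0 c c0)⁻¹] using 1
      ext1 i; fin_cases i <;> simp [Units.smul_def]
    obtain ⟨g, i, h1, h2, h3⟩ := d.wit3 (li_three p.1 j) li (by simp [p.2]) (by simp [o]) (by rw [hf_smul_l, d.smr, mul_inv_cancel_left₀ c0])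
    have k : g ∈ 𝐂(Q σ u ⊓ Q σ v) := (d.cQQ p (su_sem i)).2 (by
      rw [h2, h3, d.E_sm (by simp [d.sw p.2]), smul_inv_smul₀ c0, mul_zero])
    have := cong_mem (H := SU σ m ⊓ 𝐂(Q σ u ⊓ Q σ v)) ⟨i, k⟩
      (d.Q_H (E_Q u (((c + 1) * (c + 1))⁻¹ • n) (((c + 1) * (c + 1))⁻¹ * a))) (d.E_sq ..)
    rwa [E_cj1 (su_sem i), h2, (su_sem i).smul1, h1, d.E_sm (by simp [o]), d.E_mul (by simp [o]) (by simp [o]), smul_smul, smul_smul,
      ← add_smul, hf_smul_l, d.smr, d.iso, mul_zero, mul_zero, add_zero,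
      show c * ((c + 1) * (c + 1))⁻¹ * c + ((c + 1) * (c + 1))⁻¹ = 1 by field_simp; grind, one_smul,
      show c * c * (((c + 1) * (c + 1))⁻¹ * a) + ((c + 1) * (c + 1))⁻¹ * a = a by field_simp; grind] at this
theorem H_perf (p : Pr σ u v) (e : 2 < Nat.card K) :
    SU σ m ⊓ 𝐂(Q σ u ⊓ Q σ v) ≤ ⁅SU σ m ⊓ 𝐂(Q σ u ⊓ Q σ v), SU σ m ⊓ 𝐂(Q σ u ⊓ Q σ v)⁆ :=
  d.H_le p (d.Q_perf p e) (inf_comm (Q σ u) (Q σ v) ▸ d.Q_perf (p.symm d) e)
    ((d.Yy_perf p e).trans (commutator_mono (d.Yy_H p) (d.Yy_H p)))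
theorem H0_perf (e : 2 < Nat.card K) : H0 m σ ≤ ⁅H0 m σ, H0 m σ⁆ := d.H_perf d.pr01 e
/-- `Y v`-invariant subspaces between `v` and its orthogonal complement -/
theorem Y_irr (v0 : v ≠ 0) {p : (Fin m → K) → Prop} (z : ∀ c : K, p (c • v)) (add : ∀ x y, p x → p y → p (x + y))
    (st : ∀ g ∈ Y σ v, ∀ x, p x → p (g x)) (hx : hf σ x v = 0) (h : x ∉ Submodule.span K {v}) (px : p x) (hy : hf σ y v = 0) : p y := by
  by_cases k : y ∈ Submodule.span K {v}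
  · obtain ⟨e, rfl⟩ := Submodule.mem_span_singleton.1 k
    exact z e
  obtain ⟨g, s, e, rfl⟩ := d.wit2 (li_two v0 h) (li_two v0 k) ((d.sw hx).trans (d.sw hy).symm)
  exact st g ⟨s, e⟩ x px
theorem o2Y (v0 : v ≠ 0) (two : IsPGroup 2 P) (l : P ≤ Y σ v) (n : Y σ v ≤ 𝐍(P)) : P ≤ Q σ v := by
  have s : ∀ p ∈ P, Sem σ 1 p := fun p i => su_sem (l i).1
  have f : ∀ p ∈ Y σ v, ∀ x ∈ Submodule.span K {v}, p x ∈ Submodule.span K {v} := fun p i x k => by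
    obtain ⟨e, rfl⟩ := Submodule.mem_span_singleton.1 k
    rwa [(su_sem i.1).smul1, show p v = v from i.2]
  obtain ⟨w, h1, h2, -⟩ := d.out2 v v
  obtain ⟨x, a, b, c⟩ := fixs two (fun p i => ⟨1, s p i⟩) (fun p i => f p (l i)) (T' := pp σ (Submodule.span K {v}))
    (fun p i x k => Geom.mem_perp_singleton.2 (by
      rw [sq_ap, ← show p v = v from (l i).2, (s p i).form1]; exact Geom.mem_perp_singleton.1 k))
    fun k => h1 (by simpa using k (Geom.mem_perp_singleton.2 h2))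
  intro p i
  refine d.cQ v0 (s p i) (l i).2 fun y k => ?_
  obtain ⟨c, e⟩ := Submodule.mem_span_singleton.1 (d.Y_irr v0 (p := fun x => ∀ p ∈ P, p x - x ∈ Submodule.span K {v})
    (fun c p i => by rw [(s p i).smul1, show p v = v from (l i).2, sub_self]; exact zero_mem _)
    (fun x y a b p i => by rw [(s p i).add, add_sub_add_comm]; exact add_mem (a p i) (b p i))
    (fun g j x a p i => by simpa [(su_sem j.1).sub] using f g j _ (a _ ((mem_normalizer_iff''.1 (n j) p).1 i)))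
    (Geom.mem_perp_singleton.1 a) b c k p i)
  exact ⟨c, by rw [e, add_sub_cancel]⟩
end Sd

theorem Sx.Y_perf (d : Sx σ m) (v0 : v ≠ 0) : Y σ v ≤ ⁅Y σ v, Y σ v⁆ := d.toSd.Y_perf d.ex v0

end CF.Sq
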