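import Cfsg.Agent.Sq.B2
import Cfsg.Agent.Sq.C2
import Cfsg.Agent.Ud.T0
import Cfsg.Agent.Dq.P2
import Cfsg.Agent.Dq.T1a

/-! The centraliser of the involution centralising the standard symplectic subgroup. -/

set_option autoImplicit false
set_option linter.unusedSectionVars false
set_option linter.unusedVariables false

namespace CF.Sq

open Cfsg Subgroup Equiv CF.Loc CF.LX CF.Ud Module
open CF.Dbl (El)
open scoped commutatorElement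

variable {K : Type} [Field K] [Fintype K] [CharP K 2] {m j : ℕ} {σ θ θ' : K ≃+* K} {a b c : K}
  {g ξ ξ' w : Perm (Fin m → K)} {u v x n : Fin m → K} {A B P H : Subgroup (Perm (Fin m → K))} {T : Submodule K (Fin m → K)}
  {G X : Type*} [Group G] [Finite G] [Group X] [Finite X] {ρ : SU σ m →* G} {ρ' : SU σ m →* X} {t h y : G} {s z : X}
  {F N R : Subgroup G} {π : N →* X}

namespace Sd
variable (d : Sd σ m)
include d
theorem j1 (l : A ≤ Gam σ m) (e : El A) : Nat.card A ≤ Nat.card (WW σ m) := by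
  obtain rfl := d.one
  refine (le_total _ _).elim id fun c => ?_
  obtain ⟨T, i, -, rfl⟩ := d.sm.j2 d.hm l e c
  obtain ⟨r, -, k⟩ := d.sm.W_conj i
  rw [← card_cj r]
  exact card_le_of_le (cj_le_iff_forall.2 k)
theorem cY (l : Ti σ T) (i : ξ ∈ Gam σ m) (e : ∀ v, (∀ x ∈ T, hf σ x v = 0) → ξ * E σ v 0 1 = E σ v 0 1 * ξ) : ξ ∈ WX σ T := by
  obtain rfl := d.one; exact d.sm.cY1 l i e
theorem W_el (l : Ti σ T) : El (WX σ T) := by obtain rfl := d.one; exact d.sm.W_el l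
theorem W_SU : WX σ T ≤ SU σ m := fun _ i => d.su_iff.2 i.1
theorem ti1 (v : Fin m → K) : Ti σ (Submodule.span K {v}) := by obtain rfl := d.one; exact d.sm.ti_one v
theorem tiP (e : hf σ u v = 0) : Ti σ (Submodule.span K {u, v}) := by obtain rfl := d.one; exact d.sm.ti_two e
theorem W1 (i : w ∈ WX σ (Submodule.span K {v})) : ∃ a, w = E σ v 0 a := by obtain rfl := d.one; exact d.sm.W1 i
theorem W2 (e : hf σ u v = 0) (i : w ∈ WX σ (Submodule.span K {u, v})) :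
    ∃ a b c : K, w = E σ u 0 a * E σ v 0 b * E σ u (c • v) 0 := by obtain rfl := d.one; exact d.sm.W2 e i
theorem cY1 (i : ξ ∈ Gam σ m) (e : ξ ∈ 𝐂(Y σ v)) : ξ ∈ WX σ (Submodule.span K {v}) :=
  d.cY (d.ti1 v) i fun w k => (e _ (d.tv_Y (d.sw (k v (Submodule.mem_span_singleton_self v))) 1)).symm
theorem cY2 (p : hf σ u v = 0) (i : ξ ∈ Gam σ m) (e : ξ ∈ 𝐂(Yy σ u v)) : ξ ∈ WX σ (Submodule.span K {u, v}) :=
  d.cY (d.tiP p) i fun w k => (e _ (d.E_Yy (d.sw (k u (Submodule.subset_span (by simp)))) (d.sw (k v (Submodule.subset_span (by simp))))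
    (hf_zero_l _) (hf_zero_l _) 1)).symm
theorem i_cent (k : Ker ρ) (l : Sem σ θ ξ) (i : Ind ρ h ξ) (a : P ≤ SU σ m) (e : h ∈ 𝐂(im ρ P)) : ξ ∈ 𝐂(P) := fun g j =>
  (d.i_cm k l i (a j) (e _ (up_im j (a j))).symm).symm
theorem i_nor (k : Ker ρ) (l : Sem σ θ ξ) (i : Ind ρ h ξ) (a : P ≤ SU σ m) (e : h ∈ 𝐍(im ρ P)) : ξ ∈ 𝐍(P) :=
  mem_normalizer_of_conj_mem fun g j => by
    obtain ⟨g', b, c, e⟩ := mem_im.1 (conj_mem_of_mem_normalizer e (up_im j (a j)))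
    rwa [← d.up_inj k c (l.su (a j)) (e.trans (i _ (a j)))]
theorem cap (k : Ker ρ) (i : h ∈ ρ.range) (e : h ∈ 𝐂(ρ.range)) : h = 1 := by
  obtain ⟨g, l, rfl⟩ := mem_range_up.1 i
  rw [(d.ind_cen k (GU_le (SU_le l)) (ind_up l)).1 e, up_one]
theorem perfL (ρ : SU σ m →* G) : ρ.range ≤ ⁅ρ.range, ρ.range⁆ := by
  rw [MonoidHom.range_eq_map, ← Subgroup.map_commutator]
  exact map_mono d.perf.ge
theorem card_im (k : Ker ρ) (l : P ≤ SU σ m) : Nat.card (im ρ P) = Nat.card P :=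
  Ud.Sx.card_im l fun g i e => d.up_inj k (l i) (one_mem _) (e.trans up_one.symm)
/-- elements of `Q v` lie in the derived group of their centraliser -/
theorem Q_der (ex : ¬ (m = 6 ∧ Nat.card K = 2)) (i : g ∈ Q σ v) : g ∈ ⁅SU σ m ⊓ 𝐂₁(g), SU σ m ⊓ 𝐂₁(g)⁆ := by
  obtain ⟨n, a, e, rfl⟩ := d.mem_Q.1 i
  have l : Yy σ v n ≤ SU σ m ⊓ 𝐂₁(E σ v n a) := fun g i => by
    obtain ⟨i, e, e'⟩ := mem_Yy.1 i
    exact ⟨i, mem_c1.2 (conj_eq_iff.1 (by rw [E_cj1 (su_sem i), e, e']))⟩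
  refine commutator_mono l l ?_
  have k : ∀ w b, w ∉ Submodule.span K {v, n} → hf σ w v = 0 → hf σ w n = 0 → b ≠ 0 → E σ v w b ∈ ⁅Yy σ v n, Yy σ v n⁆ :=
    fun w b o e₁ e₂ b0 => by
    obtain ⟨p, e₃, e₄, e₅⟩ := d.part2 o
    have := cong_mem (d.E_Yy e₁ e₂ (hf_zero_l _) (hf_zero_l _) b⁻¹) (d.E_Yy (d.iso v) (d.sw e) (n := b • p) (by simp [e₄]) (by simp [e₅]) 0)
      (d.E_sq _ _ _)
    rw [E_cj1 (E_sem _ _ _), E_fix (d.sw e₁) (hf_zero_r _), E_ap (d.ok (hf_zero_l _) _), d.E_mul (by simp [e₁, e₄]) (by simp [e₄])] at this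
    convert this using 2
    · ext i; simp [e₃, b0]; grind
    · simp [e₃, b0, d.iso, d.smr, d.s1]
  have sp : ∀ {w x}, w ∉ Submodule.span K {v, n} → x ∈ Submodule.span K {v, n} → w + x ∉ Submodule.span K {v, n} :=
    fun o i j => o ((Submodule.add_mem_iff_left _ i).1 j)
  have nn : n ∈ Submodule.span K {v, n} := Submodule.subset_span (by simp)
  obtain ⟨w, o, e₁, e₂⟩ := d.out2 v n
  by_cases c : ∃ b, b ≠ 0 ∧ b + a ≠ 0
  · obtain ⟨b, b0, b1⟩ := c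
    have := mul_mem (k w b o e₁ e₂ b0) (k (w + n) _ (sp o nn) (by simp [e₁, e]) (by simp [e₂, d.iso]) b1)
    rw [d.E_mul e₁ (by simp [e₁, e])] at this
    convert this using 2
    · rw [← add_assoc, vv, zero_add]
    · simp [d.iso, d.sw e₂, ← add_assoc, CharTwo.add_self_eq_zero]
  have q : Nat.card K = 2 ∧ a = 1 := by
    have a1 : a = 1 := by_contra fun r => c ⟨1, one_ne_zero, by grind⟩
    refine ⟨le_antisymm (not_lt.1 fun r => ?_) Finite.one_lt_card, a1⟩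
    exact c (a1 ▸ ex_c r)
  obtain ⟨x, o', f⟩ := d.perp_out ![v, n, w] (Submodule.span K (Set.range ![v, n, w])) (by
    have := finrank_range_le_card (R := K) ![v, n, w]
    have := d.hm; obtain ⟨r, rfl⟩ := d.ev
    simp only [Set.finrank, Fintype.card_fin] at *; omega)
  have f₁ : hf σ x v = 0 := d.sw (f 0)
  have f₂ : hf σ x n = 0 := d.sw (f 1)
  have f₃ : hf σ x w = 0 := d.sw (f 2)
  have le : Submodule.span K {v, n} ≤ Submodule.span K (Set.range ![v, n, w]) := Submodule.span_mono (by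
    rintro _ (rfl | rfl); exacts [⟨0, rfl⟩, ⟨1, rfl⟩])
  have := mul_mem (mul_mem (k w 1 o e₁ e₂ one_ne_zero) (k x 1 (fun i => o' (le i)) f₁ f₂ one_ne_zero))
    (k (w + x + n) 1 (sp (fun i => o' ((Submodule.add_mem_iff_right _ (Submodule.subset_span (Set.mem_range_self 2))).1 (le i))) nn)
      (by simp [e₁, f₁, e]) (by simp [e₂, f₂, d.iso]) one_ne_zero)
  rw [d.E_mul e₁ f₁, d.E_mul (by simp [e₁, f₁]) (by simp [e₁, f₁, e])] at this
  convert this using 2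
  · rw [← add_assoc, vv, zero_add]
  · simp [d.iso, d.sw e₂, d.sw f₂, f₃, d.sw f₃, q.2, CharTwo.add_self_eq_zero]
end Sd

namespace F0
variable (d : Sd σ m) (f : F0 ρ t)
include f
theorem cj (g : G) : F0 ((MulAut.conj g).toMonoidHom.comp ρ) (g * t * g⁻¹) :=
  ⟨by rw [← conj_mul_conj, f.t2]; simp, fun e => f.t1 (by simpa using e), f.ker.cj g,
    by rw [Ud.Sx.ch_range, ← cj_centralizer]; exact conj_mem_cj g f.cm,
    by rw [Ud.Sx.ch_range, ← cj_normalizer, ← cj_centralizer_singleton]; exact cj_mono g f.ct, Tx.r2_cj f.r2 g⟩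
theorem Lc : ρ.range ≤ 𝐂₁(t) := fun x i => mem_c1.2 (f.cm x i)
theorem ti : t⁻¹ = t := inv_eq_of_mul_eq_one_right f.t2
theorem tc (g : Perm (Fin m → K)) : up ρ g * t = t * up ρ g := f.cm _ (up_range g)
theorem two : IsPGroup 2 (zpowers t) := Dm.s_t2 f.t2
theorem c0 (i : h ∈ 𝐂₁(t) ⊓ 𝐂(ρ.range)) : Odd (orderOf h) ∨ Odd (orderOf (h * t)) := by
  obtain ⟨j, n, o, e⟩ := Nat.exists_eq_two_pow_mul_odd (orderOf_pos h).ne'
  refine (f.r2 (h ^ n) (pow_mem i n) ⟨j, by rw [← pow_mul, mul_comm, ← e, pow_orderOf_eq_one]⟩).imp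
    (fun k => o.of_dvd_nat (orderOf_dvd_of_pow_eq_one k)) fun k => o.of_dvd_nat (orderOf_dvd_of_pow_eq_one ?_)
  obtain ⟨r, rfl⟩ := o
  rw [Commute.mul_pow (mem_c1.1 i.1), k, pow_succ, pow_mul, pow_two, f.t2, one_pow, one_mul, f.t2]
theorem memA (l : H ≤ SU σ m) : h ∈ zpowers t ⊔ im ρ H ↔ ∃ w ∈ H, h = up ρ w ∨ h = t * up ρ w := by
  refine ⟨fun i => ?_, fun ⟨w, i, e⟩ => ?_⟩
  · obtain ⟨z, a, _, b, rfl⟩ := (mem_sup_of_le_normalizer ((im_le.trans f.Lc).trans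
      (centralizer_zpowers t ▸ centralizer_le_normalizer _))).1 i
    obtain ⟨w, b', -, rfl⟩ := mem_im.1 b
    obtain ⟨n, rfl⟩ := a
    refine ⟨w, b', ?_⟩
    have : t ^ 2 = 1 := (pow_two t).trans f.t2
    obtain ⟨r, rfl | rfl⟩ := Int.even_or_odd' n <;> simp [zpow_add, zpow_mul, this]
  · have := mem_sup_right (S := zpowers t) (up_im (φ := ρ) i (l i))
    rcases e with rfl | rfl
    exacts [this, mul_mem (mem_sup_left (mem_zpowers t)) this]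
theorem elA (l : H ≤ SU σ m) (e : El H) : El (zpowers t ⊔ im ρ H) := fun a i => by
  obtain ⟨w, j, k⟩ := (f.memA l).1 i
  have : up ρ w * up ρ w = 1 := by rw [← up_mul (l j) (l j), e w j, up_one]
  rcases k with rfl | rfl
  · exact this
  · rw [mul_assoc, ← mul_assoc _ t, f.tc, mul_assoc, this, mul_one, f.t2]
theorem codd' (le : ρ.range ≤ R) (n : t ∈ 𝐍(R)) (e : t ∉ 𝐂(R)) : Odd (Nat.card 𝐂(R)) := by
  obtain ⟨U, s, n⟩ := Ud.Sx.syl_norm f.two (le_normalizer_centralizer (zpowers_le.2 n))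
  by_contra o
  obtain ⟨⟨x, i, j⟩, x1⟩ := (Subgroup.ne_bot_iff_exists_ne_one).1 (inf_centralizer_ne_bot s.isPGroup f.two n
    (s.ne_bot_iff.2 (even_iff_two_dvd.1 (Nat.not_odd_iff_even.1 o))))
  rcases f.r2 x ⟨centralizer_zpowers t ▸ j, centralizer_anti le (s.le i)⟩ (e2_of s.isPGroup i) with k | rfl
  exacts [x1 (Subtype.ext k), e (s.le i)]
include d
theorem codd (le : ρ.range ≤ R) (n : t ∈ 𝐍(R)) (e : t ∉ 𝐂(R)) : Odd (Nat.card 𝐂(R)) := f.codd' le n e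
theorem tL : t ∉ ρ.range := fun i => f.t1 (d.cap f.ker i f.cm)
theorem ind (i : h ∈ 𝐂₁(t)) : ∃ θ ξ, Sem σ θ ξ ∧ Ind ρ h ξ :=
  let ⟨ξ, ⟨θ, a⟩, b⟩ := d.ind_of f.ker (f.ct i); ⟨θ, ξ, a, b⟩
/-- the action of `C(t)` -/
theorem psi : ∃ (ψ : 𝐂₁(t) →* Perm (Fin m → K)) (Θ : 𝐂₁(t) →* (K ≃+* K)), (∀ h, Sem σ (Θ h) (ψ h) ∧ Ind ρ h (ψ h)) ∧
    (∀ h, ψ h = 1 ↔ h.1 ∈ 𝐂(ρ.range)) ∧ ∀ g ∈ SU σ m, up ψ (up ρ g) = g :=
  let ⟨ψ, Θ, a, b, c⟩ := d.psi f.ker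
  ⟨ψ.comp (inclusion f.ct), Θ.comp (inclusion f.ct), fun _ => a _, fun _ => b _, fun g i =>
    (up_eq (f.Lc (up_range g))).trans ((up_eq (φ := ψ) (le_normalizer (up_range g))).symm.trans (c g i))⟩
theorem quo (i : h ∈ 𝐂₁(t)) (l : g ∈ SU σ m) (e : Ind ρ h g) : h * (up ρ g)⁻¹ ∈ 𝐂₁(t) ⊓ 𝐂(ρ.range) :=
  ⟨(𝐂₁(t)).mul_mem i (inv_mem (f.Lc (up_range g))), (d.ind_cen f.ker (one_mem _)
    (by simpa using e.mul (su_sem l).inv ((ind_up l).inv (su_sem l)))).2 rfl⟩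
theorem dec (i : h ∈ 𝐂₁(t)) (l : g ∈ SU σ m) (e : Ind ρ h g) : ∃ o ∈ 𝐂₁(t) ⊓ 𝐂(ρ.range), Odd (orderOf o) ∧
    (h = o * up ρ g ∨ h = o * t * up ρ g) := by
  have j := f.quo d i l e
  rcases f.c0 j with o | o
  · exact ⟨_, j, o, .inl (by simp)⟩
  · exact ⟨_, mul_mem j ⟨mem_c1.2 rfl, f.cm⟩, o, .inr (by rw [mul_assoc _ t t, f.t2]; simp)⟩
theorem lin3 (i : h ∈ 𝐂₁(t)) (l : g ∈ SU σ m) (e : Ind ρ h g) (k : h ^ 2 ^ j ∈ ρ.range) : h = up ρ g ∨ h = t * up ρ g := by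
  have z := f.quo d i l e
  have c : Commute h (up ρ g)⁻¹ := by
    have : Commute (h * (up ρ g)⁻¹) (up ρ g) := (z.2 _ (up_range g)).symm
    simpa using (this.mul_left (Commute.refl _)).inv_right
  exact (f.r2 _ z ⟨j, d.cap f.ker (by rw [c.mul_pow]; exact mul_mem k (pow_mem (inv_mem (up_range g)) _)) (pow_mem z.2 _)⟩).imp
    mul_inv_eq_one.1 mul_inv_eq_iff_eq_mul.1
theorem lin2 (i : h ∈ 𝐂₁(t)) (l : g ∈ SU σ m) (e : Ind ρ h g) (e2 : E2 h) : h = up ρ g ∨ h = t * up ρ g :=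
  let ⟨j, k⟩ := e2
  f.lin3 d i l e (j := j) (k ▸ one_mem _)
theorem der2 (i : h ∈ ⁅𝐂₁(t), 𝐂₁(t)⁆) (e : E2 h) : h ∈ ρ.range := by
  obtain ⟨ψ, Θ, a, -, b⟩ := f.psi d
  have := cycA (K := K)
  let N := ρ.range.subgroupOf 𝐂₁(t)
  have : N.Normal := normal_subgroupOf_iff_le_normalizer f.Lc |>.2 f.ct
  let Θ' : 𝐂₁(t) ⧸ N →* (K ≃+* K) := QuotientGroup.lift N Θ fun ⟨x, j⟩ l => by
    obtain ⟨g, l', rfl⟩ := mem_range_up.1 l
    exact d.typ (a _).1 (by rw [(up_eq j).symm.trans (b g l')]; exact su_sem l')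
  have cen : ∀ x : 𝐂₁(t) ⧸ N, E2 x → Θ' x = 1 → x ∈ center _ := fun x ⟨j, k⟩ l => by
    obtain ⟨x, rfl⟩ := QuotientGroup.mk_surjective x
    have s : Sem σ 1 (ψ x) := (show Θ x = 1 from l) ▸ (a x).1
    have u := up_range (φ := ρ) (ψ x)
    refine mem_center_iff.2 fun y => ?_
    obtain ⟨y, rfl⟩ := QuotientGroup.mk_surjective y
    rcases f.lin3 d x.2 (d.su_iff.2 s) (a x).2 (j := j) ((QuotientGroup.eq_one_iff (N := N) (x ^ 2 ^ j)).1 k) with r | r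
    · rw [(QuotientGroup.eq_one_iff (N := N) x).2 (show x.1 ∈ ρ.range from r ▸ u)]; simp
    · have : (x : 𝐂₁(t) ⧸ N) = (⟨t, mem_c1.2 rfl⟩ : 𝐂₁(t)) :=
        (QuotientGroup.eq (s := N).2 (show t⁻¹ * x.1 ∈ ρ.range by rwa [r, inv_mul_cancel_left])).symm
      rw [this, ← QuotientGroup.mk_mul, ← QuotientGroup.mk_mul]
      exact congrArg _ (Subtype.ext (mem_c1.1 y.2))
  rw [← map_subtype_commutator] at i
  obtain ⟨x, i, rfl⟩ := i
  have i' : (x : 𝐂₁(t) ⧸ N) ∈ _root_.commutator _ := by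
    rw [_root_.commutator_def] at i ⊢
    exact commutator_mono le_top le_top (map_commutator ⊤ ⊤ (QuotientGroup.mk' N) ▸ mem_map_of_mem _ i)
  have e' : E2 (x : 𝐂₁(t) ⧸ N) := e.imp fun j k => by
    rw [← QuotientGroup.mk_pow, show x ^ 2 ^ j = 1 from Subtype.ext k, QuotientGroup.mk_one]
  obtain ⟨P, l⟩ := (Tx.two_zp e').exists_le_sylow
  have ab := (Θ'.comp P.1.subtype).isMulCommutative_of_isCyclic_of_ker_le_center fun y j => mem_center_iff.2 fun z =>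
    Subtype.ext (mem_center_iff.1 (cen y (isPGroup_iff_forall.1 P.2 _ y.2) j) z)
  have z := Transfer.sylow_inf_center_inf_commutator_le P ⟨⟨l (mem_zpowers _), i'⟩, cen _ e'
    ((commutator_le (H₃ := Θ'.ker)).2 (fun a _ b _ => by
      rw [MonoidHom.mem_ker, map_commutatorElement, commutatorElement_eq_one_iff_mul_comm, mul_comm']) i')⟩
  rw [commutator_eq_bot_iff_le_centralizer.2 (le_centralizer_of_isMulCommutative), mem_bot] at z
  exact (QuotientGroup.eq_one_iff (N := N) x).1 z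
theorem nder (i : IsConj t y) : y ∉ ⁅𝐂₁(y), 𝐂₁(y)⁆ := fun j => by
  obtain ⟨g, rfl⟩ := isConj_iff.1 i
  rw [← cj_centralizer_singleton, ← cj_commutator, mem_cj] at j
  exact f.tL d (f.der2 d (by simpa [mul_assoc] using j) (e2_inv f.t2))
theorem lin1 (i : h ∈ 𝐂₁(t)) (l : Sem σ 1 g) (e : Ind ρ h g) (e2 : E2 h) : h ∈ zpowers t ⊔ ρ.range := by
  rcases f.lin2 d i (d.su_iff.2 l) e e2 with rfl | r
  exacts [mem_sup_right (up_range _), r ▸ mul_mem (mem_sup_left (mem_zpowers t)) (mem_sup_right (up_range _))]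
theorem q2 (e : Nat.card K = 2) (i : h ∈ 𝐂₁(t)) (e2 : E2 h) : h ∈ zpowers t ⊔ ρ.range := by
  obtain ⟨θ, ξ, a, b⟩ := f.ind d i
  obtain rfl : θ = 1 := RingEquiv.ext fun c => by
    obtain ⟨y, y0, k⟩ := (Nat.card_eq_two_iff' (0 : K)).1 e
    by_cases c0 : c = 0
    · simp [c0]
    · rw [k c c0, ← k 1 one_ne_zero, map_one, map_one]
  exact f.lin1 d i a b e2
theorem rk (l : R ≤ 𝐂₁(t)) (e : El R) : Nat.card R ≤ 2 * Nat.card (WW σ m) := by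
  obtain ⟨ψ, Θ, a, b, -⟩ := f.psi d
  refine (Dq.T1.card2 (ψ.comp (inclusion l)) (fun c => c.1 = t) (fun c k => (f.r2 c ⟨l c.2, (b _).1 k⟩ (e2_inv (e _ c.2))).imp_left
    Subtype.ext) fun a b i j => Subtype.ext (i.trans j.symm)).trans (Nat.mul_le_mul_left 2 (d.j1 ?_ ?_)) <;> rintro _ ⟨r, rfl⟩
  · exact ⟨_, (a _).1⟩
  · rw [← map_mul, show r * r = 1 from Subtype.ext (e _ r.2), map_one]
theorem rk' (c : IsConj t y) (l : R ≤ 𝐂₁(y)) (e : El R) : Nat.card R ≤ 2 * Nat.card (WW σ m) :=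
  let ⟨g, k⟩ := isConj_iff.1 c
  (f.cj g).rk d (k ▸ l) e
theorem nD (ex : ¬ (m = 6 ∧ Nat.card K = 2)) (i : g ∈ Q σ v) : ¬ IsConj t (up ρ g) := fun c => by
  have j := d.Q_der ex i
  have l : im ρ (SU σ m ⊓ 𝐂₁(g)) ≤ 𝐂₁(up ρ g) := fun x k => by
    obtain ⟨w, a, b, rfl⟩ := mem_im.1 k
    exact mem_c1.2 (by rw [← up_mul b (d.Q_SU i), mem_c1.1 a.2, up_mul (d.Q_SU i) b])
  exact f.nder d c (commutator_mono l l (Ud.Sx.im_comm (φ := ρ) inf_le_left inf_le_left ▸ up_im j (d.Q_SU i)))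
theorem cardA (l : H ≤ SU σ m) : Nat.card ↥(zpowers t ⊔ im ρ H) = 2 * Nat.card H := by
  rw [two_mul, ← Nat.card_sum]
  refine (Nat.card_eq_of_bijective (Sum.elim (fun w => ⟨_, (f.memA l).2 ⟨w.1, w.2, .inl rfl⟩⟩)
    fun w => ⟨_, (f.memA l).2 ⟨w.1, w.2, .inr rfl⟩⟩) ⟨?_, fun x => ?_⟩).symm
  · have n : ∀ a b, up ρ a ≠ t * up ρ b := fun a b e =>
      f.tL d (eq_mul_inv_of_mul_eq e.symm ▸ mul_mem (up_range a) (inv_mem (up_range b)))
    rintro (a | a) (b | b) e <;> replace e := congrArg Subtype.val e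
    exacts [congrArg _ (Subtype.ext (d.up_inj f.ker (l a.2) (l b.2) e)), (n _ _ e).elim, (n _ _ e.symm).elim,
      congrArg _ (Subtype.ext (d.up_inj f.ker (l a.2) (l b.2) (mul_left_cancel e)))]
  · obtain ⟨w, i, e | e⟩ := (f.memA l).1 x.2
    exacts [⟨.inl ⟨w, i⟩, Subtype.ext e.symm⟩, ⟨.inr ⟨w, i⟩, Subtype.ext e.symm⟩]
end F0

end CF.Sq
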