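import Cfsg.Agent.Sq.C2
import Cfsg.Agent.Sq.B2

/-! Standard symplectic subgroups in characteristic two: families of graphs. -/

set_option autoImplicit false
set_option linter.unusedSectionVars false

namespace CF.Sq

open Subgroup Equiv CF.Loc CF.LX CF.Ud
open scoped commutatorElement

variable {K : Type} [Field K] [Fintype K] [CharP K 2] {m m' : ℕ} {σ : K ≃+* K} {u v w n n' v' : Fin m → K} {X : Type*} [Group X] [Finite X]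
  {z : X} {A : Type} [CommRing A] [CharP A 2] {σ₁ : A ≃+* A} {f : K →+* A} {ω a ζ : A} {ι : (Fin m → K) → Fin m' → A}
  {ε : SU σ m →* Perm (Fin m' → A) × X} {J : (Fin m → K) → Subgroup (Perm (Fin m' → A) × X)} {p q : Perm (Fin m' → A) × X}
  {x y N : Fin m' → A} {g : Perm (Fin m' → A)}

/-- the group generated by the family -/
def Gt (J : (Fin m → K) → Subgroup (Perm (Fin m' → A) × X)) : Subgroup (Perm (Fin m' → A) × X) := closure {p | ∃ v ≠ 0, p ∈ J v}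

theorem J_Gt (v0 : v ≠ 0) : J v ≤ Gt J := fun _ i => subset_closure ⟨v, v0, i⟩
theorem PJ_Gt : PJ σ ι J v ≤ Gt J := closure_mono fun _ ⟨w, a, _, b, _⟩ => ⟨w, a, b⟩
theorem Gt_snd : (Gt J).map (MonoidHom.snd _ _) = GJ J := by
  rw [Gt, MonoidHom.map_closure, GJ]
  congr 1
  ext x
  exact ⟨fun ⟨p, ⟨v, a, b⟩, e⟩ => ⟨v, a, p, b, e.symm⟩, fun ⟨v, a, p, b, e⟩ => ⟨p, ⟨v, a, b⟩, e.symm⟩⟩
theorem Gt_GJ (i : p ∈ Gt J) : p.2 ∈ GJ J := Gt_snd (J := J) ▸ mem_map_of_mem (MonoidHom.snd _ _) i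
theorem PJ_fix (i : p ∈ PJ σ ι J v) : p.1 (ι v) = ι v :=
  (show PJ σ ι J v ≤ (MulAction.stabilizer (Perm (Fin m' → A)) (ι v)).comap (MonoidHom.fst _ X) from
    (closure_le _).2 fun _ h => h.choose_spec.2.2.2) i
theorem Q_GU : Q σ₁ x ≤ GU σ₁ m' := (closure_le _).2 fun _ ⟨_, _, e⟩ => e ▸ E_sem _ _ _
theorem E_mv (s : Iv σ₁) (hv : hf σ₁ N N = 0) (hy : hf σ₁ y y = 0) (hx : hf σ₁ x x = 0) (e : hf σ₁ y N = 1) (e' : hf σ₁ x N = 1) :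
    Ok σ₁ N (x + y) (hf σ₁ y x) ∧ E σ₁ N (x + y) (hf σ₁ y x) y = x := by
  have o : Ok σ₁ N (x + y) (hf σ₁ y x) := ⟨s, hv, by simp [e, e', CharTwo.add_self_eq_zero], by simp [hf_sym s, hx, hy, add_comm]⟩
  exact ⟨o, by rw [E_ap o]; simp [e, hy, CharTwo.add_self_eq_zero, add_comm x, ← add_assoc, vv]⟩

namespace Jr
variable (d : Sd σ m) (k : Jr σ₁ f ω ι ε J)
include k

theorem z0 : ι 0 = 0 := by simpa using k.is 0 0
theorem lift (v0 : v ≠ 0) (i : g ∈ Q σ₁ (ι v)) : ∃ p ∈ J v, p.1 = g := mem_map.1 (k.fst v v0 ▸ i)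
theorem fQ (v0 : v ≠ 0) (i : p ∈ J v) : p.1 ∈ Q σ₁ (ι v) := k.fst v v0 ▸ mem_map_of_mem (MonoidHom.fst _ _) i
theorem uq (v0 : v ≠ 0) (i : p ∈ J v) (j : q ∈ J v) (e : p.1 = q.1) : p = q := by
  have h : (p * q⁻¹).1 = 1 := by simp [e]
  exact Prod.ext e (mul_inv_eq_one.1 (k.k1 v v0 _ (mul_mem i (inv_mem j)) h))
theorem sem (i : p ∈ Gt J) : Sem σ₁ 1 p.1 :=
  (show Gt J ≤ (GU σ₁ m').comap (MonoidHom.fst _ X) from (closure_le _).2 fun _ h => Q_GU (k.fQ h.choose_spec.1 h.choose_spec.2)) i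
theorem PJ_nor (v0 : v ≠ 0) : PJ σ ι J v ≤ 𝐍(J v) := (closure_le _).2 fun p ⟨w, a, b, c, e⟩ => k.act v v0 w a b p c e
theorem mPJ (w0 : w ≠ 0) (e : hf σ v w = 0) (i : g ∈ Q σ₁ (ι w)) (h : g (ι v) = ι v) : ∃ p ∈ PJ σ ι J v, p.1 = g :=
  let ⟨p, a, b⟩ := k.lift w0 i; ⟨p, subset_closure ⟨w, w0, e, a, b ▸ h⟩, b⟩
theorem um (h : hf σ v u = 1) (l : a • ι v = 0) : a = 0 := by simpa [k.ih, h] using congrArg (hf σ₁ · (ι u)) l
theorem dec (h : hf σ₁ x (ι v) = 0) :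
    ∃ x₀ x₁ e, hf σ x₀ v = 0 ∧ hf σ x₁ v = 0 ∧ (∀ u, hf σ₁ e (ι u) = 0) ∧ x = ι x₀ + ω • ι x₁ + e := by
  obtain ⟨x₀, x₁, e, i, rfl⟩ := k.sp x
  obtain ⟨a, b⟩ := k.oi _ _ (by simpa [k.ih, i] using h)
  exact ⟨x₀, x₁, e, a, b, i, rfl⟩

include d
theorem vv (v : Fin m → K) : hf σ₁ (ι v) (ι v) = 0 := by simp [k.ih, d.iso]
theorem sf (a : K) : σ₁ (f a) = f a := by
  obtain ⟨y, e⟩ := d.partner d.pr01.u0
  have : hf σ (a • y) (bv 0) = a := by simp [e]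
  rw [← this, ← k.ih, hf_sym k.iv, k.ih, k.ih, d.comm]
theorem mQ (v0 : v ≠ 0) (i : p ∈ J v) : ∃ N ζ, Ok σ₁ (ι v) N ζ ∧ p.1 = E σ₁ (ι v) N ζ := (mem_Q k.iv (k.vv d v)).1 (k.fQ v0 i)
theorem J_PJ (v0 : v ≠ 0) : J v ≤ PJ σ ι J v := fun p i => subset_closure ⟨v, v0, d.iso v, i, by
  obtain ⟨N, ζ, o, e⟩ := k.mQ d v0 i
  rw [e, E_fix o.vv o.vn]⟩
theorem ok (e : hf σ n v = 0) (a : K) : Ok σ₁ (ι v) (ι n) (f a) :=
  ⟨k.iv, k.vv d v, by simp [k.ih, e], by simp [k.vv d, k.sf d, CharTwo.add_self_eq_zero]⟩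
theorem ok' (e : hf σ n v = 0) (a : A) : Ok σ₁ (ι v) (a • ι n) 0 := ok_iso k.iv (k.vv d v) (by simp [k.vv d]) (by simp [k.ih, e])

theorem eE (e : hf σ n v = 0) (a : K) : (up ε (E σ v n a)).1 = E σ₁ (ι v) (ι n) (f a) := Equiv.ext fun x => by
  obtain ⟨x₀, x₁, y, i, rfl⟩ := k.sp x
  have s := E_sem (σ := σ₁) (ι v) (ι n) (f a)
  rw [up_eq (d.E_SU v n a), (k.es _).add, (k.es _).add, (k.es _).smul1, k.ei, k.ei, k.ee _ _ i, s.add, s.add, s.smul1, E_fix (i v) (i n)]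
  simp [E_ap (d.ok e a), E_ap (k.ok d e a), k.ia, k.is, k.ih]

theorem eGt (g : SU σ m) : ε g ∈ Gt J := by
  obtain ⟨g', i, j⟩ := SU_iso d.iv (H := ((Gt J).comap ε).map (SU σ m).subtype) (fun v a _ _ => ⟨⟨_, tv_SU v a⟩, by
    by_cases v0 : v = 0
    · simp [v0, E_zero_v, show ∀ h, (⟨1, h⟩ : SU σ m) = 1 from fun _ => rfl]
    · exact J_Gt v0 (k.eq v v0 _ (E_Q _ _ _)), rfl⟩) g.2
  exact Subtype.ext j ▸ i
theorem eG (g : SU σ m) : (ε g).2 ∈ GJ J := Gt_GJ (k.eGt d g)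

theorem cen (e : hf σ v v' ≠ 0) (a : (1, z) ∈ 𝐍(J v)) (b : (1, z) ∈ 𝐍(J v')) : z ∈ 𝐂(GJ J) := by
  have v0 : v ≠ 0 := fun h => e (by simp [h])
  have v1 : v' ≠ 0 := fun h => e (by simp [h])
  have c : ∀ v ≠ 0, (1, z) ∈ 𝐍(J v) → ∀ p ∈ J v, p.2 ∈ 𝐂₁(z) := fun v v0 a p i =>
    mem_c1.2 (conj_eq_iff.1 (congrArg Prod.snd (k.uq v0 ((mem_normalizer_iff.1 a p).1 i) i (by simp)))).symm
  have l : ∀ v ≠ 0, (1, z) ∈ 𝐍(J v) → Q σ v ≤ ((𝐂₁(z).comap (MonoidHom.snd _ _)).comap ε).map (SU σ m).subtype := fun v v0 a g i =>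
    ⟨⟨g, d.Q_SU i⟩, c v v0 a _ (k.eq v v0 _ i), rfl⟩
  refine mem_centralizer_iff.2 fun x i => mem_c1.1 ((closure_le (K := 𝐂₁(z))).2 ?_ i)
  rintro _ ⟨u, u0, p, i, rfl⟩
  obtain ⟨g, j, rfl⟩ := d.wit1 v0 u0
  obtain ⟨g, h, rfl⟩ := d.QQ_gen e (l v v0 a) (l v' v1 b) j
  obtain ⟨p, i', rfl⟩ := (k.eJ g v).ge i
  exact mul_mem (mul_mem h (c v v0 a p i')) (inv_mem h)

theorem fn (v0 : v ≠ 0) (i : p ∈ PJ σ ι J v) (e : p.1 = 1) : p.2 ∈ 𝐂(GJ J) := by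
  obtain ⟨v', h'⟩ := d.partner v0
  have h := (d.comm v v').trans h'
  have v1 : v' ≠ 0 := fun z => by simp [z] at h
  obtain ⟨Γ, hΓ⟩ : ∃ Γ, Γ = 𝐍(J v) ⊓ (𝐍(J v') ⊓ (MulAction.stabilizer _ (ι v')).comap (MonoidHom.fst _ X)) := ⟨_, rfl⟩
  have key : ∀ w ≠ 0, hf σ v w = 0 → hf σ v' w = 0 → ∀ p ∈ J w, p.1 (ι v) = ι v → p ∈ J v ⊔ Γ := fun w w0 o o' p i e => by
    obtain ⟨N, ζ, s, l⟩ := k.mQ d w0 i
    obtain ⟨w', r⟩ := d.partner w0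
    rw [l, E_ap s, k.ih, o, map_zero, zero_smul, add_zero, mul_zero, add_zero, add_eq_left] at e
    have e' := k.um ((d.comm w w').trans r) e
    have s' := k.ok' d o (hf σ₁ N (ι v'))
    have t := k.ok' d (d.sw o) (σ₁ (hf σ₁ N (ι v')))
    obtain ⟨q, j, l'⟩ := k.lift v0 (E_Q (ι v) (σ₁ (hf σ₁ N (ι v')) • ι w) 0)
    have t' : E σ₁ (ι v) (σ₁ (hf σ₁ N (ι v')) • ι w) 0 = E σ₁ (ι w) (hf σ₁ N (ι v') • ι v) 0 := Equiv.ext fun x => by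
      simp [E_ap t, E_ap s', k.iv _, smul_smul, mul_comm, add_right_comm]
    rw [t'] at l'
    have j' := mul_mem i (k.cap w w0 v v0 (d.sw o) q j (l' ▸ E_Q _ _ _))
    have f₁ : (p * q).1 (ι v) = ι v := by
      rw [Prod.fst_mul, l, l', E_mul s s', E_fix (by simp [k.ih, o]) (by simp [e', k.vv d])]
    have f₂ : (p * q).1 (ι v') = ι v' := by
      rw [Prod.fst_mul, l, l', E_mul s s', E_fix (by simp [k.ih, o']) (by simp [k.ih, h', hf_sym k.iv, CharTwo.add_self_eq_zero])]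
    exact (mul_mem_cancel_right (mem_sup_left j)).1 (mem_sup_right (hΓ ▸ ⟨k.act v v0 w w0 o _ j' f₁, k.act v' v1 w w0 o' _ j' f₂, f₂⟩))
  obtain ⟨j, a, γ, b, rfl⟩ := (mem_sup_of_le_normalizer (hΓ ▸ inf_le_left : Γ ≤ 𝐍(J v))).1 ((closure_le (K := J v ⊔ Γ)).2 (by
    rintro p ⟨w, w0, o, i, e⟩
    by_cases w1 : w ∈ Submodule.span K {v}
    · obtain ⟨c, rfl⟩ := Submodule.mem_span_singleton.1 w1
      exact mem_sup_left (k.sc c (by rintro rfl; simp at w0) v ▸ i)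
    obtain ⟨n, n₁, n₂⟩ := d.dual2 (li_two v0 w1) 0 (hf σ v' w)
    have l := k.eq v v0 ⟨_, d.E_SU v n 0⟩ (E_Q _ _ _)
    have e' := PJ_fix (k.J_PJ d v0 l)
    have r : E σ v n 0 w = w + hf σ v' w • v := by simp [E_ap (d.ok n₁ 0), d.sw o, d.comm w n, n₂]
    have := key (E σ v n 0 w) ((E_sem v n 0).ne w0) (by simp [r, o, d.iso]) (by simp [r, h', d.s1, CharTwo.add_self_eq_zero]) _
      ((k.eJ ⟨_, d.E_SU v n 0⟩ w).le (mem_map_of_mem _ i)) (by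
        rw [MulEquiv.coe_toMonoidHom, MulAut.conj_apply, Prod.fst_mul, Prod.fst_mul, Prod.fst_inv, Perm.mul_apply, Perm.mul_apply,
          Perm.inv_eq_iff_eq.2 e'.symm, e, e'])
    exact (mul_mem_cancel_left (mem_sup_left l)).1 ((mul_mem_cancel_right (inv_mem (mem_sup_left l))).1 this)) i)
  subst hΓ
  obtain ⟨N, ζ, o, l⟩ := k.mQ d v0 a
  have r : j.1 (ι v') = ι v' := by
    have := congrArg (· (ι v')) e
    rwa [Prod.fst_mul, Perm.mul_apply, show γ.1 (ι v') = ι v' from b.2.2] at this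
  rw [l, E_ap o, k.ih, h', map_one, one_smul, mul_one, add_assoc, add_eq_left, ← vsub, sub_eq_zero] at r
  obtain ⟨s, r, t⟩ : ∃ s, N = s • ι v ∧ hf σ₁ (ι v') N + ζ = s := ⟨_, r, rfl⟩
  rw [r, hf_smul_r, k.ih, h', map_one, mul_one] at t
  have := E_shift (ok_tv (a := 0) k.iv o.vv (map_zero _)) s
  rw [zero_add, zero_add, E_zero, show s + σ₁ s = ζ by grind, ← r, ← l] at this
  obtain rfl := k.uq v0 a (one_mem _) this
  rw [one_mul] at e ⊢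
  obtain ⟨_, z⟩ := γ
  obtain rfl : _ = 1 := e
  exact k.cen d (h ▸ one_ne_zero) b.1 b.2.1

theorem perf (v0 : v ≠ 0) : J v ≤ ⁅PJ σ ι J v, J v⁆ := by
  obtain ⟨H, hH⟩ : ∃ H, H = (⁅PJ σ ι J v, J v⁆).map (MonoidHom.fst _ X) := ⟨_, rfl⟩
  have o := k.vv d v
  have cm : ∀ w ∉ Submodule.span K {v}, hf σ w v = 0 → ∀ M η, Ok σ₁ (ι w) M η → hf σ₁ (ι v) M = 0 → ∀ a : A, ∃ n, hf σ n v = 0 ∧
      E σ₁ (ι v) (a • M + (a * (hf σ₁ (ι n) M + η)) • ι w) (a * σ₁ (a * (hf σ₁ (ι n) M + η)) + a * σ₁ a * hf σ₁ (ι n) M) ∈ H ∧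
      Ok σ₁ (ι v) (a • M + (a * (hf σ₁ (ι n) M + η)) • ι w) (a * σ₁ (a * (hf σ₁ (ι n) M + η)) + a * σ₁ a * hf σ₁ (ι n) M) :=
    fun w w1 e M η s e' a => by
      obtain ⟨n, n₁, n₂⟩ := d.dual2 (li_two v0 w1) 0 1
      have fx : E σ₁ (ι w) M η (ι v) = ι v := E_fix (by simp [k.ih, d.sw e]) e' _
      obtain ⟨r, i, l⟩ := k.mPJ (fun z : w = 0 => w1 (z ▸ zero_mem _)) (d.sw e) (E_Q _ M η) fx
      obtain ⟨q, j, l'⟩ := k.lift v0 (E_Q (ι v) (a • ι n) 0)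
      have s' := k.ok' d n₁ a
      have t := s'.cj (E_sem (ι w) M η)
      rw [fx, map_zero] at t
      have := mem_map_of_mem (MonoidHom.fst _ X) (commutator_mem_commutator i j)
      rw [map_commutatorElement, ← hH, MonoidHom.coe_fst, l, l', commutatorElement_def, E_cj1 (E_sem ..), fx, E_inv s', map_zero,
        E_mul t s'] at this
      have t' := t.mul s'
      simp only [E_ap s, hf_add_r, hf_smul_l, hf_smul_r, k.ih, n₂, d.iso, map_one, map_zero, mul_one, mul_zero, zero_add] at this t'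
      rw [show a • ι n + a • M + (a * hf σ₁ (ι n) M + η * a) • ι w + a • ι n = a • M + (a * (hf σ₁ (ι n) M + η)) • ι w from
        funext fun i => by simp only [Pi.add_apply, Pi.smul_apply, smul_eq_mul]; grind,
        show σ₁ a * (a * hf σ₁ (ι n) M) + σ₁ (a * hf σ₁ (ι n) M + η * a) * a =
          a * σ₁ (a * (hf σ₁ (ι n) M + η)) + a * σ₁ a * hf σ₁ (ι n) M by simp only [map_add, map_mul]; ring] at this t'
      exact ⟨n, n₁, this, t'⟩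
  obtain ⟨w, w1, e, -⟩ := d.out2 v v
  obtain ⟨w', w2, e₁, e₂⟩ := d.out2 v w
  rw [Set.pair_eq_singleton] at w1
  have w3 : w' ∉ Submodule.span K {v} := fun h => w2 (Submodule.span_mono (by simp) h)
  have w4 : w' + w ∉ Submodule.span K {v} := fun h => w2 ((Submodule.add_mem_iff_left _ (Submodule.subset_span (by simp))).1
    (Submodule.span_mono (by simp) h))
  have tz : ∀ η, σ₁ η = η → E σ₁ (ι v) 0 η ∈ H := fun η h => by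
    have c : ∀ w ∉ Submodule.span K {v}, hf σ w v = 0 → E σ₁ (ι v) (η • ι w) η ∈ H ∧ Ok σ₁ (ι v) (η • ι w) η := fun w w1 e => by
      simpa [h] using (cm w w1 e 0 η (ok_tv k.iv (k.vv d w) h) (hf_zero_r _) 1).choose_spec.2
    obtain ⟨a₁, b₁⟩ := c w w1 e
    obtain ⟨a₂, b₂⟩ := c w' w3 e₁
    obtain ⟨a₃, b₃⟩ := c _ w4 (by simp [e, e₁])
    have := mul_mem (mul_mem a₂ a₁) a₃
    rw [E_mul b₂ b₁, E_mul (b₂.mul b₁) b₃] at this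
    simpa [k.ia, smul_add, Ud.vv, k.ih, d.iso, e₂, d.sw e₂, CharTwo.add_self_eq_zero] using this
  have add : ∀ N N', (∃ ζ, E σ₁ (ι v) N ζ ∈ H ∧ Ok σ₁ (ι v) N ζ) → (∃ ζ, E σ₁ (ι v) N' ζ ∈ H ∧ Ok σ₁ (ι v) N' ζ) →
      ∃ ζ, E σ₁ (ι v) (N + N') ζ ∈ H ∧ Ok σ₁ (ι v) (N + N') ζ := fun N N' ⟨_, a, b⟩ ⟨_, a', b'⟩ => ⟨_, E_mul b b' ▸ mul_mem a a', b.mul b'⟩
  have s₀ : ∀ w ∉ Submodule.span K {v}, hf σ w v = 0 → ∀ a : A, ∃ ζ, E σ₁ (ι v) (a • ι w) ζ ∈ H ∧ Ok σ₁ (ι v) (a • ι w) ζ :=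
    fun w w1 e a => ⟨_, by simpa using (cm w w1 e 0 1 (ok_tv k.iv (k.vv d w) (map_one _)) (hf_zero_r _) a).choose_spec.2⟩
  have s₁ : ∀ x, hf σ x v = 0 → ∀ a : A, ∃ ζ, E σ₁ (ι v) (a • ι x) ζ ∈ H ∧ Ok σ₁ (ι v) (a • ι x) ζ := fun x h a => by
    by_cases x1 : x ∈ Submodule.span K {v}
    · have := add _ _ (s₀ (x + w) (fun z => w1 ((Submodule.add_mem_iff_right _ x1).1 z)) (by simp [h, e]) a) (s₀ w w1 e a)
      rwa [k.ia, smul_add, add_assoc, Ud.vv, add_zero] at this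
    · exact s₀ x x1 h a
  intro p i
  obtain ⟨N, ζ, s, l⟩ := k.mQ d v0 i
  obtain ⟨x₀, x₁, y, h₀, h₁, h, rfl⟩ := k.dec s.nv
  obtain ⟨η, t⟩ := k.trc y
  obtain ⟨n, -, c⟩ := cm w w1 e y η ⟨k.iv, k.vv d w, h w, t⟩ (hf_swap k.iv (h v)) 1
  obtain ⟨ζ', a, b⟩ := add _ _ (add _ _ (s₁ x₀ h₀ 1) (s₁ x₁ h₁ ω)) (add _ _ ⟨_, c⟩ (s₁ w e (1 * (hf σ₁ (ι n) y + η))))
  rw [one_smul, one_smul, add_assoc y, Ud.vv, add_zero] at a b
  have r : σ₁ (ζ' + ζ) = ζ' + ζ := by have := s.tr; have := b.tr; rw [map_add]; grind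
  have := mul_mem a (tz _ r)
  rw [E_mul b (ok_tv k.iv o r), add_zero, hf_zero_l, add_zero, ← add_assoc, CharTwo.add_self_eq_zero, zero_add, ← l, hH] at this
  obtain ⟨q, j, t⟩ := this
  exact k.uq v0 (commutator_le_right_of_le_normalizer (k.PJ_nor v0) j) i t ▸ j

end Jr

end CF.Sq
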