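import Cfsg.Agent.Sq.P3

/-! The multiplication rule of the doubled elements: the element `w'`. -/

set_option autoImplicit false
set_option linter.unusedSectionVars false
set_option linter.unusedVariables false

namespace CF.Sq

open Cfsg Subgroup Equiv CF.Loc CF.LX CF.Ud Module TI
open scoped commutatorElement

variable {K : Type} [Field K] [Fintype K] [CharP K 2] {m : ℕ} {σ θ : K ≃+* K} {a b c r γ μ ζ a₁ a₂ a₃ b₁ b₂ b₃ : K}
  {g : Perm (Fin m → K)} {H : Subgroup (Perm (Fin m → K))}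
  {X : Type*} [Group X] [Finite X] {ρ : SU σ m →* X} {s x x' z : X} {u v w n p y u' v' n' : Fin m → K}
  {β β' : (Fin m → K) → (Fin m → K) → X} {ω : (Fin m → K) → X} {τ : TI σ m}

theorem Sd.hyp3 (d : Sd σ m) (e : hf σ n v = 0) (e' : hf σ n' v = 0) (f : hf σ n n' = 1) : ∃ p p', (hf σ p v = 0 ∧ hf σ p n = 0 ∧ hf σ p n' = 0) ∧
    (hf σ p' v = 0 ∧ hf σ p' n = 0 ∧ hf σ p' n' = 0) ∧ hf σ p' p = 1 := by
  have := d.hm; have := one_dim (K := K) v
  obtain ⟨p, j, h⟩ := d.perp_out ![v, n, n'] (Submodule.span K {v}) (by omega)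
  have h0 := d.sw (h 0); have h1 := d.sw (h 1); have h2 := d.sw (h 2)
  obtain ⟨p', k, l⟩ := d.part (x := p) (T := Submodule.span K {v, n, n'}) fun i => by
    obtain ⟨a, b, c, rfl⟩ := Submodule.mem_span_triple.1 i
    simp [d.sw e, d.sw e', d.iso, f, d.comm n' n] at h1 h2
    exact j (by simp [h1, h2, Submodule.smul_mem])
  exact ⟨p, p', ⟨h0, h1, h2⟩, ⟨l _ (Submodule.subset_span (by simp)), l _ (Submodule.subset_span (by simp)),
    l _ (Submodule.subset_span (by simp))⟩, k⟩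
theorem Sd.genl (d : Sd σ m) (e : hf σ n v = 0) (e' : hf σ n' v = 0) (f : hf σ n n' = 1)
    (h : ∀ p, hf σ p v = 0 → hf σ p n = 0 → hf σ p n' = 0 → E σ n p 0 ∈ H) (p : Fin m → K) (a : K) (o : hf σ p v = 0) (o' : hf σ p n = 0) :
    E σ n p a ∈ H := by
  obtain ⟨q, q', ⟨h1, h2, h3⟩, ⟨k1, k2, k3⟩, l⟩ := d.hyp3 e e' f
  have := mul_mem (mul_mem (mul_mem (h q h1 h2 h3) (h (a • q') (by simp [k1]) (by simp [k2]) (by simp [k3])))
    (h (q + a • q') (by simp [*]) (by simp [*]) (by simp [*]))) (h (p + hf σ p n' • n) (by simp [*]) (by simp [*, d.iso])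
      (by simp [f, CharTwo.add_self_eq_zero]))
  rwa [d.E_mul h2 (by simp [k2]), d.E_mul (by simp [*]) (by simp [*]), vv, d.E_mul (by simp) (by simp [*, d.iso]), zero_add, d.E_shift o',
    d.iso, hf_zero_r, hf_smul_l, l, zero_add, zero_add, mul_one, add_zero, add_zero, add_zero, add_zero] at this
theorem Sd.exB (d : Sd σ m) (u v : Fin m → K) : ∃ n n', (hf σ n u = 0 ∧ hf σ n v = 0) ∧ (hf σ n' u = 0 ∧ hf σ n' v = 0) ∧ hf σ n n' = 1 := by
  obtain ⟨n', j, a, b⟩ := d.out2 u v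
  obtain ⟨n, c, e, f⟩ := d.part2 j
  exact ⟨n, n', ⟨e, f⟩, ⟨a, b⟩, c⟩
theorem TI.c4 {u v w y : τ.T} (l : ∀ a b c e : K, a • u.1 + b • v.1 + c • w.1 + e • y.1 = 0 → a = 0 ∧ b = 0 ∧ c = 0 ∧ e = 0)
    (e : a • qd u + b • qd v + c • sy u v + r • sy w y = 0) : a = 0 ∧ b = 0 ∧ c = 0 := by
  have k : ∀ {u v : τ.T} {a b : K}, (∀ a b c e : K, a • u.1 + b • v.1 + c • w.1 + e • y.1 = 0 → a = 0 ∧ b = 0 ∧ c = 0 ∧ e = 0) →
      a • qd u + b • qd v + c • sy u v + r • sy w y = 0 → a = 0 ∧ c = 0 := fun {u v a b} l e => by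
    obtain ⟨x, h, h'⟩ := τ.d.part (x := u.1) (T := Submodule.span K {v.1, w.1, y.1}) fun i => by
      obtain ⟨a, b, c, i⟩ := Submodule.mem_span_triple.1 i
      exact one_ne_zero (l 1 a b c (by rw [one_smul, add_assoc, add_assoc, ← add_assoc (a • _), i, vv])).1
    have := l a c 0 0 (by
      simpa [qd_ap, sy_ap, h, h' v (Submodule.subset_span (by simp)), h' w (Submodule.subset_span (by simp)),
        h' y (Submodule.subset_span (by simp))] using congrArg (fun D : τ.N => D.1 x) e)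
    exact ⟨this.1, this.2.1⟩
  exact ⟨(k l e).1, (k (u := v) (v := u) (b := a) (fun a b c e o => by have := l b a c e (by rw [← o]; module); tauto)
    (by rw [← e, sy_comm v u]; module)).1, (k l e).2⟩

variable (β) in
/-- the defect of additivity -/
def Fb (v n n' : Fin m → K) : X := β v n * β v n' * β v (n + n')

namespace Bt
variable (d : Sd σ m) (f : Bt ρ s β μ)
include d f

theorem b0r (v : Fin m → K) : β v 0 = 1 := by simpa [tv] using f.self v 0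
theorem b0l (v : Fin m → K) : β 0 v = 1 := by simpa [f.b0r d] using f.adj 0 v 0 (hf_zero_l _)
theorem bb (e : hf σ n v = 0) : β v n * β v n = 1 := by rw [← f.add v n n (d.sw e) (d.sw e) (d.iso n), vv, f.b0r d]
theorem bi (e : hf σ n v = 0) : (β v n)⁻¹ = β v n := inv_eq_of_mul_eq_one_right (f.bb d e)
theorem cg (e : hf σ u v = 0) (i : g ∈ SU σ m) (h : g u = u) (h' : g v = v) : Commute (β u v) (up ρ g) :=
  (conj_eq_iff.1 (by rw [f.eqv g i u v e, h, h'])).symm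
theorem cw (u v : τ.T) (D : τ.N) : wl ρ D * β u v = β u v * wl ρ D := (f.cg d (TI.pp u v) (pe_SU D) (pe_fix ..) (pe_fix ..)).eq.symm
theorem ctv (e : hf σ u v = 0) (h : hf σ u w = 0) (h' : hf σ v w = 0) (a : K) : Commute (β u v) (tv ρ w a) :=
  f.cg d e (tv_SU _ _) (E_fix h (hf_zero_r _) _) (E_fix h' (hf_zero_r _) _)
theorem vl (e : hf σ u v = 0) : Vl ρ s u v v (β u v) := ⟨fun y j0 => by
  obtain ⟨h, j, j', rfl⟩ := mem_im.1 j0
  exact (f.cg d e j' j.1.2 j.2.2).eq.symm, f.tw u v e⟩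
theorem bc (e : hf σ v n = 0) (e' : hf σ v n' = 0) (h : hf σ n n' = 0) : Commute (β v n) (β v n') := by
  rw [Commute, SemiconjBy, ← f.add _ _ _ e e' h, ← f.add _ _ _ e' e (d.sw h), add_comm]
theorem add1 (e : hf σ u v = 0) (h : hf σ u n = 0) (h' : hf σ v n = 0) : β (u + v) n = β u n * β v n := by
  obtain ⟨τ, u, v, n, rfl, rfl, rfl⟩ := d.ti3 e h h'
  have := f.sym n (u + v).1 (TI.pp _ _)
  rw [ev_eq'] at this
  rw [← Submodule.coe_add, this, Submodule.coe_add, f.add _ _ _ (TI.pp n u) (TI.pp n v) e, f.sym n u (TI.pp _ _), f.sym n v (TI.pp _ _),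
    ev_eq', ev_eq', mul_assoc (β n u) (wl ρ _), ← mul_assoc (wl ρ _), f.cw d, sy_add_r, smul_add, wl_add]
  simp only [mul_assoc]
theorem bc2 (e : hf σ u v = 0) (h : hf σ u n = 0) (h' : hf σ v n = 0) (c : K) : Commute (β u (c • v)) (β v n) := by
  obtain ⟨τ, u, v, n, rfl, rfl, rfl⟩ := d.ti3 e h h'
  rw [← f.adj _ _ c e, ← Submodule.coe_smul, f.sym v (c • u).1 (TI.pp _ _), ev_eq']
  exact (f.bc d (TI.pp _ _) h' (TI.pp _ _)).mul_left (f.cw d ..)
theorem bE (e : hf σ n v = 0) (e' : hf σ n' v = 0) (ζ : K) : β v n * ev ρ v n' ζ = ev ρ v n' ζ * β v n * tv ρ v (μ * hf σ n n') := by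
  have := f.eqv _ (d.E_SU v n' ζ) v n (d.sw e)
  rw [E_self, E_ap (d.ok e' ζ), e, zero_smul, mul_zero, add_zero, add_zero, f.add _ _ _ (d.sw e) (by simp [d.iso]) (by simp [e]), f.self,
    ← up_inv (d.E_SU _ _ _), d.E_inv] at this
  rw [mul_assoc, ← this, ← mul_assoc, ← mul_assoc, ← up_mul (d.E_SU _ _ _) (d.E_SU _ _ _), d.E_sq, up_one, one_mul]

theorem Fr (e : hf σ n v = 0) (e' : hf σ n' v = 0) (h : hf σ p v = 0) (h1 : hf σ p n = 0) (h2 : hf σ p n' = 0) :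
    Fb β v n (n' + p) = Fb β v n n' := by
  rw [Fb, f.add _ _ _ (d.sw e') (d.sw h) (d.sw h2), ← add_assoc, add_comm _ p, f.add _ _ _ (d.sw h) (by simp [d.sw e, d.sw e']) (by simp [*]),
    ← mul_assoc (β v n), mul_assoc _ (β v p), ← mul_assoc (β v p), f.bb d h, one_mul, Fb]
theorem Fl (e : hf σ n v = 0) (e' : hf σ n' v = 0) (h : hf σ p v = 0) (h1 : hf σ p n = 0) (h2 : hf σ p n' = 0) :
    Fb β v (n + p) n' = Fb β v n n' := by
  rw [Fb, f.add _ _ _ (d.sw e) (d.sw h) (d.sw h1), add_right_comm, add_comm _ p, f.add _ _ _ (d.sw h) (by simp [d.sw e, d.sw e']) (by simp [*]),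
    mul_assoc (β v n), (f.bc d (d.sw h) (d.sw e') h2).eq, ← mul_assoc (β v n), mul_assoc _ (β v p), ← mul_assoc (β v p), f.bb d h, one_mul, Fb]
theorem Fc (i : g ∈ SU σ m) (e : hf σ n v = 0) (e' : hf σ n' v = 0) : up ρ g * Fb β v n n' * (up ρ g)⁻¹ = Fb β (g v) (g n) (g n') := by
  rw [Fb, conj_mul_conj, conj_mul_conj, f.eqv g i _ _ (d.sw e), f.eqv g i _ _ (d.sw e'), f.eqv g i _ _ (by simp [d.sw e, d.sw e']),
    (su_sem i).add, Fb]
theorem FY (v0 : v ≠ 0) (e : hf σ n v = 0) (e' : hf σ n' v = 0) (h : hf σ n n' = 1) (i : g ∈ Y σ v) :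
    up ρ g * Fb β v n n' * (up ρ g)⁻¹ = Fb β v n n' := by
  have k : ∀ {w p ζ}, hf σ p w = 0 → E σ w p ζ v = v → Fb β v (E σ w p ζ n) (E σ w p ζ n') = Fb β v n n' →
      E σ w p ζ ∈ (𝐂₁(Fb β v n n').comap ρ).map (SU σ m).subtype := fun {w p ζ} o a b =>
    ⟨⟨_, d.E_SU _ _ _⟩, mem_c1.2 (conj_eq_iff.1 (by rw [← up_eq, f.Fc d (d.E_SU _ _ _) e e', a, b])), rfl⟩
  have h' : hf σ n' n = 1 := d.comm n n' ▸ h
  obtain ⟨g, j, rfl⟩ := d.Y_gen2 v0 e e' h (d.Q_le_of fun p a o => k o (E_self ..) (by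
      rw [E_ap (d.ok o a), E_ap (d.ok o a), e, e', zero_smul, add_zero, add_zero, f.Fr d (by simp [e, d.iso]) e' (by simp [d.iso])
        (by simp [d.iso, d.sw e]) (by simp [d.sw e']), f.Fl d e e' (by simp [d.iso]) (by simp [d.sw e]) (by simp [d.sw e'])]))
    (d.genl e e' h fun p o o1 o2 => k o1 (E_fix (d.sw e) (d.sw o) _) (by
      rw [E_self, E_ap (d.ok o1 0), h', d.sw o2]; simpa using f.Fr d e e' o o1 o2))
    (d.genl e' e h' fun p o o1 o2 => k o1 (E_fix (d.sw e') (d.sw o) _) (by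
      rw [E_self, E_ap (d.ok o1 0), h, d.sw o2]; simpa using f.Fl d e e' o o2 o1)) i
  exact conj_eq_iff.2 (by simpa [up_coe] using mem_c1.1 j)
end Bt

/-- the first form of the multiplication rule -/
structure W0 (ρ : SU σ m →* X) (β : (Fin m → K) → (Fin m → K) → X) (ω : (Fin m → K) → X) : Prop where
  F : ∀ v n n' (c : K), hf σ n v = 0 → hf σ n' v = 0 → c * c = hf σ n n' → Fb β v n n' = ω (c • v)
  we : ∀ g ∈ SU σ m, ∀ v, up ρ g * ω v * (up ρ g)⁻¹ = ω (g v)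

theorem Bt.w0 (d : Sd σ m) (f : Bt ρ s β μ) : ∃ ω, W0 ρ β ω := by
  choose n n' h1 h2 h3 using fun v => d.exB v v
  have k : ∀ v p p', hf σ p v = 0 → hf σ p' v = 0 → hf σ p p' = 1 → Fb β v p p' = Fb β v (n v) (n' v) := fun v p p' a b c => by
    by_cases v0 : v = 0
    · simp [v0, Fb, f.b0l d]
    have l : ∀ {p p'}, hf σ p v = 0 → hf σ p' v = 0 → hf σ p p' = 1 → LinearIndependent K ![v, p, p'] := fun {p p'} a b c =>
      li3.2 fun x y z e => by
        have h1 := congrArg (hf σ · p) e; have h2 := congrArg (hf σ · p') e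
        simp [d.sw a, d.sw b, d.iso, c, d.comm p' p] at h1 h2
        simpa [h1, h2, v0] using e
    obtain ⟨g, i, e0, e1, e2⟩ := d.wit3 (l a b c) (l (h1 v).1 (h2 v).1 (h3 v)) (by rw [c, h3]) (by rw [d.sw a, d.sw (h1 v).1])
      (by rw [d.sw b, d.sw (h2 v).1])
    rw [← f.FY d v0 a b c ⟨i, e0⟩, f.Fc d i a b, e0, e1, e2]
  refine ⟨fun v => Fb β v (n v) (n' v), fun v p p' c a b e => ?_, fun g i v => ?_⟩
  · by_cases c0 : c = 0
    · rw [c0, mul_zero] at e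
      simp [c0, Fb, f.b0l d, ← f.add _ _ _ (d.sw a) (d.sw b) e.symm, f.bb d (v := v) (n := p + p') (by simp [a, b])]
    rw [← k (c • v) (c⁻¹ • p) (c⁻¹ • p') (by simp [a]) (by simp [b]) (by simp [← e, d.s1, c0]), Fb, Fb, ← smul_add,
      f.adj _ _ _ (by simp [d.sw a]), f.adj _ _ _ (by simp [d.sw b]), f.adj _ _ _ (by simp [d.sw a, d.sw b])]
    simp only [smul_inv_smul₀ c0]
  · have l := su_sem i
    rw [f.Fc d i (h1 v).1 (h2 v).1, k _ _ _ (by rw [l.form1, (h1 v).1]) (by rw [l.form1, (h2 v).1]) (by rw [l.form1, h3])]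

theorem Bt.nb (d : Sd σ m) (f : Bt ρ s β μ) (n : ¬ IsConj s (s * tv ρ (bv 0) 1)) : NB ρ s := fun p ζ z0 e c => n (c.trans (by
  obtain ⟨r, rfl⟩ := exists_rt ζ
  obtain ⟨g, i, h⟩ := d.wit1 (u := r • bv 0) (smul_ne_zero (fun o => z0 (by simp [o])) d.pr01.u0) d.pr01.u0
  have k : β (bv 0) p * (s * ev ρ (bv 0) p (r * r)) * (β (bv 0) p)⁻¹ = s * tv ρ (r • bv 0) 1 := by
    rw [conj_mul_conj, f.tw _ _ (d.sw e), conj_eq_iff.2 (f.cg d (d.sw e) (d.E_SU _ _ _) (E_self ..) (E_fix e (d.iso p) _)).eq, mul_assoc s,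
      ← up_mul (d.E_SU _ _ _) (d.E_SU _ _ _), d.E_mul e e, vv, d.iso, d.tvs]
    simp [tv]
  refine (isConj_iff.2 ⟨_, k⟩).trans (isConj_iff.2 ⟨up ρ g, ?_⟩)
  rw [conj_mul_conj, conj_eq_iff.2 (f.cs g).symm.eq, tv_cj' i, h]))

end CF.Sq
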