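import Cfsg.Agent.Sq.N1a

/-! The multiplication rule of the doubled elements: commutation relations of `w'`. -/

set_option autoImplicit false
set_option linter.unusedSectionVars false
set_option linter.unusedVariables false

namespace CF.Sq

open Cfsg Subgroup Equiv CF.Loc CF.LX CF.Ud Module TI
open scoped commutatorElement

variable {K : Type} [Field K] [Fintype K] [CharP K 2] {m : ℕ} {σ θ : K ≃+* K} {a b c r γ μ ζ a₁ a₂ a₃ b₁ b₂ b₃ : K}
  {g : Perm (Fin m → K)} {H : Subgroup (Perm (Fin m → K))}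
  {X : Type*} [Group X] [Finite X] {ρ : SU σ m →* X} {s x x' z : X} {u v w n p y u' v' n' : Fin m → K}
  {β β' : (Fin m → K) → (Fin m → K) → X} {ω : (Fin m → K) → X} {τ : TI σ m}

/-- `x` centralises the stabiliser of three vectors and twists `s` by `D` -/
structure Tw (ρ : SU σ m →* X) (s : X) (u v n : τ.T) (x : X) (D : τ.N) : Prop where
  cg : ∀ g ∈ SU σ m, g u = u → g v = v → g n = n → Commute x (up ρ g)
  xs : x * s = s * x * wl ρ D

namespace Tw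
variable {u v n : τ.T} {D D' : τ.N}
theorem cw (k : Tw ρ s u v n x D) (D' : τ.N) : Commute x (wl ρ D') := k.cg _ (pe_SU _) (pe_fix ..) (pe_fix ..) (pe_fix ..)
theorem mul (k : Tw ρ s u v n x D) (k' : Tw ρ s u v n x' D') : Tw ρ s u v n (x * x') (D + D') :=
  ⟨fun g i a b c => (k.cg g i a b c).mul_left (k'.cg g i a b c), by
    rw [mul_assoc, k'.xs, ← mul_assoc, ← mul_assoc, k.xs, mul_assoc _ (wl ρ D), ← (k'.cw D).eq, wl_add]; simp only [mul_assoc]⟩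
theorem inv (k : Tw ρ s u v n x D) : Tw ρ s u v n x⁻¹ D := ⟨fun g i a b c => (k.cg g i a b c).inv_left, by
  rw [inv_mul_eq_iff_eq_mul, ← mul_assoc, ← mul_assoc, k.xs, mul_assoc _ (wl ρ D), ← (k.cw D).inv_left.eq, ← mul_assoc,
    mul_inv_cancel_right, mul_assoc, wl_sq, mul_one]⟩
theorem conj (k : Tw ρ s u v n x D) : x * s * x⁻¹ = s * wl ρ D := by
  rw [k.xs, mul_assoc s, (k.cw D).eq, ← mul_assoc, mul_inv_cancel_right]
end Tw

theorem Bt.tw' (d : Sd σ m) (f : Bt ρ s β μ) (v n u : τ.T) : Tw ρ s v n u (β v n) (sy v n) :=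
  ⟨fun g i a b _ => f.cg d (TI.pp _ _) i a b, (f.vl d (TI.pp v n)).xs f.toF0⟩
theorem Bt.bE' (d : Sd σ m) (f : Bt ρ s β μ) (e : hf σ n v = 0) (e' : hf σ n' v = 0) (ζ : K) :
    β v n * ev ρ v n' ζ * (β v n)⁻¹ = ev ρ v n' (ζ + μ * hf σ n n') := by
  rw [f.bE d e e', mul_assoc _ (β v n), (f.ctv d (d.sw e) (d.iso v) e _).eq, ← mul_assoc, mul_inv_cancel_right,
    ← up_mul (d.E_SU _ _ _) (d.E_SU _ _ _), d.E_mul e' (hf_zero_l _)]
  simp

variable (ρ β ω) in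
/-- the commutator of `w'` and the doubled elements -/
def Cm (a₁ a₂ a₃ b₁ b₂ b₃ : K) : Prop := ∀ (τ : TI σ m) (v n u : τ.T), L3 v n u → ω u * β v n * (ω u)⁻¹ =
  β v n * wl ρ (a₁ • qd v + a₂ • qd n + a₃ • qd u + b₁ • sy v n + b₂ • sy v u + b₃ • sy n u)

namespace W0
variable (d : Sd σ m) (f : Bt ρ s β μ) (k : W0 ρ β ω)
include d f k

theorem z0 : ω 0 = 1 := by simpa [Fb, f.b0l d] using (k.F 0 0 0 0 (hf_zero_l _) (hf_zero_l _) (by simp)).symm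
theorem mul (e : hf σ n v = 0) (e' : hf σ n' v = 0) (h : c * c = hf σ n n') : β v n * β v n' = ω (c • v) * β v (n + n') := by
  rw [← k.F _ _ _ _ e e' h, Fb, mul_assoc, f.bb d (by simp [e, e']), mul_one]
theorem mul1 (e : hf σ n v = 0) (e' : hf σ n' v = 0) (h : hf σ n n' = 1) : β v n * β v n' = ω v * β v (n + n') := by
  simpa using k.mul d f e e' (c := 1) (by simp [h])
theorem cg (i : g ∈ SU σ m) (h : g v = v) : Commute (ω v) (up ρ g) := (conj_eq_iff.1 (by rw [k.we g i, h])).symm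
theorem cw (u : τ.T) (D : τ.N) : wl ρ D * ω u = ω u * wl ρ D := (k.cg d f (pe_SU D) (pe_fix ..)).eq.symm
theorem ctv (e : hf σ u v = 0) (a : K) : Commute (ω u) (tv ρ v a) := k.cg d f (tv_SU _ _) (E_fix e (hf_zero_r _) _)
theorem wt (v : Fin m → K) : ω v * s * (ω v)⁻¹ = s * tv ρ v (1 + μ) := by
  obtain ⟨n, n', ⟨e, -⟩, ⟨e', -⟩, h⟩ := d.exB v v
  have e2 : hf σ (n + n') v = 0 := by simp [e, e']
  have := k.F v n n' 1 e e' (by simp [h])
  rw [one_smul] at this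
  rw [← this, Fb, show ∀ a b c : X, a * b * c * s * (a * b * c)⁻¹ = a * (b * (c * s * c⁻¹) * b⁻¹) * a⁻¹ from fun _ _ _ => by group,
    f.tw _ _ (d.sw e2), conj_mul_conj _ s, f.tw _ _ (d.sw e'), f.bE' d e' e2, mul_assoc s, ← up_mul (d.E_SU _ _ _) (d.E_SU _ _ _),
    d.E_mul e' e2, conj_mul_conj _ s, f.tw _ _ (d.sw e), f.bE' d e (by simp [e, e']), mul_assoc s, ← up_mul (d.E_SU _ _ _) (d.E_SU _ _ _),
    d.E_mul e (by simp [e, e']), add_comm n n', ← add_assoc n', vv, zero_add, vv]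
  simp [d.iso, d.comm n' n, h, add_comm]
theorem tw (v n u x : τ.T) (h : ∀ g ∈ SU σ m, g v = v → g n = n → g u = u → g x = x) : Tw ρ s v n u (ω x) ((1 + μ) • qd x) :=
  ⟨fun g i a b c => k.cg d f i (h g i a b c), by rw [mul_assoc, ← k.cw d f, ← mul_assoc, ← tv_eq, ← k.wt d f]; simp⟩

theorem cm0 : ∃ a₁ a₂ a₃ b₁ b₂ b₃, Cm ρ β ω a₁ a₂ a₃ b₁ b₂ b₃ := by
  obtain ⟨τ, v, n, u, l⟩ := d.ex3
  have h1 := f.tw' d v n u; have h2 := k.tw d f v n u u fun _ _ _ _ c => c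
  have h := h1.mul ((h2.mul h1).mul h2.inv)
  obtain ⟨a₁, a₂, a₃, b₁, b₂, b₃, e⟩ := f.cx3 d (w := u) l.p12.1 (z := β v n * (ω u * β v n * (ω u)⁻¹)) (mem_c1.2 (by
    rw [h.xs, add_right_comm, nn, zero_add, nn, wl_zero, mul_one])) fun g i a b c => (h.cg g i a b c).eq
  rcases e with e | e <;> rw [← eq_inv_mul_iff_mul_eq, f.bi d (TI.pp n v)] at e
  · refine ⟨a₁, a₂, a₃, b₁, b₂, b₃, fun τ v' n' u' l' => ?_⟩
    obtain ⟨g, i, h1, h2, h3⟩ := l.all l'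
    rw [← e6_eq, ← h1, ← h2, ← h3, ← k.we g i, ← f.eqv g i _ _ (TI.pp _ _), ← e6_cj d i, ← conj_mul_conj _ (β _ _), ← e]
    group
  have := (f.vl d (TI.pp v n)).sq2 f.toF0 (a₁ • qd v + a₂ • qd n + a₃ • qd u + b₁ • sy v n + b₂ • sy v u + b₃ • sy n u)
  rw [← e6_eq, ← e, ← conj_mul_conj, f.bb d (TI.pp n v), mul_one, mul_inv_cancel, one_mul, ← wl_zero (ρ := ρ) (τ := τ)] at this
  exact (sy_ne l.p12.1 one_ne_zero (by simpa using (wl_inj f.ker this).symm)).elim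

theorem cm1 (h : Cm ρ β ω a₁ a₂ a₃ b₁ b₂ b₃) {v n n' u : τ.T} (l1 : L3 v n u) (l2 : L3 v n' u) (l3 : L3 v (n + n') u) :
    a₁ • qd v + a₃ • qd u + b₂ • sy v u + a₂ • sy n n' = 0 := by
  have h3 := h _ _ _ _ l3
  rw [Submodule.coe_add, f.add _ _ _ (TI.pp _ _) (TI.pp _ _) (TI.pp _ _), conj_mul_conj, h _ _ _ _ l1, h _ _ _ _ l2, mul_assoc,
    ← mul_assoc (wl ρ _), f.cw d, mul_assoc, mul_assoc, wl_mul, mul_right_inj, mul_right_inj] at h3
  rw [← wz f.ker h3]; simp only [qd_add, sy_add_l, sy_add_r]; clear * -; match_scalars <;> grind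
theorem cm2 (d' : Sx σ m) (h : Cm ρ β ω a₁ a₂ a₃ b₁ b₂ b₃) : Cm ρ β ω 0 0 0 b₁ 0 0 := by
  obtain ⟨τ, v, n, u, l, o⟩ := d'.ex4
  have h1 := h _ _ _ _ (L3.rot l).swap
  rw [f.sym _ _ (TI.pp v n), ev_eq', conj_mul_conj, h _ _ _ _ l, conj_eq_iff.2 (k.cw d f ..).symm, mul_assoc, mul_assoc, wl_mul, wl_mul,
    mul_right_inj] at h1
  have h0 := c6 l (a₁ := a₁ + a₂) (a₂ := a₁ + a₂) (a₃ := 0) (b₁ := 0) (b₂ := b₂ + b₃) (b₃ := b₂ + b₃) (by
    rw [← wz f.ker h1, sy_comm n v]; clear * -; match_scalars <;> grind)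
  have h2 : a₁ = 0 ∧ a₃ = 0 ∧ b₂ = 0 := by
    rcases o with ⟨c, c0, c1⟩ | ⟨y, l'⟩
    · exact c3 (L3.p13 l).1 (by
        simpa using k.cm1 d f h (n' := c • n) l ((L3.swap l).sm c0).swap (by simpa [add_smul, add_comm] using ((L3.swap l).sm c1).swap))
    · exact c4 (w := n) (y := y) (fun a b c e o => by have := l' a c b e (by rw [← o]; module); tauto) (k.cm1 d f h l
        (li3.2 fun a b c e => by have := l' a 0 c b (by rw [← e]; module); tauto)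
        (li3.2 fun a b c e => by have := l' a b c b (by rw [← e]; simp; module); tauto))
  obtain ⟨rfl, rfl, rfl⟩ := h2
  obtain rfl : a₂ = 0 := by simpa using h0.1
  obtain rfl : b₃ = 0 := by simpa using h0.2.2.2.2.1
  exact h
theorem cm3 (h : Cm ρ β ω 0 0 0 r 0 0) (p : Pr σ u n) (e : hf σ v u = 0) (e' : hf σ v n = 0) :
    ω u * β v n * (ω u)⁻¹ = β v n * ev ρ v (r • n) 0 := by
  have A : ∀ v, hf σ v u = 0 → hf σ v n = 0 → v ∉ Submodule.span K {u, n} → ω u * β v n * (ω u)⁻¹ = β v n * ev ρ v (r • n) 0 :=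
    fun v e e' j => by
      obtain ⟨τ, v, u, n, rfl, rfl, rfl⟩ := d.ti3 e e' p.2
      simpa [ev_eq'] using h τ v n u (L3.swap (li_three p.1 j))
  by_cases j : v ∈ Submodule.span K {u, n}
  swap
  · exact A v e e' j
  obtain ⟨x, jx, h1, h2⟩ := d.out2 u n
  have h3 : hf σ x v = 0 := by obtain ⟨a, b, rfl⟩ := Submodule.mem_span_pair.1 j; simp [h1, h2]
  have h4 := A (x + v) (by simp [h1, e]) (by simp [h2, e']) fun o => jx (by simpa [add_assoc, vv] using add_mem o j)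
  have h5 := A x h1 h2 jx
  have h6 := f.add1 d (u := x) (v := x + v) (n := n) (by simp [h3, d.iso]) h2 (by simp [h2, e'])
  rw [← add_assoc, vv, zero_add] at h6
  rw [h6, conj_mul_conj, h5, h4]
  obtain ⟨τ, x, v, n, rfl, rfl, rfl⟩ := d.ti3 h3 h2 e'
  rw [← Submodule.coe_add, ev_eq', ev_eq', ev_eq', mul_assoc, ← mul_assoc (wl ρ _), f.cw d, mul_assoc, mul_assoc, wl_mul, sy_add_l,
    smul_add, ← add_assoc, nn, zero_add]
theorem cm4 (h : Cm ρ β ω 0 0 0 r 0 0) (u0 : u ≠ 0) (e : hf σ n u = 0) (e' : hf σ n' u = 0) (o : hf σ n n' = 1) :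
    ω u * ω u = ev ρ u (r • (n + n')) 0 := by
  have e2 : hf σ (n + n') u = 0 := by simp [e, e']
  have p : Pr σ u (n + n') := ⟨li2.2 fun a b h => by
    have := congrArg (hf σ n) h
    simp [e, o, d.iso] at this
    simpa [this, u0] using h, d.sw e2⟩
  have h1 := k.mul1 d f e e' o
  have h2 := k.mul1 d f e' e (by rw [d.comm, o])
  have h3 : ω u * β u (n + n') * (ω u * β u (n + n')) = 1 := by
    nth_rw 2 [add_comm]
    rw [← h1, ← h2, mul_assoc, ← mul_assoc (β u n'), f.bb d e', one_mul, f.bb d e]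
  have h4 := k.cm3 d f h p (d.iso u) p.2
  rw [mul_inv_eq_iff_eq_mul] at h4
  rw [← mul_assoc, mul_eq_one_iff_eq_inv, f.bi d e2, h4, mul_assoc, mul_assoc, mul_eq_left, ← eq_inv_mul_iff_mul_eq, mul_one,
    ← up_inv (d.E_SU _ _ _), d.E_inv] at h3
  exact h3
theorem cm5 (h : Cm ρ β ω 0 0 0 r 0 0) : r = 0 := by
  obtain ⟨n, n', ⟨e, -⟩, ⟨e', -⟩, o⟩ := d.exB (bv 0) (bv 0)
  have h1 := k.cm4 d f h d.pr01.u0 e e' o
  rw [k.cm4 d f h d.pr01.u0 e (n' := n + n') (by simp [e, e']) (by simp [o, d.iso]), ← add_assoc, vv, zero_add] at h1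
  obtain ⟨-, c, h1⟩ := (d.E_inj d.pr01.u0 (by simp [e']) (by simp [e, e'])).1 (d.up_inj f.ker (d.E_SU _ _ _) (d.E_SU _ _ _) h1)
  simpa [o, d.iso, d.sw e'] using congrArg (hf σ · n') h1
end W0

/-- the second form of the multiplication rule -/
structure W1 (ρ : SU σ m →* X) (β : (Fin m → K) → (Fin m → K) → X) (ω : (Fin m → K) → X) : Prop extends W0 ρ β ω where
  sq : ∀ v, ω v * ω v = 1
  wb : ∀ u v n, hf σ u v = 0 → hf σ u n = 0 → hf σ n v = 0 → Commute (ω u) (β v n)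
  ww : ∀ u v, hf σ u v = 0 → Commute (ω u) (ω v)

theorem Bt.w1 (d' : Sx σ m) (f : Bt ρ s β μ) : ∃ ω, W1 ρ β ω := by
  have d := d'.toSd
  obtain ⟨ω, k⟩ := f.w0 d
  obtain ⟨_, _, _, r, _, _, h⟩ := k.cm0 d f
  have h := k.cm2 d f d' h
  obtain rfl := k.cm5 d f h
  have A : ∀ {u v n}, Pr σ u n → hf σ v u = 0 → hf σ v n = 0 → Commute (ω u) (β v n) := fun p e e' =>
    conj_eq_iff.1 (by simpa [ev] using k.cm3 d f h p e e')
  have wb : ∀ u v n, hf σ u v = 0 → hf σ u n = 0 → hf σ n v = 0 → Commute (ω u) (β v n) := fun u v n e₁ e₂ e₃ => by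
    rcases d.pr_or e₂ with p | rfl | ⟨c, rfl⟩
    · exact A p (d.sw e₁) (d.sw e₃)
    · rw [k.z0 d f]; exact .one_left _
    rcases d.pr_or e₁ with p | rfl | ⟨c', rfl⟩
    · rw [f.sym _ _ e₃]
      exact (A p (by simp [d.iso]) e₃).mul_right (k.cg d f (d.E_SU _ _ _) (E_fix (by simp [d.iso]) (by simp [e₁]) _))
    · rw [k.z0 d f]; exact .one_left _
    · rw [f.adj _ _ _ e₂, smul_smul, f.self]; exact k.ctv d f (d.iso u) _
  refine ⟨ω, k, fun v => ?_, wb, fun u v e => ?_⟩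
  · by_cases v0 : v = 0
    · simp [v0, k.z0 d f]
    obtain ⟨n, n', ⟨e, -⟩, ⟨e', -⟩, o⟩ := d.exB v v
    simpa [ev] using k.cm4 d f h v0 e e' o
  obtain ⟨n, n', ⟨a, b⟩, ⟨a', b'⟩, o⟩ := d.exB u v
  have := k.F v n n' 1 b b' (by simp [o])
  rw [one_smul] at this
  rw [← this]
  exact ((wb _ _ _ e (d.sw a) b).mul_right (wb _ _ _ e (d.sw a') b')).mul_right (wb _ _ _ e (by simp [d.sw a, d.sw a']) (by simp [b, b']))

end CF.Sq
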