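import Cfsg.Agent.Dq.C3
import Cfsg.Agent.Sq.C1

/-! Standard symplectic subgroups in characteristic two: words in the doubled elements. -/

set_option autoImplicit false
set_option linter.unusedSectionVars false
set_option linter.unusedVariables false

namespace CF.Sq

open Subgroup Equiv CF.Loc CF.LX CF.Ud CF.Dq CF.Dq.C3

variable {F : Type} [Field F] [Fintype F] [CharP F 2] {m : ℕ} {a c k μ ζ : F} {g : Perm (Fin m → F)} {u v w n p n' : Fin m → F}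
  {G : Type*} [Group G] [Finite G] {ρ : SU (1 : F ≃+* F) m →* G} {t x : G} {b : (Fin m → F) → (Fin m → F) → G} {γ : (Fin m → F) → G}

/-- the relations of the doubled elements -/
structure Rl (ρ : SU (1 : F ≃+* F) m →* G) (b : (Fin m → F) → (Fin m → F) → G) (w : (Fin m → F) → G) (k μ : F) : Prop where
  mm : μ * μ = μ
  eqv : ∀ g ∈ SU (1 : F ≃+* F) m, ∀ u v, hf 1 u v = 0 → up ρ g * b u v * (up ρ g)⁻¹ = b (g u) (g v)
  self : ∀ v (c : F), b v (c • v) = tv ρ v (μ * c)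
  add : ∀ u v w, hf 1 u v = 0 → hf 1 u w = 0 → hf 1 v w = 0 → b u (v + w) = b u v * b u w
  sym : ∀ u v, hf 1 u v = 0 → b v u = b u v * ev ρ u (μ • v) 0
  adj : ∀ u v (c : F), hf 1 u v = 0 → b (c • u) v = b u (c • v)
  mul : ∀ v n n' (c : F), hf 1 n v = 0 → hf 1 n' v = 0 → c * c = hf 1 n n' →
    b v n * b v n' = b v (n + n') * (w (c • v) * tv ρ v (k * (c * c)))
  we : ∀ g ∈ SU (1 : F ≃+* F) m, ∀ v, up ρ g * w v * (up ρ g)⁻¹ = w (g v)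
  wp : ∀ u v, hf 1 u v = 0 → w (u + v) * w u * w v = b u ((1 + μ) • v)
  wl : ∀ v (a c : F), w (a • v) * w (c • v) = w ((a + c) • v)
  wb : ∀ u v n, hf 1 u v = 0 → hf 1 u n = 0 → hf 1 n v = 0 → w u * b v n = b v n * w u
  w1 : μ = 1 → ∀ v, w v = 1

theorem Bd.rl (f : Bd ρ t b γ k μ) : Rl ρ b γ k μ := ⟨f.mm, f.eqv, f.self, f.add, f.sym, f.adj, f.mul, f.we, f.wp, f.wl, f.wb, f.w1⟩

theorem rt (a : F) : ∃ c : F, c * c = a := ⟨(frobeniusEquiv F 2).symm a, by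
  rw [← pow_two]; exact (frobeniusEquiv F 2).apply_symm_apply a⟩

namespace Rl
variable (s : Sm F m) (r : Rl ρ b γ k μ)
include s r

theorem b0 (v : Fin m → F) : b v 0 = 1 ∧ b 0 v = 1 := by
  have : b v 0 = 1 := by simpa [tv] using r.self v 0
  exact ⟨this, by simpa [this] using r.adj v v 0 (s.iso v)⟩
theorem bb (e : hf 1 n v = 0) : b v n * b v n = 1 := by rw [← r.add v n n (hf_sw e) (hf_sw e) (s.iso n), vv, (r.b0 s v).1]
theorem w0 : γ 0 = 1 := by simpa using r.wl 0 0 0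
theorem ww (v : Fin m → F) : γ v * γ v = 1 := by simpa [CharTwo.add_self_eq_zero, r.w0 s] using r.wl v 1 1
theorem eb (e : hf 1 u v = 0) (e₁ : hf 1 u w = 0) (e₂ : hf 1 u n = 0) (e₃ : hf 1 v w = 0) (e₄ : hf 1 v n = 0) :
    ev ρ w n ζ * b u v = b u v * ev ρ w n ζ := conj_eq_iff.1 (by rw [r.eqv _ (s.E_SU _ _ _) u v e, E_fix e₁ e₂, E_fix e₃ e₄])
theorem eb' (e : hf 1 u v = 0) (e₁ : hf 1 u w = 0) (e₂ : hf 1 u n = 0) (e₃ : hf 1 v w = 0) (e₄ : hf 1 v n = 0) (z : G) :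
    ev ρ w n ζ * (b u v * z) = b u v * (ev ρ w n ζ * z) := by rw [← mul_assoc, r.eb s e e₁ e₂ e₃ e₄, mul_assoc]
theorem ew (e : hf 1 v w = 0) (e' : hf 1 v n = 0) : ev ρ w n ζ * γ v = γ v * ev ρ w n ζ :=
  conj_eq_iff.1 (by rw [r.we _ (s.E_SU _ _ _), E_fix e e'])
theorem add1 (e : hf 1 u v = 0) (e' : hf 1 n u = 0) (e'' : hf 1 n v = 0) : b (u + v) n = b u n * b v n := by
  have := hf_sw e; have := hf_sw e'; have := hf_sw e''
  rw [r.sym n _ ort, r.sym n u e', r.sym n v e'', r.add _ _ _ ort ort e]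
  simp only [mul_assoc, r.eb' s, hs s, *]
  exact pt
theorem sw (e : hf 1 u v = 0) (c : F) : b u (c • v) = b v (c • u) * ev ρ v (μ • c • u) 0 := by
  have := hf_sw e
  rw [← r.adj _ _ _ e, r.sym v _ ort]
theorem swJ (e : hf 1 u v = 0) (c : F) : b u (c • v) ∈ JB ρ b v := r.sw s e c ▸ mul_mem (bJ ort) (eJ _ _ _)
theorem be (e₁ : hf 1 w v = 0) (e₂ : hf 1 p v = 0) (e₃ : hf 1 p w = 0) (e₄ : hf 1 n v = 0) (ζ : F) :
    b w p * ev ρ v n ζ * (b w p)⁻¹ = ev ρ v (n + μ • hf 1 n p • w) ζ * b v (hf 1 n w • p + hf 1 n p • w) := by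
  have := hf_sw e₁; have := hf_sw e₂; have := hf_sw e₃; have := hf_sw e₄
  have h := r.eqv _ (s.E_SU v n ζ) w p ort
  rw [Ea s e₄ e₁, Ea s e₄ e₂] at h
  obtain ⟨a, ha⟩ : ∃ a, hf 1 n w = a := ⟨_, rfl⟩
  obtain ⟨c, hc⟩ : ∃ c, hf 1 n p = c := ⟨_, rfl⟩
  have ha' := (hf_comm w n).trans ha
  rw [ha, hc, add_comm w, r.add1 s ort ort ort, r.adj _ _ _ ort, smul_add, r.add _ _ _ ort ort ort, smul_smul, r.self, add_comm p,
    r.add _ _ _ ort ort ort, r.sw s e₁, iv (ee s ..)] at h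
  rw [show b w p * ev ρ v n ζ = ev ρ v n ζ * (ev ρ v n ζ * b w p * ev ρ v n ζ) by rw [mul_assoc, cn (ee s ..)], h, ha, hc,
    r.add _ _ _ ort ort ort, show ev ρ v (n + μ • c • w) ζ = ev ρ v n ζ * (tv ρ v (μ * (a * c)) * ev ρ v (μ • c • w) 0) from pt]
  clear h
  generalize ev ρ v n ζ = z
  simp only [mul_assoc, mul_inv_cancel, mul_one]
  simp only [r.eb s, r.eb' s, hs s, *]
theorem wd (e : hf 1 n v = 0) (e' : hf 1 n' v = 0) (h : c * c = hf 1 n n') :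
    γ (c • v) = (b v (n + n'))⁻¹ * (b v n * b v n') * (tv ρ v (k * (c * c)))⁻¹ := by rw [r.mul _ _ _ _ e e' h]; group
theorem jr (i : g ∈ SU (1 : F ≃+* F) m) (v : Fin m → F) : cj[up ρ g] (JB ρ b v) ≤ JB ρ b (g v) :=
  JB_cj s (fun n ζ _ => by rw [Ec s i]; exact eJ _ _ _) fun n e => by
    rw [r.eqv g i _ _ (hf_sw e)]; exact bJ (((su_sem i).form1 ..).trans e)
theorem nu (i : g ∈ SU (1 : F ≃+* F) m) (e : g v = v) : up ρ g ∈ 𝐍(JB ρ b v) := mem_normalizer_of_cj_le (by simpa [e] using r.jr s i v)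
theorem nr (i : g ∈ SU (1 : F ≃+* F) m) (v : Fin m → F) : cj[up ρ g] (JB ρ b v) = JB ρ b (g v) := by
  refine le_antisymm (r.jr s i v) fun x h => ?_
  have := r.jr s (inv_mem i) (g v) (mem_map_of_mem _ h)
  rw [show g⁻¹ (g v) = v by simp, up_inv i] at this
  exact ⟨_, this, by simp [mul_assoc]⟩
theorem ns' (c : F) (v : Fin m → F) (c0 : c ≠ 0) : JB ρ b (c • v) ≤ JB ρ b v := JB_le s (fun n ζ e => by
    have e' : hf 1 n v = 0 := by simpa [hf_smr, c0] using e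
    rw [ev, E_smul (s.ok e ζ) (s.iso v) e']
    exact eJ _ _ _) fun n e => by
  have e' : hf 1 n v = 0 := by simpa [hf_smr, c0] using e
  rw [r.adj _ _ _ (hf_sw e')]
  exact bJ ort
theorem ns (c0 : c ≠ 0) (v : Fin m → F) : JB ρ b (c • v) = JB ρ b v :=
  le_antisymm (r.ns' s c v c0) (by simpa [c0] using r.ns' s c⁻¹ (c • v) (inv_ne_zero c0))
theorem nt (e₁ : ∀ g, t * ρ g = ρ g * t) (e₂ : ∀ u v, hf 1 u v = 0 → t * b u v * t⁻¹ = b u v * ev ρ u v 0) (v : Fin m → F) :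
    t ∈ 𝐍(JB ρ b v) := mem_normalizer_of_cj_le (JB_cj s (fun n ζ _ => by
    rw [ev, up_eq (s.E_SU _ _ _), e₁, mul_inv_cancel_right, ← up_eq]; exact eJ _ _ _) fun n e => by
  rw [e₂ _ _ (hf_sw e)]; exact mul_mem (bJ e) (eJ _ _ _))
theorem key (e : hf 1 w v = 0) (e₁ : hf 1 n v = 0) (e₂ : hf 1 n w = 0) (e₃ : hf 1 p v = 0) (e₄ : hf 1 p w = 0) (i : γ (c • v) ∈ JB ρ b v)
    (q : c * c = hf 1 n p) : b w n * b v p * (b w n)⁻¹ ∈ JB ρ b v := by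
  have := hf_sw e; have := hf_sw e₁; have := hf_sw e₂; have := hf_sw e₃; have := hf_sw e₄
  have h := r.mul (v + w) n p c ort ort q
  have l := r.mul w n p c e₂ e₄ q
  have o := r.wp (c • w) (c • v) ort
  rw [r.add1 s ort ort ort, r.add1 s ort ort ort, r.add1 s ort ort ort] at h
  rw [← smul_add, add_comm w, r.adj _ _ _ ort, smul_smul, smul_smul] at o
  generalize k * (c * c) = β at h l
  have c₁ : Commute (γ (c • (v + w))) (b w (n + p)) := r.wb _ _ _ ort ort ort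
  have c₂ : Commute (γ (c • w)) (b w (n + p)) := r.wb _ _ _ ort ort ort
  have c₃ : Commute (tv ρ (v + w) β) (b w (n + p)) := r.eb s ort ort ort ort ort
  have c₄ : Commute (tv ρ w β) (b w (n + p)) := r.eb s ort ort ort ort ort
  have c₅ := ((c₁.mul_left c₃).mul_left (c₂.mul_left c₄).inv_left).eq
  have : b w n * b v p * (b w n)⁻¹ = (b v n)⁻¹ * b v (n + p) * (γ (c • (v + w)) * tv ρ (v + w) β * (γ (c • w) * tv ρ w β)⁻¹) := calc
    _ = (b v n)⁻¹ * (b v n * b w n * (b v p * b w p)) * (b w n * b w p)⁻¹ := by group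
    _ = (b v n)⁻¹ * b v (n + p) * (b w (n + p) * (γ (c • (v + w)) * tv ρ (v + w) β * (γ (c • w) * tv ρ w β)⁻¹)) * (b w (n + p))⁻¹ := by
      rw [h, l]; group
    _ = _ := by rw [← c₅]; group
  rw [this, mul_inv_rev, iv (ee s ..), iv (r.ww s _), mul_assoc (γ _), ← mul_assoc (tv _ _ _),
    show tv ρ (v + w) β * tv ρ w β = ev ρ v (β • w) β from pt, r.ew s ort ort, ← mul_assoc (γ _), eq_mul_inv_of_mul_eq o]
  exact mul_mem (mul_mem (inv_mem (bJ e₁)) (bJ ort)) (mul_mem (mul_mem (r.swJ s e _) (inv_mem i)) (eJ _ _ _))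

end Rl

theorem Sd.exA (d : Sd (1 : F ≃+* F) m) (v u : Fin m → F) :
    ∃ w n, hf 1 w v = 0 ∧ hf 1 n v = 0 ∧ hf 1 n w = 1 ∧ hf 1 w u = 0 ∧ hf 1 n u = 0 := by
  obtain ⟨w, h, h₁, h₂⟩ := d.out2 v u
  obtain ⟨n, a, b, c⟩ := d.part2 h
  exact ⟨w, n, h₁, b, a, h₂, c⟩

namespace Rl
variable (d : Sd (1 : F ≃+* F) m) (r : Rl ρ b γ k μ)
include d r

theorem wJ (c : F) (v : Fin m → F) : γ (c • v) ∈ JB ρ b v := by
  have s := d.sm
  obtain ⟨w, n, h₁, h₂, h₃, -⟩ := d.exA v v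
  rw [r.wd s (n := (c * c) • n) (n' := w) ort h₁ ort]
  exact mul_mem (mul_mem (inv_mem (bJ ort)) (mul_mem (bJ ort) (bJ h₁))) (inv_mem (eJ _ _ _))
theorem key' (e : hf 1 w v = 0) (e₁ : hf 1 n v = 0) (e₂ : hf 1 n w = 0) (e₃ : hf 1 p v = 0) (e₄ : hf 1 p w = 0) :
    b w n * b v p * (b w n)⁻¹ ∈ JB ρ b v := let ⟨c, q⟩ := rt (hf 1 n p); r.key d.sm e e₁ e₂ e₃ e₄ (r.wJ d c v) q
theorem nb (e₁ : hf 1 w v = 0) (e₂ : hf 1 p v = 0) (e₃ : hf 1 p w = 0) : b w p ∈ 𝐍(JB ρ b v) := by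
  have s := d.sm
  have := hf_sw e₁; have := hf_sw e₂; have := hf_sw e₃
  by_cases h : p ∈ Submodule.span F {v, w}
  · obtain ⟨a, c, rfl⟩ := Submodule.mem_span_pair.1 h
    rw [r.add _ _ _ ort ort ort, r.self]
    exact mul_mem (le_normalizer (r.swJ s e₁ _)) (r.nu s (tv_SU _ _) (E_fix ort ort _))
  obtain ⟨n₀, h₀, h₁, h₂⟩ := p2 s h
  refine mem_normalizer_of_cj_le (JB_cj s (fun n ζ e => ?_) fun n e => ?_)
  · rw [r.be s e₁ e₂ e₃ e]
    exact mul_mem (eJ _ _ _) (bJ ort)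
  obtain ⟨c, hc⟩ : ∃ c, hf 1 n p = c := ⟨_, rfl⟩
  obtain ⟨a, q⟩ := rt (hf 1 (n + c • n₀) (c • n₀))
  have l := r.mul v _ _ a ort ort q
  clear q
  rw [add_assoc, vv, add_zero] at l
  rw [eq_mul_inv_of_mul_eq l.symm, conj_mul_conj, conj_mul_conj, ← conj_inv, conj_mul_conj _ (γ _),
    conj_eq_iff.2 (r.eb s ort ort ort ort ort).symm, conj_eq_iff.2 (r.wb _ _ _ ort ort ort).symm]
  refine mul_mem (mul_mem ?_ (r.key' d e₁ e₂ e₃ ort ort)) (inv_mem (mul_mem (r.wJ d _ _) (eJ _ _ _)))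
  obtain ⟨y, hy, y₁, y₂⟩ : ∃ y, n + c • n₀ = y ∧ hf 1 y v = 0 ∧ hf 1 y p = 0 := ⟨_, rfl, ort, ort⟩
  have := hf_sw y₁; have := hf_sw y₂
  rw [hy, r.sym p w e₃, cj2, r.eqv _ (s.E_SU _ _ _) _ _ ort, E_fix ort ort, Ea s ort y₂]
  exact r.key' d e₂ e₁ ort ort ort
theorem nw (e : hf 1 w v = 0) (c : F) : γ (c • w) ∈ 𝐍(JB ρ b v) := by
  have s := d.sm
  have := hf_sw e
  obtain ⟨p, n, h₁, h₂, h₃, h₄, h₅⟩ := d.exA w v
  rw [r.wd s (n := (c * c) • n) (n' := p) ort h₁ ort]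
  exact mul_mem (mul_mem (inv_mem (r.nb d e ort ort)) (mul_mem (r.nb d e ort ort) (r.nb d e ort ort)))
    (inv_mem (r.nu s (tv_SU _ _) (E_fix ort ort _)))
theorem nf (i : x ∈ JB ρ b v) : ∃ (n : Fin m → F) (ζ : F) (n' : Fin m → F) (c : F), hf 1 n v = 0 ∧ hf 1 n' v = 0 ∧
    x = ev ρ v n ζ * b v n' * γ (c • v) := by
  have s := d.sm
  have m : ∀ n ζ n' ζ', hf 1 n v = 0 → hf 1 n' v = 0 → ev ρ v n ζ * ev ρ v n' ζ' = ev ρ v (n + n') (ζ + ζ' + hf 1 n' n) :=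
    fun n ζ n' ζ' a c => by rw [um s (E_sem ..) (E_sem ..), E_mul (s.ok a _) (s.ok c _)]
  refine ind (P := fun x => ∃ (n : Fin _ → F) (ζ : F) (n' : Fin _ → F) (c : F), hf 1 n v = 0 ∧ hf 1 n' v = 0 ∧
    x = ev ρ v n ζ * b v n' * γ (c • v)) i ⟨0, 0, 0, 0, ort, ort, by simp [(r.b0 s v).1, ev, r.w0 s]⟩ ?_
  rintro _ (⟨_, i, rfl⟩ | ⟨p, e, rfl⟩) _ ⟨n, ζ, n', z, a, c, rfl⟩
  · obtain ⟨p, ζ', o, rfl⟩ := (mem_Q iv1 (s.iso v)).1 i
    have := o.nv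
    exact ⟨p + n, _, _, _, ort, c, by rw [← mul_assoc, ← mul_assoc, m _ _ _ _ o.nv a]⟩
  · have := hf_sw e; have := hf_sw a; have := hf_sw c
    obtain ⟨y, q⟩ := rt (hf 1 p n')
    have l := r.mul v p n' y e c q
    clear q
    refine ⟨_, _, p + n', y + z, ?_, ort, by
      rw [← mul_assoc, ← mul_assoc, mul_inv_eq_iff_eq_mul.1 (r.be s (s.iso v) e e a ζ), a, zero_smul, zero_add, r.self, mul_assoc _ (b v p), l,
        ← r.ew s ort ort, ← r.eb' s ort ort ort ort ort, mul_assoc, mul_assoc, mul_assoc, mul_assoc (b _ _), r.wl, ← mul_assoc, ← mul_assoc,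
        ← mul_assoc, m _ _ _ _ ort ort, m _ _ _ _ ort ort]⟩
    exact ort
theorem ncl (e : hf 1 n v = 0) : b v n ∈ normalClosure (ρ.range : Set G) := by
  have s := d.sm
  have l : ∀ g, up ρ g ∈ normalClosure (ρ.range : Set G) := fun g => le_normalClosure (up_range g)
  obtain ⟨p, y, h₁, h₂, h₃, h₄, h₅⟩ := d.exA v n
  have := hf_sw e; have := hf_sw h₁; have := hf_sw h₂
  have q := r.eqv _ (s.E_SU n y 0) v p ort
  rw [E_fix ort ort, Ea s h₅ h₄, h₃, one_smul, r.add _ _ _ ort ort ort] at q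
  rw [eq_inv_mul_of_mul_eq q.symm, ← mul_assoc, ← mul_assoc]
  exact mul_mem (by simpa using normalClosure_normal.conj_mem _ (l _) (b v p)⁻¹) (inv_mem (l _))

end Rl

end CF.Sq
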