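import Cfsg.Agent.Sq.T1b
import Cfsg.Agent.Sq.D1

/-! `2`-subgroups of the centraliser of the involution. -/

set_option autoImplicit false
set_option linter.unusedSectionVars false
set_option linter.unusedVariables false

namespace CF.Sq

open Cfsg Subgroup Equiv CF.Loc CF.LX CF.Ud Module

variable {K : Type} [Field K] [Fintype K] [CharP K 2] {m : ℕ} {σ θ : K ≃+* K} {g ξ : Perm (Fin m → K)}
  {G : Type*} [Group G] [Finite G] {ρ : SU σ m →* G} {t h : G} {R : Subgroup G}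

theorem Sd.sylL (d : Sd σ m) (ρ : SU σ m →* G) : IsSyl 2 (im ρ (UT σ m)) ρ.range := by
  rw [MonoidHom.range_eq_map]
  exact (isSyl_top d.U_syl.toSylow).map ρ

namespace F0
variable (d : Sd σ m) (f : F0 ρ t)
include d f
theorem linU (i : h ∈ 𝐂₁(t)) (n : h ∈ 𝐍(im ρ (UT σ m))) (e2 : E2 h) (l : Sem σ 1 g) (e : Ind ρ h g) :
    h ∈ zpowers t ⊔ im ρ (UT σ m) := by
  have j := d.su_iff.2 l
  obtain ⟨ψ, Θ, a, -⟩ := f.psi d
  refine (f.memA d.U_SU).2 ⟨g, d.U_of l ((d.U_norm ⟨1, l⟩).1 (d.i_nor f.ker l e d.U_SU n)) ?_, f.lin2 d i j e e2⟩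
  rw [d.ind_uq f.ker ⟨1, l⟩ ⟨_, (a ⟨h, i⟩).1⟩ e (a ⟨h, i⟩).2]
  exact E2.map ψ (e2.imp fun _ k => Subtype.ext k)
theorem idx (l : R ≤ 𝐂₁(t)) (two : IsPGroup 2 R) (n : R ≤ 𝐍(im ρ (UT σ m))) :
    (zpowers t ⊔ im ρ (UT σ m)).relIndex R ≤ Nat.card (K ≃+* K) := by
  obtain ⟨ψ, Θ, a, -⟩ := f.psi d
  have : Finite (K ≃+* K) := .of_injective _ DFunLike.coe_injective
  have : (Θ.comp (inclusion l)).ker ≤ (zpowers t ⊔ im ρ (UT σ m)).subgroupOf R := fun x k => mem_subgroupOf.2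
    (f.linU d (l x.2) (n x.2) (e2_of two x.2) ((show Θ ⟨x, l x.2⟩ = 1 from k) ▸ (a _).1) (a ⟨x, l x.2⟩).2)
  refine (Nat.le_of_dvd (Nat.pos_of_ne_zero index_ne_zero_of_finite) (index_dvd_of_le this)).trans ?_
  rw [index_ker]; exact card_le_card_group _
theorem syl (l : R ≤ 𝐂₁(t)) (two : IsPGroup 2 R) : ∃ c ∈ ρ.range, cj[c] R ≤ 𝐍(im ρ (UT σ m)) ∧
    (zpowers t ⊔ im ρ (UT σ m)).relIndex (cj[c] R) ≤ Nat.card (K ≃+* K) :=
  let ⟨c, i, n⟩ := Ud.Sx.cj_norm (d.sylL ρ) two (l.trans f.ct)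
  ⟨c, i, n, f.idx d (cj_le_of_mem (f.Lc i) l) (isPGroup_cj c two) n⟩
end F0

end CF.Sq
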