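import Cfsg.Agent.Sq.W
import Cfsg.Agent.Sq.T1

/-! Elements conjugating `s` to `s a`: validity and the first normalisations. -/

set_option autoImplicit false
set_option linter.unusedSectionVars false
set_option linter.unusedVariables false

namespace CF.Sq

open Cfsg Subgroup Equiv CF.Loc CF.LX CF.Ud Module TI
open scoped commutatorElement

variable {K : Type} [Field K] [Fintype K] [CharP K 2] {m : ℕ} {σ θ : K ≃+* K} {a b c γ : K} {g : Perm (Fin m → K)}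
  {X : Type*} [Group X] [Finite X] {ρ : SU σ m →* X} {s x x' z : X} {u v n u' v' : Fin m → K}
  {β β' : (Fin m → K) → (Fin m → K) → X} {τ : TI σ m}

theorem Pr.cj (i : Sem σ θ g) (p : Pr σ u v) : Pr σ (g u) (g v) := ⟨li2.2 fun a b e => by
  have := li2.1 p.1 (θ.symm a) (θ.symm b) (g.injective (by simpa [i.add, i.smul, i.zero] using e))
  exact ⟨by simpa using this.1, by simpa using this.2⟩, by rw [i.form, p.2, map_zero]⟩
theorem Yy_cj (i : g ∈ SU σ m) {h : Perm (Fin m → K)} (j : h ∈ Yy σ (g u) (g v)) : g⁻¹ * h * g ∈ Yy σ u v :=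
  have j := mem_Yy.1 j; mem_Yy.2 ⟨mul_mem (mul_mem (inv_mem i) j.1) i, by simp [j.2.1], by simp [j.2.2]⟩
theorem ev_cj (i : g ∈ SU σ m) (d : Sd σ m) (v n : Fin m → K) (a : K) : up ρ g * ev ρ v n a * (up ρ g)⁻¹ = ev ρ (g v) (g n) a := by
  rw [← up_cj i (d.E_SU _ _ _), E_cj1 (su_sem i)]
theorem tv_cj' (i : g ∈ SU σ m) (v : Fin m → K) (a : K) : up ρ g * tv ρ v a * (up ρ g)⁻¹ = tv ρ (g v) a := by
  rw [← up_cj i (tv_SU _ _), tv_cj1 (su_sem i)]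
theorem F0.cs (f : F0 ρ s) (g : Perm (Fin m → K)) : Commute s (up ρ g) := (f.cm _ (up_range g)).symm
theorem F0.cw (f : F0 ρ s) (D : τ.N) : Commute s (wl ρ D) := f.cs _
theorem F0.si (f : F0 ρ s) : s⁻¹ = s := inv_eq_of_mul_eq_one_right f.t2

variable (ρ) in
/-- the elements of `WX ⟨u, v⟩` -/
noncomputable def e3 (u v : Fin m → K) (a b c : K) : X := tv ρ u a * tv ρ v b * ev ρ u (c • v) 0
theorem e3_eq (u v : τ.T) (a b c : K) : e3 ρ u.1 v.1 a b c = wl ρ (a • qd u + b • qd v + c • sy u v) := by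
  rw [e3, tv_eq, tv_eq, ev_eq', wl_mul, wl_mul]
theorem e3_cj (d : Sd σ m) (i : g ∈ SU σ m) (u v : Fin m → K) (a b c : K) :
    up ρ g * e3 ρ u v a b c * (up ρ g)⁻¹ = e3 ρ (g u) (g v) a b c := by
  rw [e3, conj_mul_conj, conj_mul_conj, tv_cj' i, tv_cj' i, ev_cj i d, (su_sem i).smul1]; rfl

/-- `x` centralises the stabiliser of `u, v` and twists `s` by `E u n 0` -/
structure Vl (ρ : SU σ m →* X) (s : X) (u v n : Fin m → K) (x : X) : Prop where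
  cy : x ∈ 𝐂(im ρ (Yy σ u v))
  tw : x * s * x⁻¹ = s * ev ρ u n 0

namespace Vl
theorem cm (k : Vl ρ s u v n x) (i : g ∈ Yy σ u v) : Commute x (up ρ g) := (k.cy _ (up_im i i.1.1)).symm
theorem cw {u v : τ.T} (k : Vl ρ s u.1 v.1 n x) (D : τ.N) : Commute x (wl ρ D) := k.cm (pe_Yy ..)
theorem cj (d : Sd σ m) (f : F0 ρ s) (k : Vl ρ s u v n x) (i : g ∈ SU σ m) :
    Vl ρ s (g u) (g v) (g n) (up ρ g * x * (up ρ g)⁻¹) := ⟨fun y j0 => by
  obtain ⟨h, j, j', rfl⟩ := mem_im.1 j0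
  have := (k.cm (Yy_cj i j)).eq
  rw [up_mul (mul_mem (inv_mem i) j') i, up_mul (inv_mem i) j', up_inv i] at this
  calc _ = up ρ g * ((up ρ g)⁻¹ * up ρ h * up ρ g * x) * (up ρ g)⁻¹ := by group
    _ = _ := by rw [← this]; group, by
  have := conj_eq_iff.2 (f.cs g).symm.eq
  calc _ = up ρ g * x * ((up ρ g)⁻¹ * (up ρ g * s * (up ρ g)⁻¹) * up ρ g) * x⁻¹ * (up ρ g)⁻¹ := by rw [this]; group
    _ = up ρ g * (x * s * x⁻¹) * (up ρ g)⁻¹ := by group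
    _ = _ := by rw [k.tw, conj_mul_conj, this, ev_cj i d]⟩
theorem mono (k : Vl ρ s u v n x) (l : Yy σ u' v' ≤ Yy σ u v) {n' : Fin m → K} (e : E σ u n 0 = E σ u' n' 0) : Vl ρ s u' v' n' x :=
  ⟨fun y j0 => by obtain ⟨h, j, j', rfl⟩ := mem_im.1 j0; exact (k.cm (l j)).symm, by rw [k.tw, ev, e]⟩
theorem diff (d : Sd σ m) (f : C0 ρ s) (p : Pr σ u v) (k : Vl ρ s u v n x) (k' : Vl ρ s u v n x') :
    ∃ a b c, x' = x * e3 ρ u v a b c ∨ x' = x * (s * e3 ρ u v a b c) := by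
  obtain ⟨a, b, c, e⟩ := f.cyy d p (z := x⁻¹ * x') (mem_c1.2 (conj_eq_iff.1 (by
    rw [show x⁻¹ * x' * s * (x⁻¹ * x')⁻¹ = x⁻¹ * (x' * s * x'⁻¹) * x by group, k'.tw, ← k.tw]; group)))
    (mul_mem (inv_mem k.cy) k'.cy)
  exact ⟨a, b, c, e.imp (fun e => by rw [e3, ← e]; simp) fun e => by rw [e3, ← e]; simp⟩
theorem xs {u v n : τ.T} (f : F0 ρ s) (k : Vl ρ s u.1 v.1 n.1 x) : x * s = s * x * wl ρ (sy u n) := by
  rw [mul_assoc, (k.cw _).eq, ← mul_assoc, ← ev_eq0, ← k.tw]; simp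
theorem sx {u v n : τ.T} (f : F0 ρ s) (k : Vl ρ s u.1 v.1 n.1 x) : s * x = x * s * wl ρ (sy u n) := by
  rw [k.xs f, mul_assoc, wl_sq, mul_one]
theorem sq1 {u v n : τ.T} (k : Vl ρ s u.1 v.1 n.1 x) (D : τ.N) : x * wl ρ D * (x * wl ρ D) = x * x := by
  rw [mul_assoc, ← mul_assoc (wl ρ D), ← (k.cw D).eq, mul_assoc, wl_sq, mul_one]
theorem sq2 {u v n : τ.T} (f : F0 ρ s) (k : Vl ρ s u.1 v.1 n.1 x) (D : τ.N) :
    x * (s * wl ρ D) * (x * (s * wl ρ D)) = x * x * wl ρ (sy u n) := by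
  have h1 := (k.cw D).eq; have h2 := (f.cw D).eq; have h3 := (f.cw (sy u n)).eq
  calc _ = x * (s * (wl ρ D * x)) * s * wl ρ D := by group
    _ = x * (s * x) * (wl ρ D * s) * wl ρ D := by rw [← h1]; group
    _ = x * x * (s * wl ρ (sy u n) * s) * (wl ρ D * wl ρ D) := by rw [k.sx f, ← h2]; group
    _ = _ := by rw [h3, wl_sq, mul_assoc _ s, f.t2]; simp
theorem mul_w {u v n : τ.T} (f : F0 ρ s) (k : Vl ρ s u.1 v.1 n.1 x) {y : X} (i : y ∈ 𝐂(im ρ (Yy σ u.1 v.1))) (j : Commute s y) :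
    Vl ρ s u.1 v.1 n.1 (x * y) := ⟨mul_mem k.cy i, by
  rw [show x * y * s * (x * y)⁻¹ = x * (y * s * y⁻¹) * x⁻¹ by group, conj_eq_iff.2 j.symm.eq, k.tw]⟩
end Vl

theorem sy_ne {u v : τ.T} (l : LinearIndependent K ![u.1, v.1]) (c0 : c ≠ 0) : c • sy u v ≠ 0 := fun e =>
  c0 (c3 l (a := 0) (b := 0) (by simpa using e)).2.2
theorem e3_cen (d : Sd σ m) (e : hf σ u v = 0) (a b c : K) : e3 ρ u v a b c ∈ 𝐂(im ρ (Yy σ u v)) := fun y j0 => by
  obtain ⟨h, j, j', rfl⟩ := mem_im.1 j0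
  have j := mem_Yy.1 j
  exact conj_eq_iff.1 (by rw [e3_cj d j', j.2.1, j.2.2])
theorem e3_cs (f : F0 ρ s) (a b c : K) : Commute s (e3 ρ u v a b c) := ((f.cs _).mul_right (f.cs _)).mul_right (f.cs _)

/-- involutions valid for the same data differ by an element of `WX ⟨u, v⟩` -/
theorem Vl.diff1 (d : Sd σ m) (f : C0 ρ s) (p : Pr σ u v) (c0 : c ≠ 0) (k : Vl ρ s u v (c • v) x) (k' : Vl ρ s u v (c • v) x')
    (e : x * x = x' * x') : ∃ a b c, x' = x * e3 ρ u v a b c := by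
  obtain ⟨τ, u, v, rfl, rfl⟩ := d.ti2 p.2
  obtain ⟨a, b, c', h | h⟩ := k.diff d f p k'
  · exact ⟨a, b, c', h⟩
  rw [h, e3_eq, Vl.sq2 (n := c • v) f.toF0 k, left_eq_mul, sy_sm_r, ← wl_zero (ρ := ρ) (τ := τ)] at e
  exact (sy_ne p.1 c0 (wl_inj f.ker e)).elim

/-- equivariant families -/
def Eq2 (ρ : SU σ m →* X) (β : (Fin m → K) → (Fin m → K) → X) : Prop :=
  ∀ g ∈ SU σ m, ∀ u v, Pr σ u v → up ρ g * β u v * (up ρ g)⁻¹ = β (g u) (g v)

theorem Eq2.e3 (d : Sd σ m) (a b c : K) : Eq2 ρ fun u v => e3 ρ u v a b c := fun _ i _ _ _ => e3_cj d i ..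
theorem Eq2.mul (k : Eq2 ρ β) (k' : Eq2 ρ β') : Eq2 ρ fun u v => β u v * β' u v := fun g i u v p => by
  rw [conj_mul_conj, k g i u v p, k' g i u v p]
theorem Eq2.all (d : Sd σ m) (k : Eq2 ρ β) (k' : Eq2 ρ β') (p : Pr σ u v) (e : β u v = β' u v) (p' : Pr σ u' v') : β u' v' = β' u' v' := by
  obtain ⟨g, i, rfl, rfl⟩ := d.wpr p p'
  rw [← k g i u v p, ← k' g i u v p, e]
theorem Eq2.unif (d : Sd σ m) (f : C0 ρ s) (c0 : c ≠ 0) (k : Eq2 ρ β) (k' : Eq2 ρ β') (l : ∀ u v, Pr σ u v → Vl ρ s u v (c • v) (β u v))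
    (l' : ∀ u v, Pr σ u v → Vl ρ s u v (c • v) (β' u v)) (e : ∀ u v, Pr σ u v → β u v * β u v = β' u v * β' u v) :
    ∃ a b c, ∀ u v, Pr σ u v → β' u v = β u v * Sq.e3 ρ u v a b c :=
  have ⟨a, b, c, h⟩ := (l _ _ d.pr01).diff1 d f d.pr01 c0 (l' _ _ d.pr01) (e _ _ d.pr01)
  ⟨a, b, c, fun _ _ p => k'.all d (k.mul (.e3 d a b c)) d.pr01 h p⟩

/-- equivariant valid families -/
structure B1 (ρ : SU σ m →* X) (s : X) (β : (Fin m → K) → (Fin m → K) → X) : Prop where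
  vl : ∀ u v, Pr σ u v → Vl ρ s u v v (β u v)
  eqv : Eq2 ρ β

theorem C0.b1 (d : Sd σ m) (f : C0 ρ s) (e : Xb ρ s z) : ∃ β, B1 ρ s β := by
  have k : Vl ρ s (bv 0) (bv 1) (bv 1) z := ⟨e.cy, e.ta⟩
  choose! g g1 g2 g3 using fun u v (p : Pr σ u v) => d.wpr d.pr01 p
  refine ⟨fun u v => up ρ (g u v) * z * (up ρ (g u v))⁻¹, fun u v p => by
    simpa only [g2 u v p, g3 u v p] using k.cj d f.toF0 (g1 u v p), fun h i u v p => ?_⟩
  have p' := p.cj (su_sem i)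
  have a := g1 u v p; have a' := g1 _ _ p'
  have := (k.cm (g := (g (h u) (h v))⁻¹ * h * g u v) (mem_Yy.2 ⟨mul_mem (mul_mem (inv_mem a') i) a,
    by simp [g2 u v p, Equiv.symm_apply_eq, g2 _ _ p'], by simp [g3 u v p, Equiv.symm_apply_eq, g3 _ _ p']⟩)).eq
  rw [up_mul (mul_mem (inv_mem a') i) a, up_mul (inv_mem a') i, up_inv a'] at this
  calc _ = up ρ (g (h u) (h v)) * ((up ρ (g (h u) (h v)))⁻¹ * up ρ h * up ρ (g u v) * z) * (up ρ (g u v))⁻¹ * (up ρ h)⁻¹ := by group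
    _ = _ := by rw [← this]; group

theorem Yy_le (e₁ : u' = a • u + b • v) {a' b' : K} (e₂ : v' = a' • u + b' • v) : Yy σ u v ≤ Yy σ u' v' := fun g i =>
  have i := mem_Yy.1 i; have l := su_sem i.1
  mem_Yy.2 ⟨i.1, by simp [e₁, l.add, l.smul1, i.2.1, i.2.2], by simp [e₂, l.add, l.smul1, i.2.1, i.2.2]⟩

namespace B1
variable (d : Sd σ m) (f : C0 ρ s) (k : B1 ρ s β)
include d f k

theorem mul_s : B1 ρ s fun u v => β u v * s := ⟨fun u v p => by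
  obtain ⟨τ, u, v, rfl, rfl⟩ := d.ti2 p.2
  exact (k.vl _ _ p).mul_w f.toF0 (centralizer_anti im_le f.cm) (.refl s), fun g i u v p => by
  rw [conj_mul_conj, k.eqv g i u v p, conj_eq_iff.2 (f.cs g).symm.eq]⟩
theorem mul_e (a b c : K) : B1 ρ s fun u v => β u v * e3 ρ u v a b c := ⟨fun u v p => by
  obtain ⟨τ, u, v, rfl, rfl⟩ := d.ti2 p.2
  exact (k.vl _ _ p).mul_w f.toF0 (e3_cen d p.2 a b c) (e3_cs f.toF0 ..), k.eqv.mul (.e3 d a b c)⟩
theorem shr (p : Pr σ u v) (c : K) : Pr σ u (v + c • u) ∧ Vl ρ s u v v (β u (v + c • u)) := by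
  have p' : Pr σ u (v + c • u) := ⟨li2.2 fun a b e => by have := li2.1 p.1 (a + b * c) b (by rw [← e]; module); clear * - this; grind,
    by simp [p.2, d.iso]⟩
  exact ⟨p', (k.vl _ _ p').mono (Yy_le (a := 1) (b := 0) (by simp) (a' := c) (b' := 1) (by simp [add_comm]))
    (d.E_shift (d.sw p.2) c 0)⟩
theorem swp (p : Pr σ u v) : Vl ρ s u v v (β v u) := (k.vl _ _ (p.symm d)).mono Yy_comm.le (d.E_swap (d.sw p.2))

theorem sq : ∃ γ : K, ∀ (τ : TI σ m) (u v : τ.T), Pr σ u.1 v.1 → β u v * β u v = wl ρ (γ • sy u v) := by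
  obtain ⟨τ, u, v, h1, h2⟩ := d.ti2 d.pr01.2
  have p := d.pr01
  rw [h1, h2] at p
  have l := k.vl _ _ p
  obtain ⟨a, b, c, e⟩ : ∃ a b c, β u v * β u v = e3 ρ u.1 v.1 a b c := by
    obtain ⟨a, b, c, e | e⟩ := f.cyy d p (z := β u v * β u v) (mem_c1.2 (by
      rw [mul_assoc, l.xs f.toF0, ← mul_assoc, ← mul_assoc, l.xs f.toF0, mul_assoc, mul_assoc,
        ← mul_assoc (wl ρ _), ← (l.cw (sy u v)).eq, mul_assoc (β _ _), wl_sq, mul_one, mul_assoc])) (mul_mem l.cy l.cy)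
    · exact ⟨a, b, c, e⟩
    have : β u v * (β u v * β u v) = β u v * β u v * β u v := (mul_assoc ..).symm
    rw [e, ← e3, e3_eq, ← mul_assoc, l.xs f.toF0, mul_assoc s, mul_assoc s, mul_assoc s, ← (l.cw _).eq, mul_assoc, mul_right_inj,
      mul_right_inj, mul_eq_right, ← wl_zero (ρ := ρ) (τ := τ)] at this
    exact (sy_ne p.1 one_ne_zero (by simpa using wl_inj f.ker this)).elim
  have all := fun u' v' => (k.eqv.mul k.eqv).all d (.e3 d a b c) p e (u' := u') (v' := v')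
  have key : ∀ {x} (D : τ.N), Vl ρ s u.1 v.1 v.1 x → x * x = wl ρ D → ∃ r : K, D = a • qd u + b • qd v + r • sy u v := fun D l' h => by
    obtain ⟨_, _, _, rfl | rfl⟩ := l.diff d f p l' <;> rw [e3_eq] at h
    · rw [l.sq1, e, e3_eq] at h; exact ⟨c, (wl_inj f.ker h).symm⟩
    · rw [l.sq2 f.toF0, e, e3_eq, wl_mul] at h; exact ⟨c + 1, by rw [← wl_inj f.ker h]; module⟩
  obtain ⟨p1, l1⟩ := k.shr d f p 1
  obtain ⟨p2, l2⟩ := k.shr d f (p.symm d) 1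
  obtain ⟨r, h⟩ := key _ l1 ((all _ _ p1).trans (e3_eq u (v + (1 : K) • u) ..))
  have b0 : b = 0 := (c3 p.1 (b := 0) (c := b + c + r) (by
    rw [← nn (a • qd u + b • qd v + r • sy u v)]; nth_rw 1 [← h]; simp only [sy_comm v u, qd_add, qd_sm, sy_add_r, sy_add_l, sy_sm_l, sy_sm_r, sy_self]; clear * -; match_scalars <;> grind)).1
  obtain ⟨r, h⟩ := key _ ((k.swp d f p2).mono (Yy_le (a := 0) (b := 1) (by simp) (a' := 1) (b' := 1) (by simp)) (by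
    rw [d.E_shift p.2, d.E_swap p.2])) ((all _ _ (p2.symm d)).trans (e3_eq (u + (1 : K) • v) v ..))
  have a0 : a = 0 := (c3 p.1 (a := 0) (c := a + c + r) (by
    rw [← nn (a • qd u + b • qd v + r • sy u v)]; nth_rw 1 [← h]; simp only [sy_comm v u, qd_add, qd_sm, sy_add_r, sy_add_l, sy_sm_l, sy_sm_r, sy_self]; clear * -; match_scalars <;> grind)).2.1
  exact ⟨c, fun τ u v p => by rw [all _ _ p, e3_eq]; simp [a0, b0]⟩

end B1

end CF.Sq
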