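import Cfsg.Agent.Sq.P1

/-! The doubled elements of type `a₂`: additivity. -/

set_option autoImplicit false
set_option linter.unusedSectionVars false
set_option linter.unusedVariables false

namespace CF.Sq

open Cfsg Subgroup Equiv CF.Loc CF.LX CF.Ud Module TI
open scoped commutatorElement

variable {K : Type} [Field K] [Fintype K] [CharP K 2] {m : ℕ} {σ θ : K ≃+* K} {a b c γ a₁ a₂ a₃ b₁ b₂ b₃ : K} {g : Perm (Fin m → K)}
  {X : Type*} [Group X] [Finite X] {ρ : SU σ m →* X} {s x x' z : X} {u v w n u' v' w' : Fin m → K}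
  {β β' : (Fin m → K) → (Fin m → K) → X} {τ : TI σ m}

variable (ρ) in
/-- the elements of `WX ⟨u, v, w⟩` -/
noncomputable def e6 (u v w : Fin m → K) (a₁ a₂ a₃ b₁ b₂ b₃ : K) : X :=
  tv ρ u a₁ * tv ρ v a₂ * tv ρ w a₃ * ev ρ u (b₁ • v) 0 * ev ρ u (b₂ • w) 0 * ev ρ v (b₃ • w) 0
theorem e6_eq (u v w : τ.T) (a₁ a₂ a₃ b₁ b₂ b₃ : K) : e6 ρ u.1 v.1 w.1 a₁ a₂ a₃ b₁ b₂ b₃ =
    wl ρ (a₁ • qd u + a₂ • qd v + a₃ • qd w + b₁ • sy u v + b₂ • sy u w + b₃ • sy v w) := by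
  simp only [e6, tv_eq, ev_eq', wl_mul]
theorem e6_cj (d : Sd σ m) (i : g ∈ SU σ m) (u v w : Fin m → K) (a₁ a₂ a₃ b₁ b₂ b₃ : K) :
    up ρ g * e6 ρ u v w a₁ a₂ a₃ b₁ b₂ b₃ * (up ρ g)⁻¹ = e6 ρ (g u) (g v) (g w) a₁ a₂ a₃ b₁ b₂ b₃ := by
  simp only [e6, conj_mul_conj, tv_cj' i, ev_cj i d, (su_sem i).smul1]
theorem C0.cx3 (d : Sd σ m) (f : C0 ρ s) {u v w : τ.T} (l : LinearIndependent K ![u.1, v.1]) (i : z ∈ 𝐂₁(s))
    (e : ∀ g ∈ SU σ m, g u = u → g v = v → g w = w → z * up ρ g = up ρ g * z) : ∃ a₁ a₂ a₃ b₁ b₂ b₃,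
      z = e6 ρ u.1 v.1 w.1 a₁ a₂ a₃ b₁ b₂ b₃ ∨ z = s * e6 ρ u.1 v.1 w.1 a₁ a₂ a₃ b₁ b₂ b₃ := by
  have le : Submodule.span K {u.1, v.1, w.1} ≤ τ.T := Submodule.span_le.2 (by rintro _ (rfl | rfl | rfl) <;> simp)
  obtain ⟨y, j, h⟩ := f.cx d (T := Submodule.span K {u.1, v.1, w.1}) (fun _ a _ b => τ.l _ (le a) _ (le b)) (by
    have := finrank_span_eq_card l
    rw [Matrix.range_cons_cons_empty] at this
    exact this.ge.trans (Submodule.finrank_mono (Submodule.span_mono (by simp [Set.insert_subset_insert])))) i fun y j n a h =>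
    have k := fun x (i : x ∈ ({u.1, v.1, w.1} : Set _)) => E_fix (τ.l _ (le (Submodule.subset_span i)) _ (le j)) (h _ (Submodule.subset_span i)) a
    e _ (d.E_SU _ _ _) (k _ (by simp)) (k _ (by simp)) (k _ (by simp))
  obtain ⟨a₁, a₂, a₃, b₁, b₂, b₃, rfl⟩ := d.W3 (pp u v) (pp u w) (pp v w) j
  refine ⟨a₁, a₂, a₃, b₁, b₂, b₃, ?_⟩
  simpa only [e6_eq, tv_eq', E_eq', ← pe_add, wl] using h

/-- independent triples in a totally isotropic subspace -/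
abbrev L3 (u v w : τ.T) : Prop := LinearIndependent K ![u.1, v.1, w.1]
theorem L3.p12 {u v w : τ.T} (l : L3 u v w) : Pr σ u.1 v.1 := pr (li2.2 fun a b e => by have := li3.1 l a b 0 (by simpa using e); grind)
theorem L3.swap {u v w : τ.T} (l : L3 u v w) : L3 u w v := li3.2 fun a b c e => by have := li3.1 l a c b (by rw [← e]; module); grind
theorem L3.rot {u v w : τ.T} (l : L3 u v w) : L3 v w u := li3.2 fun a b c e => by have := li3.1 l c a b (by rw [← e]; module); grind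
theorem L3.sh {u v w : τ.T} (l : L3 u v w) (p q : K) : L3 u v (w + p • u + q • v) := li3.2 fun a b c e => by
  have := li3.1 l (a + c * p) (b + c * q) c (by rw [← e]; simp; module); grind
theorem L3.ad {u v w : τ.T} (l : L3 u v w) : L3 u v (v + w) := by simpa [add_comm] using l.sh 0 1
theorem L3.sm {u v w : τ.T} (l : L3 u v w) (c0 : c ≠ 0) : L3 u v (c • w) := li3.2 fun a b e h => by
  have := li3.1 l a b (e * c) (by rw [← h]; simp; module); grind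
theorem L3.p13 {u v w : τ.T} (l : L3 u v w) : Pr σ u.1 w.1 := l.swap.p12
theorem L3.p1 {u v w : τ.T} (l : L3 u v w) : Pr σ u.1 (v.1 + w.1) := l.ad.p13
theorem L3.all {u v w : τ.T} {τ' : TI σ m} {u' v' w' : τ'.T} (l : L3 u v w) (l' : L3 u' v' w') :
    ∃ g ∈ SU σ m, g u = u' ∧ g v = v' ∧ g w = w' := τ.d.wit3 l l' (by simp [TI.pp]) (by simp [TI.pp]) (by simp [TI.pp])
theorem wz (k : Ker ρ) {D D' : τ.N} (e : wl ρ D = wl ρ D') : D + D' = 0 := wl_inj k e ▸ nn _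
theorem vv' (v : τ.T) : v + v = 0 := Subtype.ext (vv _)

variable (ρ β) in
/-- the defect of additivity -/
def Dl (a₁ a₂ a₃ b₁ b₂ b₃ : K) : Prop := ∀ (τ : TI σ m) (u v w : τ.T), L3 u v w → β u v * β u w =
  β u (v + w) * wl ρ (a₁ • qd u + a₂ • qd v + a₃ • qd w + b₁ • sy u v + b₂ • sy u w + b₃ • sy v w)

namespace B1
variable (d : Sd σ m) (f : C0 ρ s) (k : B1 ρ s β)
include d f k

theorem dl0 {u v w : τ.T} (l : L3 u v w) (e : β u v * β u w = β u (v + w) * e6 ρ u.1 v.1 w.1 a₁ a₂ a₃ b₁ b₂ b₃) :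
    Dl ρ β a₁ a₂ a₃ b₁ b₂ b₃ := fun τ u' v' w' l' => by
  obtain ⟨g, i, h1, h2, h3⟩ := l.all l'
  rw [← e6_eq, ← h1, ← h2, ← h3, ← (su_sem i).add, ← k.eqv g i _ _ l.p12, ← k.eqv g i _ _ l.p13, ← k.eqv g i _ _ l.p1, ← e6_cj d i,
    ← conj_mul_conj, ← conj_mul_conj, e]
theorem cw {u v : τ.T} (p : Pr σ u.1 v.1) (D : τ.N) : Commute (β u v) (wl ρ D) := (k.vl _ _ p).cw D
theorem dl {u v w : τ.T} (l : L3 u v w) : ∃ β a₁ a₂ a₃ b₁ b₂ b₃, B1 ρ s β ∧ Dl ρ β a₁ a₂ a₃ b₁ b₂ b₃ := by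
  have l1 := k.vl _ _ l.p12; have l2 := k.vl _ _ l.p13; have l3 : Vl ρ s u.1 (v + w).1 (v + w).1 (β u (v + w)) := k.vl _ _ l.p1
  obtain ⟨a₁, a₂, a₃, b₁, b₂, b₃, e⟩ := f.cx3 d (w := w) l.p12.1 (z := (β u (v + w))⁻¹ * (β u v * β u w)) (mem_c1.2 (by
    rw [mul_assoc, mul_assoc, l2.xs f.toF0, mul_assoc s, (l2.cw _).eq, ← mul_assoc (β _ _), l1.xs f.toF0, inv_mul_eq_iff_eq_mul,
      ← mul_assoc (β _ (_ + _)), l3.xs f.toF0, mul_assoc s (β _ (_ + _)), (l3.cw _).eq, sy_add_r, wl_add, mul_assoc s (β _ _), (l1.cw _).eq]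
    simp only [mul_assoc, Submodule.coe_add, mul_inv_cancel_left]
    rw [← mul_assoc (β _ _), (l1.cw _).eq, mul_assoc])) fun g i h1 h2 h3 =>
      ((l3.cm (mem_Yy.2 ⟨i, h1, by simp [(su_sem i).add, h2, h3]⟩)).inv_left.mul_left
        ((l1.cm (mem_Yy.2 ⟨i, h1, h2⟩)).mul_left (l2.cm (mem_Yy.2 ⟨i, h1, h3⟩)))).eq
  rcases e with e | e <;> rw [inv_mul_eq_iff_eq_mul] at e
  · exact ⟨β, _, _, _, _, _, _, k, k.dl0 d f l e⟩
  refine ⟨_, a₁, a₂, a₃, b₁, b₂ + 1, b₃, k.mul_s d f, (k.mul_s d f).dl0 d f l ?_⟩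
  rw [mul_assoc, ← mul_assoc s, l2.sx f.toF0, mul_assoc _ (wl ρ _), ← (f.cw _).eq, mul_assoc _ s, ← mul_assoc s, f.t2,
    one_mul, ← mul_assoc, e, e6_eq, e6_eq, mul_assoc, mul_assoc, mul_assoc, wl_mul]
  congr 3; module

theorem com (q : ∀ (τ : TI σ m) (u v : τ.T), Pr σ u.1 v.1 → β u v * β u v = wl ρ (γ • sy u v)) {u v w : τ.T} (l : L3 u v w) {D : τ.N}
    (e : β u v * β u w = β u (v + w) * wl ρ D) : β u v * β u w = β u w * β u v := by
  have l3 : Vl ρ s u.1 (v + w).1 (v + w).1 (β u (v + w)) := k.vl _ _ l.p1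
  have := l3.sq1 D
  have q' : β u (v + w) * β u (v + w) = _ := q _ u (v + w) l.p1
  rw [q', ← e, sy_add_r, smul_add, wl_add, ← q _ _ _ l.p12, ← q _ _ _ l.p13] at this
  simp only [mul_assoc, mul_right_inj] at this
  rw [← mul_assoc, ← mul_assoc, mul_left_inj] at this
  exact this.symm

theorem nrm (q : ∀ (τ : TI σ m) (u v : τ.T), Pr σ u.1 v.1 → β u v * β u v = wl ρ (γ • sy u v)) (e : Dl ρ β a₁ a₂ a₃ b₁ b₂ b₃)
    {u v w : τ.T} (l : L3 u v w) : Dl ρ (fun u v => β u v * e3 ρ u v a₁ b₃ 0) 0 0 0 γ γ 0 := by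
  have h1 := e _ _ _ _ l
  have h2 := e _ _ _ _ l.swap
  rw [← k.com d f q l h1, h1, add_comm w.1, mul_right_inj] at h2
  have h3 := e _ _ _ _ l.ad
  rw [Submodule.coe_add, ← add_assoc, vv, zero_add, eq_mul_inv_iff_mul_eq.2 h1.symm, wl_inv, ← mul_assoc, ← mul_assoc, q _ _ _ l.p12,
    ← (k.cw d f l.p13 _).eq, mul_assoc, wl_mul, mul_right_inj] at h3
  have c2 := c6 l (a₁ := 0) (a₂ := a₂ + a₃) (a₃ := a₂ + a₃) (b₁ := b₁ + b₂) (b₂ := b₁ + b₂) (b₃ := 0) (by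
    rw [← wz f.ker h2, sy_comm w v]; clear * -; match_scalars <;> grind)
  have c3 := c6 l (a₁ := 0) (a₂ := a₃) (a₃ := 0) (b₁ := γ + b₂) (b₂ := 0) (b₃ := a₃) (by
    rw [← wz f.ker h3]; simp only [qd_add, sy_add_r, sy_self]; clear * -; match_scalars <;> grind)
  intro τ u v w l
  have := e _ _ _ _ l
  rw [← Submodule.coe_add] at this ⊢
  simp only [e3_eq]
  rw [mul_assoc, ← mul_assoc (wl ρ _), ← (k.cw d f l.p13 _).eq, mul_assoc, wl_mul, ← mul_assoc, this, mul_assoc, mul_assoc, wl_mul, wl_mul]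
  congr 2; simp only [qd_add, sy_add_r, sy_self]; clear * - c2 c3; match_scalars <;> grind

theorem gam (e : Dl ρ β 0 0 0 γ γ 0) {u v w y : τ.T} (l1 : L3 u v w) (l2 : L3 u (v + w) y) (l3 : L3 u w y) (l4 : L3 u v (w + y))
    (l5 : LinearIndependent K ![u.1, (v + y).1]) : γ = 0 := by
  have h := mul_assoc (β u v) (β u w) (β u y)
  have h2 := e _ _ _ _ l2; have h4 := e _ _ _ _ l4
  simp only [Submodule.coe_add] at h2 h4
  rw [e _ _ _ _ l1, e _ _ _ _ l3, mul_assoc, ← (k.cw d f l3.p13 _).eq, ← mul_assoc, ← mul_assoc, h2, h4, add_assoc, mul_assoc, mul_assoc,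
    wl_mul, wl_mul, mul_right_inj] at h
  by_contra c0
  exact sy_ne l5 c0 (by rw [← wz f.ker h]; simp only [qd_add, sy_add_r, sy_add_l]; clear * -; match_scalars <;> grind)
end B1

/-- additive families of involutions -/
structure B2 (ρ : SU σ m →* X) (s : X) (β : (Fin m → K) → (Fin m → K) → X) : Prop extends B1 ρ s β where
  sq : ∀ u v, Pr σ u v → β u v * β u v = 1
  ad : ∀ (τ : TI σ m) (u v w : τ.T), L3 u v w → β u (v + w) = β u v * β u w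

theorem C0.b2 (d : Sx σ m) (f : C0 ρ s) (e : Xb ρ s z) : ∃ β, B2 ρ s β := by
  obtain ⟨τ, u, v, w, l, h⟩ := d.ex4
  have d := d.toSd
  obtain ⟨β, k⟩ := f.b1 d e
  obtain ⟨β, a₁, a₂, a₃, b₁, b₂, b₃, k, e⟩ := k.dl d f l
  obtain ⟨γ, q⟩ := k.sq d f
  have e := k.nrm d f q e l
  have k' := k.mul_e d f a₁ b₃ 0
  have g0 : γ = 0 := by
    rcases h with ⟨c, c0, c1⟩ | ⟨y, h⟩
    · exact k'.gam d f e (y := c • v) l (((L3.ad l).swap.sm c0)) ((L3.swap l).sm c0) (by simpa using L3.sh l 0 c)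
        (li2.2 fun a b e => by have := li3.1 l a (b * (c + 1)) 0 (by rw [← e]; simp; module); clear * - this c1; grind)
    · exact k'.gam d f e (y := y) l (li3.2 fun a b c e => by have := h a b b c (by rw [← e]; simp; module); tauto)
        (li3.2 fun a b c e => by have := h a 0 b c (by rw [← e]; simp); tauto)
        (li3.2 fun a b c e => by have := h a b c c (by rw [← e]; simp; module); tauto)
        (li2.2 fun a b e => by have := h a b 0 b (by rw [← e]; simp; module); tauto)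
  refine ⟨_, k', fun u v p => ?_, fun τ u v w l => by simpa [g0] using (e τ u v w l).symm⟩
  obtain ⟨τ, u, v, rfl, rfl⟩ := d.ti2 p.2
  rw [e3_eq, (k.vl _ _ p).sq1, q _ _ _ p]; simp [g0]

end CF.Sq
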