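import Cfsg.Agent.Sq.Y1

/-! The centraliser of the root group of type `a₂`: characteristic subgroups. -/

set_option autoImplicit false
set_option linter.unusedSectionVars false
set_option linter.unusedVariables false

namespace CF.Sq.V

open Cfsg Subgroup Equiv CF.Loc CF.LX CF.Ud Module
open CF.Dq (add_eq0)
open scoped commutatorElement

variable {K : Type} [Field K] [Fintype K] [CharP K 2] {m : ℕ} {σ θ : K ≃+* K} {a c : K}
  {g h r r' l ξ : Perm (Fin m → K)} {u v f k q q' w x y z n n' : Fin m → K} {B : Subgroup (Perm (Fin m → K))}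

/-- the plane -/
abbrev Pl (u v : Fin m → K) : Submodule K (Fin m → K) := Submodule.span K {u, v}

variable (σ) in
/-- the root group -/
abbrev XX (u v : Fin m → K) : Subgroup (Perm (Fin m → K)) := Q σ u ⊓ Q σ v

variable (σ) in
/-- its centraliser -/
abbrev HH (u v : Fin m → K) : Subgroup (Perm (Fin m → K)) := SU σ m ⊓ 𝐂(XX σ u v)

/-- a totally isotropic plane with a dual pair -/
structure Fq (σ : K ≃+* K) (m : ℕ) (u v f k : Fin m → K) : Prop extends Sd σ m where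
  uv : hf σ u v = 0
  fu : hf σ f u = 1
  fv : hf σ f v = 0
  ku : hf σ k u = 0
  kv : hf σ k v = 1

variable (σ) in
/-- maps which are trivial on the middle section, in both directions -/
def H1 (u v : Fin m → K) : Subgroup (Perm (Fin m → K)) where
  carrier := {g | Sem σ 1 g ∧ (∀ x ∈ pp σ (Pl u v), g x + x ∈ Pl u v ∧ g x ∈ pp σ (Pl u v)) ∧
    ∀ x ∈ pp σ (Pl u v), g⁻¹ x + x ∈ Pl u v ∧ g⁻¹ x ∈ pp σ (Pl u v)}
  mul_mem' := fun {g h} a b => by
    have s : ∀ {g h : Perm (Fin m → K)}, (∀ x ∈ pp σ (Pl u v), g x + x ∈ Pl u v ∧ g x ∈ pp σ (Pl u v)) →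
        (∀ x ∈ pp σ (Pl u v), h x + x ∈ Pl u v ∧ h x ∈ pp σ (Pl u v)) → ∀ x ∈ pp σ (Pl u v), (g * h) x + x ∈ Pl u v ∧ (g * h) x ∈ pp σ (Pl u v) :=
      fun {g h} a b x i => ⟨by simpa [add_assoc, ← add_assoc (h x), vv] using add_mem (a _ (b x i).2).1 (b x i).1, (a _ (b x i).2).2⟩
    exact ⟨a.1.mul1 b.1, s a.2.1 b.2.1, by rw [mul_inv_rev]; exact s b.2.2 a.2.2⟩
  one_mem' := ⟨sem_one, fun x i => ⟨by simp [vv], i⟩, fun x i => ⟨by simp [vv], i⟩⟩
  inv_mem' := fun a => ⟨a.1.inv1, a.2.2, a.2.1⟩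

variable (σ) in
/-- the unipotent radical -/
abbrev RR (u v : Fin m → K) : Subgroup (Perm (Fin m → K)) := H1 σ u v ⊓ Yy σ u v

variable (σ) in
/-- projection to the complement -/
def pj (u v f k x : Fin m → K) : Fin m → K := x + (hf σ x f • u + hf σ x k • v)

theorem uP : u ∈ Pl u v := Submodule.subset_span (by simp)
theorem vP : v ∈ Pl u v := Submodule.subset_span (by simp)
theorem cP (a c : K) : a • u + c • v ∈ Pl u v := Submodule.mem_span_pair.2 ⟨a, c, rfl⟩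
theorem Pl_comm : Pl u v = Pl v u := congrArg _ (Set.pair_comm u v)
theorem mN : x ∈ pp σ (Pl u v) ↔ hf σ x u = 0 ∧ hf σ x v = 0 := Geom.mem_perp_pair
theorem H_comm : HH σ u v = HH σ v u := by rw [HH, XX, inf_comm (Q σ u)]
theorem H1_comm : H1 σ u v = H1 σ v u := Subgroup.ext fun g => by
  change _ ∧ _ ↔ _ ∧ _; rw [Pl_comm]
theorem R_comm : RR σ u v = RR σ v u := by rw [RR, H1_comm, Yy_comm]
theorem Yy_P (i : g ∈ Yy σ u v) (j : x ∈ Pl u v) : g x = x := by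
  obtain ⟨_, _, rfl⟩ := Submodule.mem_span_pair.1 j
  rw [(su_sem i.1.1).add, (su_sem i.1.1).smul1, (su_sem i.1.1).smul1, (mem_Yy.1 i).2.1, (mem_Yy.1 i).2.2]
theorem sem_P (s : Sem σ θ ξ) (a : ξ u ∈ Pl u v) (b : ξ v ∈ Pl u v) (j : x ∈ Pl u v) : ξ x ∈ Pl u v := by
  obtain ⟨_, _, rfl⟩ := Submodule.mem_span_pair.1 j
  rw [s.add, s.smul, s.smul]; exact add_mem (Submodule.smul_mem _ _ a) (Submodule.smul_mem _ _ b)
theorem pj_add (x y : Fin m → K) : pj σ u v f k (x + y) = pj σ u v f k x + pj σ u v f k y := by simp only [pj, hf_add_l]; module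
theorem pj_smul (c : K) (x : Fin m → K) : pj σ u v f k (c • x) = c • pj σ u v f k x := by simp only [pj, hf_smul_l]; module
theorem pj_P (x : Fin m → K) : pj σ u v f k x + x ∈ Pl u v := by rw [pj, add_right_comm, vv, zero_add]; exact cP _ _
theorem P_of (e : pj σ u v f k x = 0) : x ∈ Pl u v := by simpa [e] using pj_P (σ := σ) (u := u) (v := v) (f := f) (k := k) x
theorem cgP (a : x + y ∈ Pl u v) (b : y + z ∈ Pl u v) : x + z ∈ Pl u v := by
  simpa [add_assoc, ← add_assoc y, vv] using add_mem a b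

namespace Fq
variable (d : Fq σ m u v f k)
include d

theorem symm : Fq σ m v u k f := ⟨d.toSd, d.sw d.uv, d.kv, d.ku, d.fv, d.fu⟩
theorem coord (j : q ∈ Pl u v) : q = hf σ q f • u + hf σ q k • v := by
  obtain ⟨_, _, rfl⟩ := Submodule.mem_span_pair.1 j
  simp [d.comm u, d.comm v, d.fu, d.fv, d.ku, d.kv]
theorem pr : Pr σ u v := ⟨LinearIndependent.pair_iff.2 fun a c e => ⟨by simpa [d.smr, d.fu, d.fv] using congrArg (hf σ f) e,
  by simpa [d.smr, d.ku, d.kv] using congrArg (hf σ k) e⟩, d.uv⟩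
theorem ti : Ti σ (Pl u v) := fun x a y b => by
  obtain ⟨_, _, rfl⟩ := Submodule.mem_span_pair.1 a
  obtain ⟨_, _, rfl⟩ := Submodule.mem_span_pair.1 b
  simp [d.iso, d.uv, d.sw d.uv]
theorem PN (j : q ∈ Pl u v) : q ∈ pp σ (Pl u v) := d.ti q j
theorem pj0 (j : q ∈ Pl u v) : pj σ u v f k q = 0 := by rw [pj, ← d.coord j, vv]
theorem pj_eq (j : x + y ∈ Pl u v) : pj σ u v f k x = pj σ u v f k y := add_eq0.1 (by rw [← pj_add, d.pj0 j])
theorem pjN (i : x ∈ pp σ (Pl u v)) : pj σ u v f k x ∈ pp σ (Pl u v) := add_mem i (d.PN (cP _ _))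
theorem pjf (x : Fin m → K) : hf σ (pj σ u v f k x) f = 0 := by simp [pj, d.comm u, d.comm v, d.fu, d.fv, CharTwo.add_self_eq_zero]
theorem pjk (x : Fin m → K) : hf σ (pj σ u v f k x) k = 0 := by simp [pj, d.comm u, d.comm v, d.ku, d.kv, CharTwo.add_self_eq_zero]
theorem pjpj (x : Fin m → K) : pj σ u v f k (pj σ u v f k x) = pj σ u v f k x := d.pj_eq (pj_P x)
theorem toN (x : Fin m → K) : x + (hf σ x u • f + hf σ x v • k) ∈ pp σ (Pl u v) :=
  mN.2 ⟨by simp [d.fu, d.ku, CharTwo.add_self_eq_zero], by simp [d.fv, d.kv, CharTwo.add_self_eq_zero]⟩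
theorem hfP (i : x ∈ pp σ (Pl u v)) (e : y + z ∈ Pl u v) : hf σ x y = hf σ x z := by
  have := i _ e; rw [sq_ap, hf_add_r] at this; grind
theorem partN (j : w ∉ Pl u v) : ∃ z ∈ pp σ (Pl u v), hf σ z w = 1 := (d.part j).imp fun _ h => ⟨h.2, h.1⟩
theorem exN : ∃ n ∈ pp σ (Pl u v), n ∉ Pl u v := (d.out2 u v).imp fun _ h => ⟨mN.2 h.2, h.1⟩
theorem E_X (a : q ∈ Pl u v) (b : q' ∈ Pl u v) : E σ q q' 0 ∈ XX σ u v := by
  obtain ⟨a₁, a₂, rfl⟩ := Submodule.mem_span_pair.1 a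
  obtain ⟨b₁, b₂, rfl⟩ := Submodule.mem_span_pair.1 b
  refine (d.mem_QQ d.pr).2 ⟨a₁ * b₂ + a₂ * b₁, Equiv.ext fun x => ?_⟩
  rw [E_ap (d.ok (d.ti _ b _ a) 0), E_ap (d.ok (by simp [d.sw d.uv]) 0)]
  simp only [hf_add_r, d.smr]
  linear_combination (norm := module) vv ((a₁ * b₁ * hf σ x u) • u + (a₂ * b₂ * hf σ x v) • v)
theorem X_W : XX σ u v ≤ WX σ (Pl u v) := fun g i => by
  obtain ⟨c, rfl⟩ := (d.mem_QQ d.pr).1 i
  exact E_W uP (Submodule.smul_mem _ _ vP) 0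
theorem W_N (i : g ∈ WX σ (Pl u v)) (j : x ∈ pp σ (Pl u v)) : g x = x := W_fix i j
theorem W_Y : WX σ (Pl u v) ≤ Yy σ u v := fun g i => mem_Yy.2 ⟨d.mem_SU i.1, d.W_N i (d.PN uP), d.W_N i (d.PN vP)⟩
theorem Y_H : Yy σ u v ≤ HH σ u v := d.Yy_H d.pr
theorem X_H : XX σ u v ≤ HH σ u v := d.X_W.trans (d.W_Y.trans d.Y_H)
theorem X_c (i : g ∈ HH σ u v) (j : h ∈ XX σ u v) : h * g = g * h := mem_centralizer_iff'.1 i.2 h j
theorem Y_cW : Yy σ u v ≤ 𝐂(WX σ (Pl u v)) := fun g i => d.W_cent d.ti (su_sem i.1.1) fun _ => Yy_P i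
theorem H_P (i : g ∈ HH σ u v) (j : x ∈ Pl u v) : g x ∈ Pl u v := by
  obtain ⟨a, c, e⟩ := d.H_span d.pr i
  obtain ⟨a', c', e'⟩ := d.H_span d.symm.pr (H_comm.le i)
  exact sem_P (su_sem i.1) (e ▸ cP _ _) (e' ▸ Pl_comm.le (cP _ _)) j
theorem H_N (i : g ∈ HH σ u v) (j : x ∈ pp σ (Pl u v)) : g x ∈ pp σ (Pl u v) := fun y a => by
  have := j _ (d.H_P (inv_mem i) a)
  rwa [sq_ap, ← (su_sem i.1).form1, Perm.coe_inv, Equiv.apply_symm_apply] at this
theorem mem_H1 (i : g ∈ HH σ u v) (e : ∀ x ∈ pp σ (Pl u v), g x + x ∈ Pl u v) : g ∈ H1 σ u v :=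
  ⟨su_sem i.1, fun x j => ⟨e x j, d.H_N i j⟩, fun x j => ⟨by simpa [add_comm] using e _ (d.H_N (inv_mem i) j), d.H_N (inv_mem i) j⟩⟩
theorem nor (s : Sem σ θ ξ) (a : ξ u ∈ Pl u v) (b : ξ v ∈ Pl u v) : ξ ∈ 𝐍(Yy σ u v) ∧ ξ ∈ 𝐍(XX σ u v) ∧ ξ ∈ 𝐍(HH σ u v) := by
  have h : ξ ∈ 𝐍(XX σ u v) := mem_normalizer_of_conj_mem fun g i => by
    obtain ⟨c, rfl⟩ := (d.mem_QQ d.pr).1 i
    rw [E_cj s, map_zero]; exact d.E_X a (sem_P s a b (Submodule.smul_mem _ _ vP))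
  refine ⟨(inv_mem_iff (x := ξ)).1 (mem_normalizer_of_conj_mem fun g i => mem_Yy.2 ⟨s.inv.su i.1.1, ?_, ?_⟩), h,
    inf_normalizer_le_normalizer_inf ⟨mem_normalizer_of_conj_mem fun g i => s.su i, normalizer_le_normalizer_centralizer _ h⟩⟩
  · simp [Yy_P i a]
  · simp [Yy_P i b]
theorem nY : HH σ u v ≤ 𝐍(Yy σ u v) := fun g i => (d.nor (su_sem i.1) (d.H_P i uP) (d.H_P i vP)).1
theorem nW : HH σ u v ≤ 𝐍(WX σ (Pl u v)) := fun g i => mem_normalizer_of_conj_mem fun _ => W_cj (su_sem i.1) fun _ => d.H_P i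
theorem nH1 : HH σ u v ≤ 𝐍(H1 σ u v ⊓ HH σ u v) := fun g i => mem_normalizer_of_conj_mem fun h j =>
  have e := mul_mem (mul_mem i j.2) (inv_mem i)
  ⟨d.mem_H1 e fun x a => by simpa [(su_sem i.1).add] using d.H_P i (j.1.2.1 _ (d.H_N (inv_mem i) a)).1, e⟩
theorem R_H : RR σ u v ≤ HH σ u v := inf_le_right.trans d.Y_H
theorem nR : HH σ u v ≤ 𝐍(RR σ u v) := fun g i => mem_normalizer_of_conj_mem fun h j =>
  ⟨(conj_mem_of_mem_normalizer (d.nH1 i) ⟨j.1, d.R_H j⟩).1, conj_mem_of_mem_normalizer (d.nY i) j.2⟩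
theorem W_R : WX σ (Pl u v) ≤ RR σ u v := fun g i => ⟨d.mem_H1 (d.Y_H (d.W_Y i)) fun x _ => W_add i x, d.W_Y i⟩
theorem R_N (i : r ∈ RR σ u v) (x : Fin m → K) : r x + x ∈ pp σ (Pl u v) := fun y j => by
  rw [sq_ap, hf_add_l, ← i.1.1.form1 x, Yy_P i.2 j, CharTwo.add_self_eq_zero]
theorem R_mul (i : r ∈ RR σ u v) (j : r' ∈ RR σ u v) (x : Fin m → K) : (r * r') x + x + (r x + x + (r' x + x)) ∈ Pl u v := by
  have := (i.1.2.1 _ (d.R_N j x)).1
  rw [i.1.1.add] at this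
  convert this using 1
  rw [Perm.mul_apply]; linear_combination (norm := module) vv x
theorem R_sq (i : r ∈ RR σ u v) : r * r ∈ WX σ (Pl u v) := ⟨i.1.1.mul1 i.1.1, fun x => by simpa [vv, vsub] using d.R_mul i i x⟩
theorem R_two : IsPGroup 2 (RR σ u v) := isPGroup_iff_forall.2 fun g i =>
  ⟨2, by rw [show 2 ^ 2 = 2 * 2 from rfl, pow_mul, pow_two, pow_two, W_sq d.ti (d.R_sq i)]⟩
/-- congruence modulo `W` -/
theorem R_cg (i : r ∈ RR σ u v) (j : r' ∈ RR σ u v) (a : r f + r' f ∈ Pl u v) (b : r k + r' k ∈ Pl u v) : r * r'⁻¹ ∈ WX σ (Pl u v) := by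
  have e := mul_mem i j
  have : r * r' ∈ WX σ (Pl u v) := ⟨e.1.1, fun x => by
    have h : ∀ y, r y + r' y ∈ Pl u v → (r * r') y + y ∈ Pl u v := fun y a => by
      have := d.R_mul i j y
      rw [add_add_add_comm (r y), vv, add_zero] at this
      have := add_mem this a
      rwa [add_assoc, vv, add_zero] at this
    have := add_mem (e.1.2.1 _ (d.toN x)).1 (add_mem (Submodule.smul_mem _ (hf σ x u) (h f a)) (Submodule.smul_mem _ (hf σ x v) (h k b)))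
    rw [e.1.1.add, e.1.1.add, e.1.1.smul1, e.1.1.smul1] at this
    convert this using 1
    linear_combination (norm := module) -vv (x + hf σ x u • (r * r') f + hf σ x v • (r * r') k + hf σ x u • f + hf σ x v • k)⟩
  simpa [mul_assoc] using mul_mem this (inv_mem (d.R_sq j))
theorem E_H (a : q ∈ Pl u v) (n : Fin m → K) (c : K) : E σ q n c ∈ H1 σ u v ⊓ HH σ u v := by
  by_cases o : Ok σ q n c
  swap; · exact E_junk o ▸ one_mem _
  have e : ∀ x ∈ pp σ (Pl u v), E σ q n c x = x + hf σ x n • q := fun x i => by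
    rw [E_ap o, show hf σ x q = 0 from i q a]; simp
  have i : E σ q n c ∈ HH σ u v := ⟨d.E_SU _ _ _, (d.cQQ d.pr (E_sem ..)).2 (Equiv.ext fun x => by
    have h := o.vn
    have h1 := d.ti q a u uP; have h2 := d.ti q a v vP
    rw [d.coord a, hf_add_l, hf_smul_l, hf_smul_l] at h
    rw [e u (d.PN uP), e v (d.PN vP), E_ap (d.ok (by simp [d.smr, d.iso, d.sw d.uv, h1, d.sw h2]) 0), E_ap (d.ok (d.sw d.uv) 0), d.coord a]
    simp only [hf_add_r, d.smr]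
    linear_combination (norm := module) h • (hf σ x u • v + hf σ x v • u) +
      vv ((hf σ u n * hf σ v n * (hf σ q f * hf σ x u + hf σ q k * hf σ x v)) • (hf σ q f • u + hf σ q k • v) +
        (hf σ v n * hf σ q f * hf σ x u) • u + (hf σ u n * hf σ q k * hf σ x v) • v))⟩
  exact ⟨d.mem_H1 i fun x j => by rw [e x j, add_right_comm, vv, zero_add]; exact Submodule.smul_mem _ _ a, i⟩
theorem E_R (a : q ∈ Pl u v) (j : n ∈ pp σ (Pl u v)) (c : K) : E σ q n c ∈ RR σ u v :=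
  ⟨(d.E_H a n c).1, d.E_Yy (d.ti q a u uP) (d.ti q a v vP) (mN.1 j).1 (mN.1 j).2 c⟩
theorem tv_Y (j : w ∈ pp σ (Pl u v)) (c : K) : E σ w 0 c ∈ Yy σ u v := d.E_Yy (mN.1 j).1 (mN.1 j).2 (hf_zero_l u) (hf_zero_l v) c
theorem H_tr (hq : q ∈ Pl u v) (q0 : q ≠ 0) : ∃ g ∈ HH σ u v, g u = q := by
  obtain ⟨q', b, l, e⟩ : ∃ q' ∈ Pl u v, q' ∉ Submodule.span K {q} ∧ E σ q q' 0 = E σ u v 0 := by
    obtain ⟨a, c, rfl⟩ := Submodule.mem_span_pair.1 hq
    by_cases z : a = 0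
    · have c0 : c ≠ 0 := fun o => q0 (by simp [z, o])
      refine ⟨c⁻¹ • u, Submodule.smul_mem _ _ uP, fun o => ?_, ?_⟩
      · obtain ⟨t, o⟩ := Submodule.mem_span_singleton.1 o
        exact c0 (by simpa [z, d.smr, d.fu, d.fv] using (congrArg (hf σ f) o).symm)
      · rw [z, zero_smul, zero_add, d.E_sm (by simp [d.uv]), smul_inv_smul₀ c0, mul_zero, d.E_swap d.uv]
    · refine ⟨a⁻¹ • v, Submodule.smul_mem _ _ vP, fun o => ?_, ?_⟩
      · obtain ⟨t, o⟩ := Submodule.mem_span_singleton.1 o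
        have h1 : t = 0 := by simpa [z, d.smr, d.fu, d.fv] using congrArg (hf σ f) o
        simpa [h1, z, d.pr.v0] using o.symm
      · rw [d.E_swap (by simp [d.smr, d.uv, d.iso]), d.E_sm (by simp [d.uv, d.iso]), mul_zero, smul_add, inv_smul_smul₀ z, smul_smul,
          d.E_shift d.uv, d.E_swap d.uv]
  obtain ⟨g, i, h1, h2⟩ := d.wpr d.pr ⟨li_two q0 l, d.ti _ hq _ b⟩
  exact ⟨g, ⟨i, (d.cQQ d.pr (su_sem i)).2 (by rw [h1, h2, e])⟩, h1⟩
theorem o2H (l : B ≤ HH σ u v) (two : IsPGroup 2 B) (n : HH σ u v ≤ 𝐍(B)) : B ≤ RR σ u v := by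
  have s : ∀ g ∈ B, Sem σ 1 g := fun g i => su_sem (l i).1
  have G : B ≤ Gam σ m := fun g i => ⟨1, s g i⟩
  obtain ⟨q, a, q0, e⟩ := fixs two G (T := ⊥) (fun g i x j => by rw [(Submodule.mem_bot K).1 j, (s g i).zero]; exact zero_mem _)
    (fun g i x => d.H_P (l i)) fun o => d.pr.u0 (o uP)
  obtain ⟨w, a', b', e'⟩ := fixs two G (fun g i x => d.H_P (l i)) (fun g i x => d.H_N (l i)) fun o => let ⟨_, a, b⟩ := d.exN; b (o a)
  have fx : ∀ x ∈ Pl u v, x ≠ 0 → ∀ g ∈ B, g x = x := fun x j x0 g i => by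
    obtain ⟨h, b, rfl⟩ := d.H_tr a q0
    obtain ⟨h', b', rfl⟩ := d.H_tr j x0
    have := sub_eq_zero.1 (e _ (conj_mem_of_mem_normalizer (n (mul_mem b (inv_mem b'))) i))
    simpa [Equiv.symm_apply_eq] using this
  refine fun g i => ⟨d.mem_H1 (l i) fun x j => ?_, mem_Yy.2 ⟨(l i).1, fx u uP d.pr.u0 g i, fx v vP d.pr.v0 g i⟩⟩
  by_cases o : x ∈ Pl u v
  · exact add_mem (d.H_P (l i) o) o
  obtain ⟨h, b, rfl, h1⟩ := d.wit3 (li_three d.pr.1 b') (li_three d.pr.1 o) rfl ((mN.1 a').1.trans (mN.1 j).1.symm)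
    ((mN.1 a').2.trans (mN.1 j).2.symm)
  have c := d.Y_H (mem_Yy.2 ⟨b, h1⟩)
  simpa [vsub, (su_sem b).add] using d.H_P c (e' _ (conj_mem_of_mem_normalizer' (n c) i))
theorem cH (i : g ∈ HH σ u v) (e : g ∈ 𝐂(HH σ u v)) : g ∈ XX σ u v :=
  ⟨d.cQ0 d.pr.u0 (GU_le (SU_le i.1)) (centralizer_le d.Q_H e), d.cQ0 d.pr.v0 (GU_le (SU_le i.1)) (centralizer_le d.Q_H' e)⟩
theorem cR (i : g ∈ HH σ u v) (e : g ∈ 𝐂(RR σ u v)) : g ∈ WX σ (Pl u v) :=
  d.cX d.ti (by rw [Pl, ← Matrix.range_cons_cons_empty u v ![], finrank_span_eq_card d.pr.1]; rfl) (GU_le (SU_le i.1)) fun q a n c j =>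
    (mem_centralizer_iff'.1 e _ (d.E_R a (fun x o => d.sw (j x o)) c)).symm
theorem cW (i : g ∈ HH σ u v) (e : g ∈ 𝐂(WX σ (Pl u v))) : g ∈ Yy σ u v :=
  have k : ∀ q ∈ Pl u v, g q = q := fun q a => d.tv_fix (su_sem i.1) (mem_centralizer_iff'.1 e _ (E_W a (zero_mem _) 1)).symm
  mem_Yy.2 ⟨i.1, k u uP, k v vP⟩
theorem cY (i : g ∈ HH σ u v) (e : ∀ y ∈ Yy σ u v, ⁅g, y⁆ ∈ RR σ u v) : g ∈ H1 σ u v := d.mem_H1 i fun w j => by
  by_cases o : w ∈ Pl u v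
  · exact add_mem (d.H_P i o) o
  obtain ⟨x, a, b⟩ := d.partN o
  have h := ((e _ (d.tv_Y j 1)).1.2.1 x a).1
  rw [commutatorElement_def, tv_cj1 (su_sem i.1), d.E_inv, Perm.mul_apply, E_ap (d.ok (hf_zero_l _) _), E_ap (d.ok (hf_zero_l _) _), b] at h
  simp only [hf_zero_r, smul_zero, add_zero, zero_add, one_mul, one_smul, hf_add_l] at h
  rw [add_right_comm, add_right_comm x, vv, zero_add] at h
  have h1 := d.hfP a h
  have h2 := d.hfP j h
  rw [d.smr, b] at h1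
  rw [d.smr, d.iso] at h2
  rwa [sq_inj (a := hf σ x (g w) + hf σ w (g w)) (b := 1) (by grind), one_smul, add_comm] at h
theorem cRW (i : g ∈ HH σ u v) (e : ∀ r ∈ RR σ u v, ⁅g, r⁆ ∈ WX σ (Pl u v)) : g ∈ RR σ u v := by
  have s := su_sem i.1
  have k1 : ∀ q ∈ Pl u v, ∀ n ∈ pp σ (Pl u v), ∀ y, hf σ y q • n + hf σ y (g q) • g n ∈ Pl u v := fun q a n j y => by
    have h := W_add (e _ (d.E_R a j 0)) y
    have a' := d.H_P i a; have j' := d.H_N i j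
    rw [commutatorElement_def, E_cj1 s, d.E_inv, Perm.mul_apply, E_ap (d.ok (j' _ a') _), E_ap (d.ok (j _ a) _)] at h
    simp only [hf_add_l, hf_smul_l, show hf σ n (g q) = 0 from j _ a', d.ti _ a _ a'] at h
    have := add_mem h (add_mem (Submodule.smul_mem _ (hf σ y n) a) (Submodule.smul_mem _
      (hf σ y (g n) + hf σ y q * hf σ n (g n) + hf σ y n * hf σ q (g n)) a'))
    convert this using 1
    linear_combination (norm := module) -vv (y + hf σ y n • q + (hf σ y (g n) + hf σ y q * hf σ n (g n) + hf σ y n * hf σ q (g n)) • g q)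
  obtain ⟨n, j, o⟩ := d.exN
  obtain ⟨n', j', o'⟩ := d.partN o
  have z : ∀ q ∈ Pl u v, ∀ y, hf σ y q = 0 → hf σ y (g q) = 0 := fun q a y b => by_contra fun c => o (by
    have := k1 q a n j y
    rw [b, zero_smul, zero_add, Submodule.smul_mem_iff _ c] at this
    simpa using d.H_P (inv_mem i) this)
  have one : ∀ q ∈ Pl u v, ∀ y, hf σ y q = 1 → hf σ y (g q) = 1 := fun q a y b => by
    have h := k1 q a n j y
    have h' := k1 q a n' j' y
    rw [b, one_smul] at h h'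
    have h1 := d.hfP j' h
    have h2 := d.hfP (d.H_N i j) h'
    rw [o', d.smr, d.comm n', h2, d.smr, s.form1, d.comm n, o', mul_one] at h1
    exact sq_inj (by rw [← h1, mul_one])
  refine ⟨d.mem_H1 i fun x a => ?_, mem_Yy.2 ⟨i.1, ?_, ?_⟩⟩
  · simpa [d.fu, one u uP f d.fu, add_comm] using k1 u uP x a f
  · rw [d.coord (d.H_P i uP), d.comm _ f, d.comm _ k, one u uP f d.fu, z u uP k d.ku]; simp
  · rw [d.coord (d.H_P i vP), d.comm _ f, d.comm _ k, one v vP k d.kv, z v vP f d.fv]; simp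
end Fq

end CF.Sq.V
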