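import Cfsg.Agent.Sq.V1

/-! The centraliser of the root group of type `a₂`: automorphisms. -/

set_option autoImplicit false
set_option linter.unusedSectionVars false
set_option linter.unusedVariables false

namespace CF.Sq.V

open Cfsg Subgroup Equiv CF.Loc CF.LX CF.Ud Module
open CF.Dq (add_eq0)
open scoped commutatorElement

variable {K : Type} [Field K] [Fintype K] [CharP K 2] {m : ℕ} {σ θ : K ≃+* K} {a c : K}
  {g r r' l ξ : Perm (Fin m → K)} {u v f k q q' s s' w x y y' z n n' : Fin m → K} {b b' : Perm (Fin m → K) → Perm (Fin m → K)}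

variable (σ) in
/-- the image of a transvection modulo `X` -/
def Tv (u v : Fin m → K) (b : Perm (Fin m → K) → Perm (Fin m → K)) (w y : Fin m → K) : Prop :=
  y ∈ pp σ (Pl u v) ∧ ∃ x ∈ XX σ u v, b (E σ w 0 1) = E σ y 0 1 * x

variable (σ) in
/-- the part of `RR` attached to a point of the plane -/
def Rq (u v q : Fin m → K) (r : Perm (Fin m → K)) : Prop :=
  r ∈ RR σ u v ∧ ∀ l ∈ H1 σ u v ⊓ HH σ u v, l q = q → ⁅r, l⁆ ∈ WX σ (Pl u v)

variable (σ) in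
/-- the conclusion -/
def Gd (u v : Fin m → K) (b : Perm (Fin m → K) → Perm (Fin m → K)) : Prop :=
  ∃ θ ξ, Sem σ θ ξ ∧ ξ ∈ 𝐍(Yy σ u v) ∧ ξ ∈ 𝐍(XX σ u v) ∧ ∀ y ∈ Yy σ u v, b y * (ξ * y * ξ⁻¹)⁻¹ ∈ XX σ u v

theorem Gd.conj (s : Sem σ θ ξ) (n : ξ ∈ 𝐍(Yy σ u v)) (n' : ξ ∈ 𝐍(XX σ u v)) (h : Gd σ u v fun g => ξ⁻¹ * b g * ξ) : Gd σ u v b := by
  obtain ⟨θ', ξ', h1, h2, h3, h4⟩ := h
  refine ⟨_, ξ * ξ', s.mul h1, mul_mem n h2, mul_mem n' h3, fun y i => ?_⟩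
  convert conj_mem_of_mem_normalizer n' (h4 y i) using 1; group

namespace Fq
variable (d : Fq σ m u v f k)
include d

theorem diagX (j : y ∈ pp σ (Pl u v)) (i : g ∈ XX σ u v) (z : Fin m → K) : hf σ ((E σ y 0 1 * g) z) z = hf σ z y * hf σ z y := by
  obtain ⟨c, rfl⟩ := (d.mem_QQ d.pr).1 i
  rw [Perm.mul_apply, E_ap (d.ok (hf_zero_l _) _), E_ap (d.ok (by simp [d.sw d.uv]) _)]
  simp only [hf_add_l, hf_smul_l, d.smr, hf_zero_r, d.sw (mN.1 j).1, d.sw (mN.1 j).2, d.iso, d.comm u z, d.comm v z, d.comm y z, hf_zero_l]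
  grind
theorem tvX (j : y ∈ pp σ (Pl u v)) (j' : y' ∈ pp σ (Pl u v)) (i : g ∈ XX σ u v) (i' : r ∈ XX σ u v)
    (e : E σ y 0 1 * g = E σ y' 0 1 * r) : y = y' := hf_ext (σ := σ) fun z => by
  rw [d.comm, d.comm y']; exact sq_inj (by rw [← d.diagX j i, e, d.diagX j' i'])
theorem tvP (a : q ∈ Pl u v) (a' : q' ∈ Pl u v) : ∃ x ∈ XX σ u v, E σ q 0 1 * E σ q' 0 1 = E σ (q + q') 0 1 * x :=
  ⟨_, d.E_X a a', by rw [d.tv_add (d.ti _ a _ a'), mul_assoc, d.E_sq, mul_one]⟩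
theorem W_nf (i : g ∈ WX σ (Pl u v)) : ∃ q ∈ Pl u v, ∃ x ∈ XX σ u v, g = E σ q 0 1 * x := by
  obtain ⟨a, c, e, rfl⟩ : ∃ a b c : K, g = E σ u 0 a * E σ v 0 b * E σ u (c • v) 0 := by
    have := d.uv; obtain rfl := d.one; exact d.sm.W2 this i
  obtain ⟨a, rfl⟩ := exists_rt a
  obtain ⟨c, rfl⟩ := exists_rt c
  obtain ⟨x, j, h⟩ := d.tvP (Submodule.smul_mem _ a uP) (Submodule.smul_mem _ c vP)
  rw [d.tv_sm, d.tv_sm, mul_one, mul_one] at h
  exact ⟨_, cP a c, _, mul_mem j ((d.mem_QQ d.pr).2 ⟨e, rfl⟩), by rw [h, mul_assoc]⟩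
theorem tv_H (j : w ∈ pp σ (Pl u v)) : E σ w 0 1 ∈ HH σ u v := d.Y_H (d.tv_Y j 1)
theorem Rq_E (a : q ∈ Pl u v) (j : n ∈ pp σ (Pl u v)) : Rq σ u v q (E σ q n 0) := ⟨d.E_R a j 0, fun l i e => by
  rw [commutatorElement_def, mul_assoc, mul_assoc, d.E_inv, ← mul_assoc l, E_cj1 i.1.1, e, d.E_mul (j q a) ((i.1.2.1 n j).2 q a)]
  exact E_W a (add_comm n _ ▸ (i.1.2.1 n j).1) _⟩
theorem Rq_out (a : q ∈ Pl u v) (q0 : q ≠ 0) (i : Rq σ u v q r) (o : hf σ n q = 0) : r n + n ∈ Pl u v := by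
  have h := i.2 _ (d.E_H a n 0) (E_self ..)
  have o' : hf σ (r n) q = 0 := by rw [← Yy_P i.1.2 a, i.1.1.1.form1, o]
  obtain ⟨y, e⟩ := d.partner q0
  rw [commutatorElement_def, E_cj1 i.1.1.1, Yy_P i.1.2 a, d.E_inv, d.E_mul o' o] at h
  have := W_add h y
  rw [E_ap (d.ok (by simp [o, o']) _), e, one_smul, add_right_comm, add_right_comm y, vv, zero_add] at this
  exact (add_mem_cancel_right (Submodule.smul_mem _ _ a)).1 this
theorem cmW (i : r ∈ RR σ u v) (i' : r' ∈ RR σ u v) (j : g * r⁻¹ ∈ WX σ (Pl u v)) (j' : l * r'⁻¹ ∈ WX σ (Pl u v)) : ⁅g, l⁆ = ⁅r, r'⁆ := by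
  have c := fun {x y} (a : x ∈ WX σ (Pl u v)) (b : y ∈ Yy σ u v) => mem_centralizer_iff'.1 (d.Y_cW b) x a
  have h1 := c j i.2; have h2 := c j i'.2; have h3 := c j' i.2; have h4 := c j' i'.2; have h5 := c j (d.W_Y j')
  rw [← inv_mul_cancel_right g r, ← inv_mul_cancel_right l r']
  generalize g * r⁻¹ = x at *
  generalize l * r'⁻¹ = y at *
  have e1 : Commute x r := h1; have e2 : Commute x r' := h2; have e3 : Commute y r := h3; have e4 : Commute y r' := h4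
  have e5 : Commute x y := h5
  calc _ = x * (r * y * r⁻¹) * (r * r' * r⁻¹) * x⁻¹ * r'⁻¹ * y⁻¹ := by group
    _ = x * (y * (r * r' * r⁻¹ * r'⁻¹) * y⁻¹) * x⁻¹ := by
      rw [← e3.eq, mul_inv_cancel_right, mul_assoc _ x⁻¹, (e2.inv_inv).eq, mul_assoc _ _ y⁻¹, mul_assoc _ x⁻¹, (e5.inv_inv).eq]; group
    _ = _ := by
      rw [(((e3.mul_right e4).mul_right e3.inv_right).mul_right e4.inv_right).eq, mul_inv_cancel_right,
        (((e1.mul_right e2).mul_right e1.inv_right).mul_right e2.inv_right).eq, mul_inv_cancel_right]; rfl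
theorem cmE (j : n ∈ pp σ (Pl u v)) (j' : n' ∈ pp σ (Pl u v)) : ⁅E σ u n 0, E σ v n' 0⁆ = E σ u (hf σ n n' • v) 0 := by
  have h1 := mN.1 j; have h2 := mN.1 j'
  rw [commutatorElement_def, E_cj1 (E_sem ..), E_fix (d.sw d.uv) (d.sw h1.2), E_ap (d.ok h1.1 _), d.E_inv,
    d.E_mul (by simp [h2.1, h2.2, d.uv]) h2.2, d.E_sw d.uv, d.comm n]
  congr 1
  · simp [h2.1, add_right_comm n', vv]
  · simp [h2.1, d.smr, d.iso]
theorem fix0 (a : q ∈ Pl u v) (e : E σ u k 0 q = q) (e' : E σ v f 0 q = q) : q = 0 := by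
  rw [E_ap (d.ok d.ku _), d.ti _ a u uP] at e
  rw [E_ap (d.ok d.fv _), d.ti _ a v vP] at e'
  rw [d.coord a, show hf σ q k = 0 by simpa [d.pr.u0] using e, show hf σ q f = 0 by simpa [d.pr.v0] using e']; simp

variable (h : Au (HH σ u v) b b')
include h

theorem bX (i : g ∈ XX σ u v) : b g ∈ XX σ u v :=
  d.cH (h.m _ (d.X_H i)) (h.cent le_rfl h.m' (d.X_H i) (mem_centralizer_iff'.2 fun _ j => (d.X_c j i).symm))
theorem bR (i : g ∈ RR σ u v) : b g ∈ RR σ u v := h.o2 d.R_H d.R_two d.nR (fun _ => d.o2H) i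
theorem bW (i : g ∈ WX σ (Pl u v)) : b g ∈ WX σ (Pl u v) := d.cR (h.m _ (d.R_H (d.W_R i)))
  (h.cent d.R_H (fun _ => d.bR h.symm) (d.R_H (d.W_R i)) (le_centralizer_iff.1 (inf_le_right.trans d.Y_cW) i))
theorem bY (i : g ∈ Yy σ u v) : b g ∈ Yy σ u v :=
  d.cW (h.m _ (d.Y_H i)) (h.cent (d.W_Y.trans d.Y_H) (fun _ => d.bW h.symm) (d.Y_H i) (d.Y_cW i))
theorem bH1 (i : g ∈ H1 σ u v ⊓ HH σ u v) : b g ∈ H1 σ u v ⊓ HH σ u v := ⟨d.cY (h.m _ i.2) fun y j => by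
  have j' := d.bY h.symm j
  rw [← h.r y (d.Y_H j), ← h.comm i.2 (d.Y_H j')]
  refine d.bR h (mem_inf.2 ⟨?_, mul_mem (conj_mem_of_mem_normalizer (d.nY i.2) j') (inv_mem j')⟩)
  simpa [commutatorElement_def, mul_assoc] using (mul_mem i (conj_mem_of_mem_normalizer (d.nH1 (d.Y_H j')) (inv_mem i))).1, h.m _ i.2⟩
omit h in
theorem T_uq (e : Tv σ u v b w y) (e' : Tv σ u v b w y') : y = y' :=
  let ⟨a, _, i, k⟩ := e; let ⟨a', _, i', k'⟩ := e'; d.tvX a a' i i' (k.symm.trans k')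
theorem T_cj (j : w ∈ pp σ (Pl u v)) (e : Tv σ u v b w y) (i : g ∈ HH σ u v) : Tv σ u v b (g w) (b g y) := by
  obtain ⟨a, x, i', k⟩ := e
  refine ⟨d.H_N (h.m g i) a, x, i', ?_⟩
  rw [← tv_cj1 (su_sem i.1), h.cj i (d.tv_H j), k, conj_mul_conj, tv_cj1 (su_sem (h.m g i).1), conj_eq_iff.2 (d.X_c (h.m g i) i').symm]
theorem T_fix (j : w ∈ pp σ (Pl u v)) (e : Tv σ u v b w y) (i : g ∈ HH σ u v) (o : g w = w) : b g y = y :=
  d.T_uq (o ▸ d.T_cj h j e i :) e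
theorem T_symm (j : w ∈ pp σ (Pl u v)) (e : Tv σ u v b w y) : Tv σ u v b' y w := by
  obtain ⟨a, x, i, k⟩ := e
  refine ⟨j, _, inv_mem (d.bX h.symm i), eq_mul_inv_of_mul_eq ?_⟩
  rw [← h.symm.mul _ (d.tv_H a) _ (d.X_H i), ← k, h.l _ (d.tv_H j)]
theorem T_0 : Tv σ u v b 0 0 := ⟨zero_mem _, 1, one_mem _, by simp [E_zero_v, h.one]⟩
theorem T_P (a : q ∈ Pl u v) : ∃ s ∈ Pl u v, Tv σ u v b q s :=
  let ⟨s, j, e⟩ := d.W_nf (d.bW h (E_W a (zero_mem _) 1)); ⟨s, j, d.PN j, e⟩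
theorem T_add (a : q ∈ Pl u v) (a' : q' ∈ Pl u v) (c : s ∈ Pl u v) (c' : s' ∈ Pl u v) (e : Tv σ u v b q s) (e' : Tv σ u v b q' s') :
    Tv σ u v b (q + q') (s + s') := by
  obtain ⟨-, x, i, k⟩ := e
  obtain ⟨-, x', i', k'⟩ := e'
  obtain ⟨y, j, o⟩ := d.tvP c c'
  have t := d.tv_H (d.PN a); have t' := d.tv_H (d.PN a')
  refine ⟨d.PN (add_mem c c'), _, mul_mem (mul_mem (mul_mem j i) i') (d.bX h (d.E_X a a')), ?_⟩
  rw [d.tv_add (d.ti _ a _ a'), h.mul _ (mul_mem t t') _ (d.X_H (d.E_X a a')), h.mul _ t _ t', k, k', mul_assoc (E σ s 0 1),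
    ← mul_assoc x, d.X_c (d.tv_H (d.PN c')) i, ← mul_assoc, ← mul_assoc, o]; group
theorem bRq (a : q ∈ Pl u v) (e : Tv σ u v b q s) (i : Rq σ u v q r) : Rq σ u v s (b r) := ⟨d.bR h i.1, fun l j o => by
  have j' := d.bH1 h.symm j
  rw [← h.r l j.2, ← h.comm (d.R_H i.1) j'.2]
  exact d.bW h (i.2 _ j' (d.T_fix h.symm e.1 (d.T_symm h (d.PN a) e) j.2 o))⟩
/-- the last step -/
theorem st4 (e : ∀ w ∈ pp σ (Pl u v), Tv σ u v b w w) : Gd σ u v b := by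
  let A : Subgroup (Perm (Fin m → K)) :=
    { carrier := {y | y ∈ HH σ u v ∧ b y * y⁻¹ ∈ XX σ u v}
      mul_mem' := fun {x y} i j => ⟨mul_mem i.1 j.1, by
        convert mul_mem i.2 (conj_mem_of_mem_normalizer (d.nor (su_sem i.1.1) (d.H_P i.1 uP) (d.H_P i.1 vP)).2.1 j.2) using 1
        rw [h.mul _ i.1 _ j.1]; group⟩
      one_mem' := ⟨one_mem _, by simp [h.one]⟩
      inv_mem' := fun {x} i => ⟨inv_mem i.1, by
        convert conj_mem_of_mem_normalizer' (d.nor (su_sem i.1.1) (d.H_P i.1 uP) (d.H_P i.1 vP)).2.1 (inv_mem i.2) using 1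
        rw [h.inv i.1]; group⟩ }
  refine ⟨1, 1, sem_one, one_mem _, one_mem _, fun y i => ?_⟩
  simpa using (d.Yy_gen (H := A) d.pr (fun w a c => ⟨d.tv_H (mN.2 ⟨a, c⟩), by
    obtain ⟨-, x, j, o⟩ := e w (mN.2 ⟨a, c⟩)
    rwa [o, ← d.X_c (d.tv_H (mN.2 ⟨a, c⟩)) j, mul_inv_cancel_right]⟩) i).2

section st3
variable (hR : ∀ r ∈ RR σ u v, b r * r⁻¹ ∈ WX σ (Pl u v))
include hR
theorem c_R (i : g ∈ HH σ u v) : b g * g⁻¹ ∈ RR σ u v := d.cRW (mul_mem (h.m g i) (inv_mem i)) fun r j => by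
  have j' := conj_mem_of_mem_normalizer' (d.nR i) j
  have e := h.cj i (d.R_H j')
  rw [show g * (g⁻¹ * r * g) * g⁻¹ = r by group] at e
  convert mul_mem (conj_mem_of_mem_normalizer (d.nW (h.m g i)) (inv_mem (hR _ j'))) (hR r j) using 1
  rw [e]; group
theorem b_P (i : g ∈ HH σ u v) (a : q ∈ Pl u v) : b g q = g q := by
  simpa using Yy_P (d.c_R h hR i).2 (d.H_P i a)
theorem T_id (hX : ∀ x ∈ XX σ u v, b x = x) (a : q ∈ Pl u v) : Tv σ u v b q q := by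
  obtain ⟨s, j, e⟩ := d.T_P h uP
  have l := (d.E_H uP k 0).2
  have e1 := d.T_fix h (d.PN uP) e l (E_self ..)
  rw [d.b_P h hR l j, E_ap (d.ok d.ku _), d.ti _ j u uP] at e1
  obtain ⟨c, rfl⟩ : ∃ c : K, s = c • u := ⟨_, by rw [d.coord j, show hf σ s k = 0 by simpa [d.pr.u0] using e1, zero_smul, add_zero]⟩
  obtain ⟨-, x, i, o⟩ := e
  have all : ∀ q ∈ Pl u v, q ≠ 0 → b (E σ q 0 1) = E σ (c • q) 0 1 * x := fun q a q0 => by
    obtain ⟨g, t, rfl⟩ := d.H_tr a q0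
    rw [← tv_cj1 (su_sem t.1), h.cj t (d.tv_H (d.PN uP)), o, conj_mul_conj, tv_cj1 (su_sem (h.m g t).1),
      conj_eq_iff.2 (d.X_c (h.m g t) i).symm, d.b_P h hR t j, (su_sem t.1).smul1]
  obtain ⟨μ, rfl⟩ := (d.mem_QQ d.pr).1 i
  have vu := d.sw d.uv
  have key : ∀ t : K, t ≠ 0 → c * c * t + μ = t := fun t t0 => by
    have a1 := Submodule.smul_mem _ t (vP (u := u) (v := v))
    have t1 := d.tv_H (d.PN uP); have t2 := d.tv_H (d.PN a1)
    have := all (u + t • v) (add_mem uP a1) fun z => by simpa [d.smr, d.fu, d.fv] using congrArg (hf σ f) z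
    rw [d.tv_add (d.ti _ uP _ a1), h.mul _ (mul_mem t1 t2) _ (d.X_H (d.E_X uP a1)), h.mul _ t1 _ t2, o,
      all _ a1 (smul_ne_zero t0 d.pr.v0), hX _ (d.E_X uP a1), smul_add, d.tv_add (by simp [d.smr, d.uv]), mul_assoc (E σ (c • u) 0 1),
      ← mul_assoc (E σ u _ 0), d.X_c (d.tv_H (d.PN (Submodule.smul_mem _ c a1))) i, mul_assoc _ (E σ u _ 0), d.E_sq, mul_one, mul_assoc,
      mul_assoc, mul_assoc, mul_right_inj, mul_right_inj, d.E_sm (by simp [vu]), d.E_mul (by simp [vu]) (by simp [vu]),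
      d.E_inj d.pr.u0 (by simp [vu]) (by simp [vu])] at this
    obtain ⟨-, z, this⟩ := this
    simpa [d.smr, d.ku, d.kv, mul_assoc] using congrArg (hf σ k) this
  have c0 : c ≠ 0 := fun z => d.pr.u0 (d.T_uq (d.T_symm h (d.PN uP) ⟨d.PN j, _, i, o⟩) (by simpa [z] using d.T_0 h.symm))
  have c1 : c = 1 := by
    have := key 1 one_ne_zero; have := key c c0
    by_contra n
    have : c * c = 1 * 1 := mul_left_cancel₀ (show c + 1 ≠ 0 from fun z => n (by grind)) (by grind)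
    exact n (sq_inj this)
  by_cases q0 : q = 0
  · exact q0 ▸ d.T_0 h
  · exact ⟨d.PN a, _, i, by rw [all q a q0, c1, one_smul]⟩
theorem half (j : w ∈ pp σ (Pl u v)) (a : hf σ w f = 0) (a' : hf σ w k = 0) : ∃ c : K, b (E σ w 0 1) k + k + c • w ∈ Pl u v := by
  have l := d.E_H uP k 0
  have t := d.tv_H j
  have c := d.c_R h hR t
  have cl := d.c_R h hR l.2
  have L := d.bH1 h l
  have G := d.bY h (d.tv_Y j 1)
  have e := congrArg (· f) (h.cm t l.2 (conj_eq_iff.1 (by rw [E_cj1 (E_sem ..), E_fix (d.sw (mN.1 j).1) (hf_zero_r u),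
    E_fix (d.sw a') (hf_zero_r k)])))
  have ge : ∀ x, b (E σ w 0 1) x = (b (E σ w 0 1) * (E σ w 0 1)⁻¹) (x + hf σ x w • w) := fun x => by
    rw [Perm.mul_apply, d.E_inv, E_ap (d.ok (hf_zero_l _) _)]; simp [d.iso, add_assoc, vv]
  have le : b (E σ u k 0) f = (b (E σ u k 0) * (E σ u k 0)⁻¹) (f + k + hf σ f k • u) := by
    rw [Perm.mul_apply, d.E_inv, E_ap (d.ok d.ku _)]
    simp only [hf_add_l, hf_smul_l, d.iso, d.fu, d.ku, d.comm u k, add_zero, mul_zero, zero_mul, one_smul]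
    congr 1; linear_combination (norm := module) -vv (k + hf σ f k • u)
  generalize b (E σ w 0 1) * (E σ w 0 1)⁻¹ = c₀ at *
  generalize b (E σ u k 0) * (E σ u k 0)⁻¹ = c₁ at *
  generalize b (E σ w 0 1) = g at *
  generalize b (E σ u k 0) = l₀ at *
  obtain ⟨n, hn⟩ : ∃ n, n = c₁ (f + k + hf σ f k • u) + (f + k + hf σ f k • u) := ⟨_, rfl⟩
  have nN := hn ▸ d.R_N cl _
  have h1 : l₀ f = f + k + hf σ f k • u + n := by rw [hn, le, add_comm (c₁ _), ← add_assoc, vv, zero_add]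
  have h2 := (c.1.2.1 _ (add_mem nN (Submodule.smul_mem _ (hf σ n w) j))).1
  have h3 := (L.1.2.1 _ (d.R_N c f)).1
  have gf : g f = c₀ f := by rw [ge, d.sw a, zero_smul, add_zero]
  have s := su_sem G.1.1
  rw [← ge] at h2
  rw [← gf, L.1.1.add] at h3
  simp only [Perm.mul_apply] at e
  rw [← e, h1, s.add, s.add, s.add, Yy_P G (Submodule.smul_mem _ _ uP)] at h3
  refine ⟨hf σ n w, ?_⟩
  convert add_mem h2 h3 using 1
  linear_combination (norm := module) -vv (g n + n + g f + f + hf σ f k • u)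
theorem T_N (j : w ∈ pp σ (Pl u v)) (a : hf σ w f = 0) (a' : hf σ w k = 0) : ∃ q ∈ Pl u v, Tv σ u v b w (w + q) := by
  by_cases w0 : w ∈ Pl u v
  · obtain rfl : w = 0 := by rw [d.coord w0, a, a']; simp
    exact ⟨0, w0, by simpa using d.T_0 h⟩
  obtain ⟨c₁, h1⟩ := d.half h hR j a a'
  obtain ⟨c₀, h0⟩ := d.symm.half (b := b) (b' := b') (by rwa [H_comm]) (by rwa [R_comm, Pl_comm]) (by rwa [Pl_comm]) a' a
  rw [Pl_comm] at h0
  have t := d.tv_H j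
  have q := cP (u := u) (v := v) c₀ c₁
  have o : hf σ w (c₀ • u + c₁ • v) = 0 := j _ q
  have r : E σ w (c₀ • u + c₁ • v) 0 ∈ RR σ u v := d.E_swap o ▸ d.E_R q j 0
  have ge : ∀ x, hf σ x w = 0 → (b (E σ w 0 1) * (E σ w 0 1)⁻¹) x = b (E σ w 0 1) x := fun x e => by
    rw [Perm.mul_apply, d.E_inv, E_fix e (hf_zero_r x)]
  have := d.R_cg (d.c_R h hR t) r (by
    rw [ge f (d.sw a), E_ap (d.ok (d.sw o) _), d.sw a]; simpa [d.smr, d.fu, d.fv, add_assoc] using h0) (by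
    rw [ge k (d.sw a'), E_ap (d.ok (d.sw o) _), d.sw a']; simpa [d.smr, d.ku, d.kv, add_assoc] using h1)
  obtain ⟨q', j', x, i, e⟩ := d.W_nf (mul_mem this (E_W (σ := σ) q (zero_mem _) 1))
  have yN := add_mem j (d.PN q)
  have e' : b (E σ w 0 1) = E σ (w + (c₀ • u + c₁ • v)) 0 1 * E σ q' 0 1 * x := by
    rw [mul_assoc, mem_centralizer_iff'.1 (d.Y_cW (d.tv_Y yN 1)) _ (e ▸ mul_mem this (E_W (σ := σ) q (zero_mem _) 1)) |>.symm, ← e,
      d.tv_add o, d.E_inv, d.E_inv, ← mem_centralizer_iff'.1 (d.Y_cW (d.tv_Y j 1)) _ (E_W (σ := σ) q (zero_mem _) 1),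
      mul_assoc _ (E σ (c₀ • u + c₁ • v) 0 1), ← mul_assoc (E σ (c₀ • u + c₁ • v) 0 1), ← mul_assoc (E σ (c₀ • u + c₁ • v) 0 1), tv_sq, one_mul,
      mul_assoc _ (E σ w _ 0), ← mul_assoc (E σ w _ 0), d.Q_comm (E_Q w _ 0) (E_Q w 0 1), mul_assoc (E σ w 0 1), d.E_sq, mul_one,
      mul_assoc, tv_sq, mul_one]
  obtain ⟨z, zN, hz⟩ := d.partN w0
  have fx : ∀ l ∈ H1 σ u v ⊓ HH σ u v, l w = w → l q' = q' := fun l m o' => by
    have L := d.bH1 h m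
    have e1 := conj_eq_iff.2 (h.cm m.2 t (conj_eq_iff.1 (by rw [tv_cj1 m.1.1, o'])))
    rw [e', conj_mul_conj, conj_mul_conj, conj_eq_iff.2 (d.X_c L.2 i).symm, mul_left_inj, tv_cj1 L.1.1, tv_cj1 L.1.1, d.b_P h hR m.2 j'] at e1
    have e2 := congrArg (· z) e1
    have e3 : hf σ z (w + (c₀ • u + c₁ • v)) = 1 := by rw [hf_add_r, hz, show hf σ z _ = 0 from zN _ q, add_zero]
    simp only [Perm.mul_apply, E_fix (show hf σ z q' = 0 from zN _ j') (hf_zero_r z),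
      E_fix (show hf σ z (l q') = 0 from zN _ (d.H_P m.2 j')) (hf_zero_r z), E_ap (d.ok (hf_zero_l _) _), d.hfP zN (L.1.2.1 _ yN).1, e3,
      hf_zero_r, smul_zero, add_zero, zero_add, mul_one, one_smul, add_right_inj] at e2
    rw [e2, mul_right_inj] at e1
    exact d.tvX (d.PN (d.H_P m.2 j')) (d.PN j') (one_mem _) (one_mem _) (by rw [e1])
  rw [d.fix0 j' (fx _ (d.E_H uP k 0) (E_fix (mN.1 j).1 a' _)) (fx _ (d.E_H vP f 0) (E_fix (mN.1 j).2 a _)), E_zero_v, mul_one] at e'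
  exact ⟨_, q, yN, x, i, e'⟩
theorem st3 (hX : ∀ x ∈ XX σ u v, b x = x) : Gd σ u v b := by
  choose! p hp hT using fun w (j : w ∈ pp σ (Pl u v)) => d.T_N h hR (d.pjN j) (d.pjf w) (d.pjk w)
  have l₀ := d.E_H uP k 0
  have l₁ := d.E_H vP f 0
  have fx : ∀ x ∈ pp σ (Pl u v), b (E σ u k 0) (pj σ u v f k x + p x) = pj σ u v f k x + p x ∧
      b (E σ v f 0) (pj σ u v f k x + p x) = pj σ u v f k x + p x := fun x j =>
    ⟨d.T_fix h (d.pjN j) (hT x j) l₀.2 (E_fix (mN.1 (d.pjN j)).1 (d.pjk x) _),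
      d.T_fix h (d.pjN j) (hT x j) l₁.2 (E_fix (mN.1 (d.pjN j)).2 (d.pjf x) _)⟩
  have s₀ := su_sem (h.m _ l₀.2).1
  have s₁ := su_sem (h.m _ l₁.2).1
  have z : ∀ q ∈ Pl u v, b (E σ u k 0) q = q → b (E σ v f 0) q = q → q = 0 := fun q a e e' =>
    d.fix0 a (d.b_P h hR l₀.2 a ▸ e) (d.b_P h hR l₁.2 a ▸ e')
  have ad : ∀ x ∈ pp σ (Pl u v), ∀ y ∈ pp σ (Pl u v), p (x + y) = p x + p y := fun x i y j => by
    have e : p (x + y) + (p x + p y) = pj σ u v f k (x + y) + p (x + y) + (pj σ u v f k x + p x + (pj σ u v f k y + p y)) := by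
      rw [pj_add]; linear_combination (norm := module) -vv (pj σ u v f k x + pj σ u v f k y)
    refine add_eq0.1 (z _ (add_mem (hp _ (add_mem i j)) (add_mem (hp x i) (hp y j))) ?_ ?_)
    · rw [e, s₀.add, s₀.add (_ + _), (fx _ (add_mem i j)).1, (fx x i).1, (fx y j).1]
    · rw [e, s₁.add, s₁.add (_ + _), (fx _ (add_mem i j)).2, (fx x i).2, (fx y j).2]
  have sm : ∀ (c : K), ∀ x ∈ pp σ (Pl u v), p (c • x) = c • p x := fun c x i => by
    have e : p (c • x) + c • p x = pj σ u v f k (c • x) + p (c • x) + c • (pj σ u v f k x + p x) := by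
      rw [pj_smul]; linear_combination (norm := module) -vv (c • pj σ u v f k x)
    refine add_eq0.1 (z _ (add_mem (hp _ (Submodule.smul_mem _ c i)) (Submodule.smul_mem _ c (hp x i))) ?_ ?_)
    · rw [e, s₀.add, s₀.smul1, (fx _ (Submodule.smul_mem _ c i)).1, (fx x i).1]
    · rw [e, s₁.add, s₁.smul1, (fx _ (Submodule.smul_mem _ c i)).2, (fx x i).2]
  have p0 : ∀ q ∈ Pl u v, p q = 0 := fun q a => by simpa [d.pj0 a] using d.T_uq (hT q (d.PN a)) (by simpa [d.pj0 a] using d.T_0 h)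
  obtain ⟨ξ, s, e⟩ := d.ext_sem (S := pp σ (Pl u v)) 1 (φ := fun x => x + p x) (fun x i y j => by rw [ad x i y j, add_add_add_comm])
    (fun c x i => by rw [sm c x i, ← smul_add]; rfl) (fun x i o => by
      have := add_eq0.1 o
      rw [this, p0 x (this ▸ hp x i)]) fun x i y j => by
      simp [show hf σ x (p y) = 0 from i _ (hp y j), d.sw (show hf σ y (p x) = 0 from j _ (hp x i)), d.ti _ (hp x i) _ (hp y j)]
  have eu : ∀ q ∈ Pl u v, ξ q = q := fun q a => by rw [e q (d.PN a), p0 q a, add_zero]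
  have nr := d.nor s ((eu u uP).symm ▸ uP) ((eu v vP).symm ▸ vP)
  refine Gd.conj s nr.1 nr.2.1 (d.st4 (h.conj nr.2.2) fun w j => ?_)
  have T : Tv σ u v b w (ξ w) := by
    by_cases o : w ∈ Pl u v
    · exact (eu w o).symm ▸ d.T_id h hR hX o
    obtain ⟨n, nN, hn⟩ := d.partN o
    have a := pj_P (σ := σ) (u := u) (v := v) (f := f) (k := k) w
    have r := d.E_R a nN 0
    have ap : ∀ q ∈ Pl u v, E σ (pj σ u v f k w + w) n 0 (pj σ u v f k w + q) = w + q := fun q a' => by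
      rw [E_ap (d.ok (nN _ a) _), show hf σ (pj σ u v f k w + q) _ = 0 from add_mem (d.pjN j) (d.PN a') _ a, d.comm _ n, hf_add_r _ _ n,
        d.hfP nN a, hn, show hf σ n q = 0 from nN _ a']
      linear_combination (norm := module) vv (pj σ u v f k w)
    have := d.T_cj h (d.pjN j) (hT w j) (d.R_H r)
    rw [show E σ (pj σ u v f k w + w) n 0 (pj σ u v f k w) = w by simpa using ap 0 (zero_mem _), ← inv_mul_cancel_right (b _) (E σ (pj σ u v f k w + w) n 0),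
      Perm.mul_apply, ap _ (hp w j), d.W_N (hR _ r) (add_mem j (d.PN (hp w j)))] at this
    rwa [e w j]
  obtain ⟨-, x, i, o⟩ := T
  exact ⟨j, _, conj_mem_of_mem_normalizer' nr.2.1 i, by beta_reduce; rw [o, ← tv_cj1 s]; group⟩
end st3
end Fq

end CF.Sq.V
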