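import Cfsg.Agent.Sq.V2

/-! The centraliser of the root group of type `a₂`: automorphisms are induced by semilinear maps. -/

set_option autoImplicit false
set_option linter.unusedSectionVars false
set_option linter.unusedVariables false

namespace CF.Sq

open Cfsg Subgroup Equiv CF.Loc CF.LX CF.Ud Module
open CF.Dq (add_eq0)
open scoped commutatorElement

/-- the elements which are fixed modulo a normal subgroup -/
def Au.cg {P : Type*} [Group P] {H M : Subgroup P} {b b' : P → P} (h : Au H b b') (n : H ≤ 𝐍(M)) : Subgroup P where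
  carrier := {y | y ∈ H ∧ b y * y⁻¹ ∈ M}
  mul_mem' := fun {x y} i j => ⟨mul_mem i.1 j.1, by
    convert mul_mem i.2 (conj_mem_of_mem_normalizer (n i.1) j.2) using 1
    rw [h.mul _ i.1 _ j.1]; group⟩
  one_mem' := ⟨one_mem _, by simp [h.one]⟩
  inv_mem' := fun {x} i => ⟨inv_mem i.1, by
    convert conj_mem_of_mem_normalizer' (n i.1) (inv_mem i.2) using 1
    rw [h.inv i.1]; group⟩

variable {K : Type} [Field K] [Fintype K] [CharP K 2] {m : ℕ} {σ θ : K ≃+* K} {a c : K} {A : Subgroup (Perm (Fin m → K))}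
  {g r r' l ξ : Perm (Fin m → K)} {u v f k q q' s s' w x y y' z n n' : Fin m → K} {b b' : Perm (Fin m → K) → Perm (Fin m → K)}

namespace V.Fq
variable (d : Fq σ m u v f k)
include d

theorem xinj (e : E σ u (a • v) 0 = E σ u (c • v) 0) : a = c := by
  obtain ⟨-, t, e⟩ := (d.E_inj d.pr.u0 (by simp [d.sw d.uv]) (by simp [d.sw d.uv])).1 e
  simpa [d.smr, d.ku, d.kv] using (congrArg (hf σ k) e).symm
theorem cg0 (i : r ∈ RR σ u v) (j : n ∈ pp σ (Pl u v)) (a : r f + f + n ∈ Pl u v) (c : r k + k ∈ Pl u v) :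
    r * (E σ u n 0)⁻¹ ∈ WX σ (Pl u v) :=
  d.R_cg i (d.E_R uP j 0) (by
    rw [E_ap (d.ok (mN.1 j).1 _), d.fu, one_smul, ← add_assoc, ← add_assoc]; exact add_mem a (Submodule.smul_mem _ _ uP)) (by
    rw [E_ap (d.ok (mN.1 j).1 _), d.ku, zero_smul, add_zero, ← add_assoc]; exact add_mem c (Submodule.smul_mem _ _ uP))
theorem cg1 (i : r ∈ RR σ u v) (j : n ∈ pp σ (Pl u v)) (a : r k + k + n ∈ Pl u v) (c : r f + f ∈ Pl u v) :
    r * (E σ v n 0)⁻¹ ∈ WX σ (Pl u v) := by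
  rw [Pl_comm] at j a c ⊢
  exact d.symm.cg0 (R_comm.le i) j a c
theorem R_gen (l : WX σ (Pl u v) ≤ A) (l₀ : ∀ n ∈ pp σ (Pl u v), hf σ n f = 0 → hf σ n k = 0 → E σ u n 0 ∈ A)
    (l₁ : ∀ n ∈ pp σ (Pl u v), hf σ n f = 0 → hf σ n k = 0 → E σ v n 0 ∈ A) : RR σ u v ≤ A := fun r i => by
  have j := d.pjN (d.R_N i k)
  have e := d.E_R vP j 0
  have i' := mul_mem i e
  have a := d.R_mul i e
  have ek : E σ v (pj σ u v f k (r k + k)) 0 k + k + pj σ u v f k (r k + k) ∈ Pl u v := by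
    rw [E_ap (d.ok (mN.1 j).2 _), d.kv, d.sw (d.pjk _)]; simp [add_right_comm k, vv]
  have := d.cg0 i' (d.pjN (d.R_N i' f)) (add_comm _ (pj σ u v f k _) ▸ pj_P _) (by
    have := add_mem (add_mem (a k) ek) (pj_P (σ := σ) (u := u) (v := v) (f := f) (k := k) (r k + k))
    convert this using 1
    linear_combination (norm := module) -vv (r k + k + E σ v (pj σ u v f k (r k + k)) 0 k + k + pj σ u v f k (r k + k)))
  simpa using mul_mem (mul_mem (l this) (l₀ _ (d.pjN (d.R_N i' f)) (d.pjf _) (d.pjk _))) (inv_mem (l₁ _ j (d.pjf _) (d.pjk _)))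

variable (h : Au (HH σ u v) b b')
include h

theorem st2 (eu : Tv σ u v b u u) (ev : Tv σ u v b v v) : Gd σ u v b := by
  have euv := d.T_add h uP vP uP vP eu ev
  have uv0 : u + v ≠ 0 := fun z => by simpa [d.fu, d.fv] using congrArg (hf σ f) z
  obtain ⟨φ, hφ⟩ : ∃ φ : (Fin m → K) → Fin m → K, ∀ n, φ n = pj σ u v f k (b (E σ u n 0) f + f) := ⟨_, fun _ => rfl⟩
  have R0 := fun n (j : n ∈ pp σ (Pl u v)) => d.bRq h uP eu (d.Rq_E uP j)
  have R1 := fun n (j : n ∈ pp σ (Pl u v)) => d.bRq h vP ev (d.Rq_E vP j)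
  have φN : ∀ n ∈ pp σ (Pl u v), φ n ∈ pp σ (Pl u v) := fun n j => hφ n ▸ d.pjN (d.R_N (R0 n j).1 f)
  have φf : ∀ n, hf σ (φ n) f = 0 := fun n => hφ n ▸ d.pjf _
  have φk : ∀ n, hf σ (φ n) k = 0 := fun n => hφ n ▸ d.pjk _
  have φP : ∀ n, b (E σ u n 0) f + f + φ n ∈ Pl u v := fun n => hφ n ▸ add_comm _ (pj σ u v f k _) ▸ pj_P _
  have c0 : ∀ n ∈ pp σ (Pl u v), b (E σ u n 0) * (E σ u (φ n) 0)⁻¹ ∈ WX σ (Pl u v) := fun n j =>
    d.cg0 (R0 n j).1 (φN n j) (φP n) (d.Rq_out uP d.pr.u0 (R0 n j) d.ku)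
  have c1 : ∀ n ∈ pp σ (Pl u v), b (E σ v n 0) * (E σ v (φ n) 0)⁻¹ ∈ WX σ (Pl u v) := fun n j => by
    have o := mN.1 j
    have t0 := d.E_R uP j 0; have t1 := d.E_R vP j 0; have t2 := d.E_R (add_mem uP vP) j 0
    have w := d.bW h (d.cg0 (mul_mem t2 t1) j (by
      rw [Perm.mul_apply, E_ap (d.ok o.2 _), E_ap (d.ok (by simp [o.1, o.2]) _)]
      simp only [hf_add_l, hf_add_r, hf_smul_l, d.fu, d.fv, d.iso, d.sw d.uv, d.sw o.2]
      convert cP (u := u) (v := v) (hf σ f n) 0 using 1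
      linear_combination (norm := module) vv (f + n + hf σ f n • v)) (by
      rw [Perm.mul_apply, E_ap (d.ok o.2 _), E_ap (d.ok (by simp [o.1, o.2]) _)]
      simp only [hf_add_l, hf_add_r, hf_smul_l, d.ku, d.kv, d.iso, d.sw d.uv, d.sw o.2, o.1, o.2]
      convert cP (u := u) (v := v) (hf σ k n) 0 using 1
      linear_combination (norm := module) vv (k + n + hf σ k n • v)))
    rw [h.mul _ (d.R_H (mul_mem t2 t1)) _ (inv_mem (d.R_H t0)), h.mul _ (d.R_H t2) _ (d.R_H t1), h.inv (d.R_H t0)] at w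
    have a0 := d.Rq_out uP d.pr.u0 (R0 n j) d.ku
    have a1 := d.Rq_out vP d.pr.v0 (R1 n j) d.fv
    have a2 := d.Rq_out (n := f + k) (add_mem uP vP) uv0 (d.bRq h (add_mem uP vP) euv (d.Rq_E (add_mem uP vP) j))
      (by simp [d.fu, d.fv, d.ku, d.kv, CharTwo.add_self_eq_zero])
    have a3 := d.R_mul (d.bR h t2) (d.bR h t1) (f + k)
    have a4 := W_add w (b (E σ u n 0) (f + k))
    rw [Perm.mul_apply _ _⁻¹, Perm.coe_inv, Equiv.symm_apply_apply, (d.bR h t0).1.1.add] at a4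
    rw [(d.bR h t1).1.1.add] at a3
    refine d.cg1 (R1 n j).1 (φN n j) ?_ a1
    convert add_mem (add_mem (add_mem (add_mem (add_mem a0 a1) a2) a3) a4) (φP n) using 1
    linear_combination (norm := module) -vv (b (E σ u n 0) k + b (E σ v n 0) f + b (E σ (u + v) n 0) (f + k) + f + f + f + k + k +
      (b (E σ (u + v) n 0) * b (E σ v n 0)) (f + k) + b (E σ u n 0) f)
  have φ0 : ∀ g ∈ WX σ (Pl u v), pj σ u v f k (b g f + f) = 0 := fun g i => d.pj0 (W_add (d.bW h i) f)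
  have ad : ∀ n ∈ pp σ (Pl u v), ∀ n' ∈ pp σ (Pl u v), φ (n + n') = φ n + φ n' := fun n j n' j' => by
    have t0 := d.E_R uP j 0; have t1 := d.E_R uP j' 0
    have t2 := E_W (σ := σ) (uP (u := u) (v := v)) (zero_mem _) (hf σ n' n)
    have : E σ u (n + n') 0 = E σ u n 0 * E σ u n' 0 * E σ u 0 (hf σ n' n) := by
      rw [d.E_mul (mN.1 j).1 (mN.1 j').1, d.E_mul (mN.1 (add_mem j j')).1 (hf_zero_l u)]; simp [CharTwo.add_self_eq_zero]
    rw [hφ, hφ, hφ, this, h.mul _ (d.R_H (mul_mem t0 t1)) _ (d.R_H (d.W_R t2)), h.mul _ (d.R_H t0) _ (d.R_H t1),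
      d.pj_eq (d.R_mul (mul_mem (d.bR h t0) (d.bR h t1)) (d.bR h (d.W_R t2)) f), pj_add, φ0 _ t2, add_zero,
      d.pj_eq (d.R_mul (d.bR h t0) (d.bR h t1) f), pj_add]
  have φq : ∀ q ∈ Pl u v, φ q = 0 := fun q a => by rw [hφ, φ0 _ (E_W uP a 0)]
  have φp : ∀ x ∈ pp σ (Pl u v), φ (pj σ u v f k x) = φ x := fun x j => by rw [pj, ad _ j _ (d.PN (cP _ _)), φq _ (cP _ _), add_zero]
  choose lm hl using fun c : K => (d.mem_QQ d.pr).1 (d.bX h ((d.mem_QQ d.pr).2 ⟨c, rfl⟩))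
  have fm : ∀ n ∈ pp σ (Pl u v), ∀ n' ∈ pp σ (Pl u v), hf σ (φ n) (φ n') = lm (hf σ n n') := fun n j n' j' => d.xinj (by
    rw [← hl, ← d.cmE j j', h.comm (d.R_H (d.E_R uP j 0)) (d.R_H (d.E_R vP j' 0)), ← d.cmE (φN n j) (φN n' j'),
      d.cmW (d.E_R uP (φN n j) 0) (d.E_R vP (φN n' j') 0) (c0 n j) (c1 n' j')])
  have li : ∀ a, lm a = 0 → a = 0 := fun a e => d.xinj (h.inj (d.X_H ((d.mem_QQ d.pr).2 ⟨a, rfl⟩)) (d.X_H ((d.mem_QQ d.pr).2 ⟨0, rfl⟩))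
    (by rw [hl, e, zero_smul, E_zero, h.one]))
  have mS : ∀ x ∈ pp σ (Pl u v), pj σ u v f k x ∈ pp σ (Pl u v) ⊓ pp σ (Pl f k) := fun x j => ⟨d.pjN j, mN.2 ⟨d.pjf x, d.pjk x⟩⟩
  have nd' : ∀ x ∈ pp σ (Pl u v) ⊓ pp σ (Pl f k), (∀ y ∈ pp σ (Pl u v), hf σ x y = 0) → x = 0 := fun x i e => nd (σ := σ) fun z => by
    simpa [d.smr, (mN.1 i.2).1, (mN.1 i.2).2] using e _ (d.toN z)
  obtain ⟨θ, sm, hm⟩ := d.semi (S := pp σ (Pl u v) ⊓ pp σ (Pl f k)) (φ := φ) (l := lm)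
    (fun x i e => nd' x i fun y j => (d.hfP i.1 (pj_P y)).symm.trans (e _ (mS y j)))
    (fun z => let ⟨n, j, o⟩ := d.exN; o (P_of ((Submodule.mem_bot K).1 (z.le (mS n j)))))
    (fun x i => ⟨φN x i.1, mN.2 ⟨φf x, φk x⟩⟩) (fun x i y j => ad x i.1 y j.1) li fun x i y j => fm x i.1 y j.1
  have sm' : ∀ c, ∀ x ∈ pp σ (Pl u v), φ (c • x) = θ c • φ x := fun c x j => by
    rw [← φp x j, ← sm c _ (mS x j), ← pj_smul, φp _ (Submodule.smul_mem _ c j)]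
  obtain ⟨β, hβ⟩ := exists_rt (lm 1)
  have β0 : β ≠ 0 := fun k => one_ne_zero (li 1 (by rw [← hβ, k, mul_zero]))
  obtain ⟨ξ, s, hξ⟩ := d.ext_sem (S := pp σ (Pl u v)) θ (φ := fun x => ((θ (hf σ x f) * β) • u + (θ (hf σ x k) * β) • v) + β⁻¹ • φ x)
    (fun x i x' j => by simp only [hf_add_l, map_add, ad x i x' j]; module)
    (fun c x i => by simp only [hf_smul_l, map_mul, sm' c x i]; module) (fun x i o => by
      have h1 : hf σ x f = 0 := by simpa [d.comm u, d.comm v, d.fu, d.fv, φf, β0] using congrArg (hf σ · f) o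
      have h2 : hf σ x k = 0 := by simpa [d.comm u, d.comm v, d.ku, d.kv, φk, β0] using congrArg (hf σ · k) o
      have h3 : φ x = 0 := by simpa [h1, h2, β0] using o
      exact nd' x ⟨i, mN.2 ⟨h1, h2⟩⟩ fun y j => li _ (by rw [← fm x i y j, h3, hf_zero_l]))
    fun x i x' j => by
      simp only [hf_add_l, hf_add_r, hf_smul_l, d.smr, d.iso, d.uv, d.sw d.uv, (mN.1 (φN x i)).1, (mN.1 (φN x i)).2,
        d.sw (mN.1 (φN x' j)).1, d.sw (mN.1 (φN x' j)).2, fm x i x' j, hm (hf σ x x'), ← hβ]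
      field_simp; ring
  have ξu : ξ u = β • u := by rw [hξ u (d.PN uP), φq u uP, d.comm u, d.comm u, d.fu, d.ku]; simp
  have ξv : ξ v = β • v := by rw [hξ v (d.PN vP), φq v vP, d.comm v, d.comm v, d.fv, d.kv]; simp
  have a1 : ξ u ∈ Pl u v := ξu ▸ Submodule.smul_mem _ _ uP
  have a2 : ξ v ∈ Pl u v := ξv ▸ Submodule.smul_mem _ _ vP
  have nr := d.nor s a1 a2
  have nw : ξ ∈ 𝐍(WX σ (Pl u v)) := mem_normalizer_of_conj_mem fun _ => W_cj s fun _ => sem_P s a1 a2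
  have h' := h.conj nr.2.2
  have ξE : ∀ q ∈ Pl u v, ξ q = β • q → ∀ n ∈ pp σ (Pl u v), hf σ n f = 0 → hf σ n k = 0 → b (E σ q n 0) * (E σ q (φ n) 0)⁻¹ ∈ WX σ (Pl u v) →
      E σ q n 0 ∈ h'.cg d.nW := fun q a e n j o o' w => ⟨(d.E_H a n 0).2, by
    have : E σ q (φ n) 0 = ξ * E σ q n 0 * ξ⁻¹ := by
      rw [E_cj s, e, hξ n j, o, o', map_zero, d.E_sm (by simp [show hf σ (φ n) q = 0 from φN n j q a])]; simp [β0]
    convert conj_mem_of_mem_normalizer' nw w using 1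
    rw [this]; group⟩
  refine Gd.conj s nr.1 nr.2.1 (d.st3 h' (fun r i => (d.R_gen (A := h'.cg d.nW) (fun g i => ⟨d.R_H (d.W_R i),
    mul_mem (d.bW h' i :) (inv_mem i)⟩) (fun n j o o' => ξE u uP ξu n j o o' (c0 n j)) (fun n j o o' => ξE v vP ξv n j o o' (c1 n j)) i).2)
    fun x i => ?_)
  obtain ⟨c, rfl⟩ := (d.mem_QQ d.pr).1 i
  have : E σ u (lm c • v) 0 = ξ * E σ u (c • v) 0 * ξ⁻¹ := by
    rw [E_cj s, ξu, s.smul, ξv, map_zero, d.E_sm (by simp [d.sw d.uv]), mul_zero, smul_smul, smul_smul, hm, ← hβ, mul_right_comm]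
  rw [hl, this]; group
theorem st1 : Gd σ u v b := by
  obtain ⟨s, j, e⟩ := d.T_P h uP
  obtain ⟨s', j', e'⟩ := d.T_P h vP
  have s0 : s ≠ 0 := fun z => d.pr.u0 (d.T_uq (d.T_symm h (d.PN uP) e) (z ▸ d.T_0 h.symm))
  have l := (d.E_H uP k 0).2
  obtain ⟨g, i, h1, h2⟩ := d.wpr d.pr ⟨li_two s0 (w := s') fun o => by
    obtain ⟨c, rfl⟩ := Submodule.mem_span_singleton.1 o
    have := d.T_fix h.symm e'.1 (d.T_symm h (d.PN vP) e') (h.m _ l) (by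
      rw [(su_sem (h.m _ l).1).smul1, d.T_fix h (d.PN uP) e l (E_self ..)])
    rw [h.l _ l, E_ap (d.ok d.ku _), d.sw d.uv, d.comm v, d.kv] at this
    exact d.pr.u0 (by simpa using this), d.ti _ j _ j'⟩
  have nr := d.nor (su_sem i) (h1 ▸ j) (h2 ▸ j')
  have t : ∀ q s, q ∈ Pl u v → g q = s → Tv σ u v b q s → Tv σ u v (fun x => g⁻¹ * b x * g) q q := fun q s a o ⟨_, x, i', e⟩ =>
    ⟨d.PN a, _, conj_mem_of_mem_normalizer' nr.2.1 i', by beta_reduce; rw [e, ← o, ← tv_cj1 (su_sem i)]; group⟩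
  exact Gd.conj (su_sem i) nr.1 nr.2.1 (d.st2 (h.conj nr.2.2) (t u s uP h1 e) (t v s' vP h2 e'))
end V.Fq

theorem Sd.a1B' (d : Sd σ m) (p : Pr σ u v) (h : Au (V.HH σ u v) b b') : V.Gd σ u v b := by
  obtain ⟨f, h1, h2⟩ := d.dual2 p.1 1 0
  obtain ⟨k, h3, h4⟩ := d.dual2 p.1 0 1
  exact V.Fq.st1 ⟨d, p.2, h1, h2, h3, h4⟩ h
theorem Sx.a1B (d : Sx σ m) (f : MulAut (H0 m σ)) : ∃ ξ ∈ Gam σ m, ξ ∈ 𝐍(Yy σ (bv 0) (bv 1)) ∧ ξ ∈ 𝐍(X0 m σ) ∧
    ∀ g : H0 m σ, g.1 ∈ Yy σ (bv 0) (bv 1) → (f g : Perm (Fin m → K)) * (ξ * g * ξ⁻¹)⁻¹ ∈ X0 m σ := by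
  obtain ⟨θ, ξ, s, h1, h2, h3⟩ := d.toSd.a1B' d.toSd.pr01 (au_of f)
  exact ⟨ξ, ⟨θ, s⟩, h1, h2, fun g i => by simpa [up_coe] using h3 g i⟩

end CF.Sq
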