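import Cfsg.Agent.Sq.Y2

/-! The element moving `t` to `t a`. -/

set_option autoImplicit false
set_option linter.unusedSectionVars false
set_option linter.unusedVariables false

namespace CF.Sq

open Cfsg Subgroup Equiv CF.Loc CF.LX CF.Ud Module V
open scoped commutatorElement

theorem au_inj {P : Type*} [Group P] [Finite P] {H : Subgroup P} {b : P → P} (m : ∀ g ∈ H, b g ∈ H)
    (mul : ∀ g ∈ H, ∀ k ∈ H, b (g * k) = b g * b k) (inj : ∀ g ∈ H, b g = 1 → g = 1) : ∃ c c', Au H c c' ∧ ∀ g ∈ H, c g = b g := by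
  let f : H →* H := MonoidHom.mk' (fun g => ⟨b g, m g g.2⟩) fun g k => Subtype.ext (mul g g.2 k k.2)
  have i : Function.Injective f := (injective_iff_map_eq_one f).2 fun g e => Subtype.ext (inj g g.2 (congrArg Subtype.val e))
  exact ⟨_, _, au_of (MulEquiv.ofBijective f ⟨i, Finite.surjective_of_injective i⟩), fun g j => up_eq j⟩
theorem cjx {G : Type*} [Group G] {x y z : G} (k : G) (e : x * y * x⁻¹ = z) :
    k * x * k⁻¹ * (k * y * k⁻¹) * (k * x * k⁻¹)⁻¹ = k * z * k⁻¹ := by rw [← e]; group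

variable {K : Type} [Field K] [Fintype K] [CharP K 2] {m : ℕ} {σ θ : K ≃+* K} {a b c : K}
  {ξ w h : Perm (Fin m → K)} {u v p k n y y' : Fin m → K} {B H M : Subgroup (Perm (Fin m → K))}
  {G : Type*} [Group G] [Finite G] {ρ : SU σ m →* G} {t g x : G}

theorem V.Fq.ntvX (d : Fq σ m u v p k) (j : y ∈ pp σ (Pl u v)) : E σ y' 0 1 ≠ E σ y 0 1 * E σ u v 0 := fun e => by
  obtain rfl : y' = y := hf_ext (σ := σ) fun z => by
    rw [d.comm, d.comm y]; exact sq_inj (by rw [← d.diagX j (d.E_X uP vP), ← e, d.E_diag (hf_zero_l _), one_mul])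
  exact d.ntv d.pr ((left_eq_mul.1 e).trans (E_zero u).symm)
theorem Sd.fq (d : Sd σ m) (p : Pr σ u v) : ∃ f k, Fq σ m u v f k :=
  let ⟨f, h1, h2⟩ := d.dual2 p.1 1 0
  let ⟨k, h3, h4⟩ := d.dual2 p.1 0 1
  ⟨f, k, d, p.2, h1, h2, h3, h4⟩

/-- an element multiplying the transvections by `a` -/
structure Ca (ρ : SU σ m →* G) (t : G) (u v : Fin m → K) (x : G) : Prop where
  ta : x * t * x⁻¹ = t * ev ρ u v 0
  o : ∀ w, hf σ w u = 0 → hf σ w v = 0 → w ∉ Pl u v → x * tv ρ w 1 * x⁻¹ = ev ρ u v 0 * tv ρ w 1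
  ee : ∀ w, hf σ w u = 0 → hf σ w v = 0 → x * ev ρ u w 0 * x⁻¹ = ev ρ u w 0

namespace F0
variable (d : Sd σ m) (f : F0 ρ t)
include d f

theorem ca_cj (i : h ∈ SU σ m) (e : Ca ρ t u v x) : Ca ρ t (h u) (h v) (up ρ h * x * (up ρ h)⁻¹) := by
  have s := su_sem i
  have k : ∀ u v a, ev ρ (h u) (h v) a = up ρ h * ev ρ u v a * (up ρ h)⁻¹ := fun u v a => by rw [← up_cj i (d.E_SU _ _ _), E_cj1 s]
  have k' : ∀ u a, tv ρ (h u) a = up ρ h * tv ρ u a * (up ρ h)⁻¹ := fun u a => by rw [← k, s.zero]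
  refine ⟨?_, fun w a b c => ?_, fun w a b => ?_⟩
  · have := cjx (up ρ h) e.ta
    rwa [conj_mul_conj _ t, conj_eq_iff.2 (f.tc h), ← k] at this
  all_goals obtain ⟨w, rfl⟩ := h.surjective w; rw [s.form1] at a b
  · rw [k, k', cjx _ (e.o w a b fun j => c ?_), conj_mul_conj]
    obtain ⟨_, _, rfl⟩ := Submodule.mem_span_pair.1 j
    rw [s.add, s.smul1, s.smul1]; exact cP _ _
  · rw [k, cjx _ (e.ee w a b)]
theorem nta (D : Pr σ u v) (i : x ∈ 𝐂₁(t)) (j : y ∈ pp σ (Pl u v)) : x * tv ρ y 1 * x⁻¹ ≠ tv ρ y 1 * ev ρ u v 0 := fun e => by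
  obtain ⟨θ, ξ, s, l⟩ := f.ind d i
  obtain ⟨_, _, D⟩ := d.fq D
  rw [l _ (tv_SU _ _), tv_cj s, map_one, ← up_mul (tv_SU _ _) (d.E_SU _ _ _)] at e
  exact D.ntvX j (d.up_inj f.ker (tv_SU _ _) (mul_mem (tv_SU _ _) (d.E_SU _ _ _)) e)
theorem nca (D : Pr σ u v) (e : Ca ρ t u v x) : x * tv ρ v 1 * x⁻¹ ≠ tv ρ v 1 := fun r => by
  obtain ⟨n, o, e₁, e₂⟩ := d.out2 u v
  have l := LinearIndependent.pair_iff.1 D.1
  have l3 := li_three D.1 o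
  rw [Fintype.linearIndependent_iff] at l3
  have l4 : ∀ a b c : K, a • n + b • u + c • v = 0 → a = 0 ∧ b = 0 ∧ c = 0 := fun a b c e =>
    have := l3 ![a, b, c] (by simpa [Fin.sum_univ_three] using e); ⟨this 0, this 1, this 2⟩
  have P₂ : Pr σ u n := ⟨LinearIndependent.pair_iff.2 fun a b e => by
    have := l4 b a 0 (by linear_combination (norm := module) e); grind, d.sw e₁⟩
  have P₃ : Pr σ u (v + n) := ⟨LinearIndependent.pair_iff.2 fun a b e => by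
    have := l4 b a b (by linear_combination (norm := module) e); grind, by simp [D.2, d.sw e₁]⟩
  obtain ⟨h₂, i₂, a₂, b₂⟩ := d.wpr D P₂
  obtain ⟨h₃, i₃, a₃, b₃⟩ := d.wpr D P₃
  obtain ⟨x₂, c₂⟩ : ∃ x, Ca ρ t u n x := ⟨_, a₂ ▸ b₂ ▸ f.ca_cj d i₂ e⟩
  obtain ⟨x₃, c₃⟩ : ∃ x, Ca ρ t u (v + n) x := ⟨_, a₃ ▸ b₃ ▸ f.ca_cj d i₃ e⟩
  have em : ∀ w w', hf σ w u = 0 → hf σ w' u = 0 → hf σ w' w = 0 → ev ρ u w 0 * ev ρ u w' 0 = ev ρ u (w + w') 0 := fun w w' a b c => by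
    rw [← up_mul (d.E_SU _ _ _) (d.E_SU _ _ _), d.E_mul a b, c]; simp
  have vu := d.sw D.2
  refine f.nta d D (x := x₃ * (x₂ * x)) (mem_c1.2 (conj_eq_iff.1 ?_)) (mN.2 ⟨vu, d.iso v⟩) ?_
  · calc _ = x₃ * (x₂ * (x * t * x⁻¹) * x₂⁻¹) * x₃⁻¹ := by group
      _ = _ := by
        rw [e.ta, conj_mul_conj x₂, c₂.ta, c₂.ee v vu (d.sw e₂), mul_assoc t, em n v e₁ vu (d.sw e₂), conj_mul_conj x₃, c₃.ta,
          c₃.ee _ (by simp [e₁, vu]) (by rw [add_comm, d.iso]), mul_assoc, add_comm n, ← up_mul (d.E_SU _ _ _) (d.E_SU _ _ _), d.E_sq,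
          up_one, mul_one]
  · calc _ = x₃ * (x₂ * (x * tv ρ v 1 * x⁻¹) * x₂⁻¹) * x₃⁻¹ := by group
      _ = _ := by
        rw [r, c₂.o v vu (d.sw e₂) fun j => ?_, conj_mul_conj x₃, c₃.ee n e₁ (by simp [e₂, d.iso]),
          c₃.o v vu (by simp [d.iso, d.sw e₂]) fun j => ?_, ← mul_assoc, em n _ e₁ (by simp [e₁, vu]) (by simp [d.iso, d.sw e₂]),
          add_comm v, ← add_assoc, vv, zero_add, ← up_mul (d.E_SU _ _ _) (tv_SU _ _), ← up_mul (tv_SU _ _) (d.E_SU _ _ _), d.E_swap D.2,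
          d.Q_comm (E_Q _ _ _) (E_Q _ _ _)]
        all_goals obtain ⟨a, b, j⟩ := Submodule.mem_span_pair.1 j
        · have := l4 b a (b - 1) (by linear_combination (norm := module) j); grind
        · have := l4 b a (-1) (by linear_combination (norm := module) j); grind

/-- the component in `L` -/
theorem au2 (lB : B ≤ SU σ m) (lH : H ≤ SU σ m) (wB : w ∈ B) (n : g ∈ 𝐍(im ρ B)) (e : g * t * g⁻¹ = t * up ρ w)
    (k : ∀ h ∈ H, g * up ρ h * g⁻¹ ∈ zpowers t ⊔ im ρ H) :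
    ∃ b b', Au H b b' ∧ ∀ h ∈ H, g * up ρ h * g⁻¹ = up ρ (b h) ∨ g * up ρ h * g⁻¹ = t * up ρ (b h) := by
  have nt : ∀ a b, up ρ a ≠ t * up ρ b := fun a b e =>
    f.tL d (eq_mul_inv_of_mul_eq e.symm ▸ mul_mem (up_range a) (inv_mem (up_range b)))
  have uq : ∀ x, ∀ a ∈ H, ∀ b ∈ H, (x = up ρ a ∨ x = t * up ρ a) → (x = up ρ b ∨ x = t * up ρ b) → a = b := by
    rintro x a i b j (rfl | rfl) (e | e)
    exacts [d.up_inj f.ker (lH i) (lH j) e, (nt _ _ e).elim, (nt _ _ e.symm).elim, d.up_inj f.ker (lH i) (lH j) (mul_left_cancel e)]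
  choose! b hb hb' using fun h i => (f.memA lH).1 (k h i)
  obtain ⟨c, c', a, o⟩ := au_inj hb (fun h i k j => uq _ _ (hb _ (mul_mem i j)) _ (mul_mem (hb h i) (hb k j)) (hb' _ (mul_mem i j)) (by
    rw [up_mul (lH i) (lH j), up_mul (lH (hb h i)) (lH (hb k j)), conj_mul_conj]
    rcases hb' h i with r | r <;> rcases hb' k j with r' | r' <;> rw [r, r']
    exacts [.inl rfl, .inr (by rw [← mul_assoc, f.tc, mul_assoc]), .inr (mul_assoc ..),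
      .inl (by rw [mul_assoc, ← mul_assoc _ t, f.tc, mul_assoc, ← mul_assoc t, f.t2, one_mul])])) fun h i z => by
    rcases hb' h i with r | r <;> rw [z, up_one] at r
    · exact d.up_inj f.ker (lH i) (one_mem _) ((conj_eq_one_iff.1 r).trans up_one.symm)
    · refine (f.tL d ?_).elim
      have := mul_mem (up_range (φ := ρ) h) (im_le (conj_mem_of_mem_normalizer' n (up_im wB (lB wB))))
      rwa [show up ρ h * (g⁻¹ * up ρ w * g) = g⁻¹ * (g * up ρ h * g⁻¹ * up ρ w) * g by group, r, mul_one, ← e,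
        show g⁻¹ * (g * t * g⁻¹) * g = t by group] at this
  exact ⟨c, c', a, fun h i => o h i ▸ hb' h i⟩

theorem exA (D : Pr σ u v) (n : g ∈ 𝐍(im ρ (XX σ u v))) (e : g * t * g⁻¹ = t * ev ρ u v 0) :
    ∃ x, x * t * x⁻¹ = t * ev ρ u v 0 ∧ (x, 1) ∈ Am (up ρ) (Yy σ u v) (zpowers t ⊔ im ρ (XX σ u v)) := by
  obtain ⟨p, k, F⟩ := d.fq D
  have lX : XX σ u v ≤ SU σ m := fun _ i => d.Q_SU i.1
  have lY : Yy σ u v ≤ SU σ m := fun _ i => i.1.1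
  have aX := F.E_X uP vP
  have nE := f.nE d lX aX n e
  have N := f.nrm d lX (H := HH σ u v) inf_le_left (fun k i => ⟨fun j => j.2, fun j => ⟨i, j⟩⟩) (fun M => d.H_gen D) nE
  obtain ⟨b, b', h, r⟩ := f.au2 d lX (H := HH σ u v) inf_le_left aX n e fun h i => (em _).elim (fun q => mem_sup_right
    (conj_mem_of_mem_normalizer (N.1 (d.H_perf D q)) (up_im i i.1))) fun q => N.2 q h i
  obtain ⟨θ, ξ, s, nY, nX, o⟩ := d.a1B' D h
  have W : ∀ c : K, c ≠ 0 → ∃ h ∈ SU σ m ⊓ (𝐍(Yy σ u v) ⊓ 𝐍(XX σ u v)), ∀ a : K, h * E σ u (a • v) 0 * h⁻¹ = E σ u ((a * c) • v) 0 :=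
    fun c c0 => by
      obtain ⟨h, i, e₁, e₂⟩ := d.wpr D (u' := u) (v' := c • v) ⟨LinearIndependent.pair_iff.2 fun a b e => by
        have := LinearIndependent.pair_iff.1 D.1 a (b * c) (by rwa [mul_smul]); grind, by rw [d.smr, D.2, mul_zero]⟩
      have := F.nor (su_sem i) (e₁.symm ▸ uP) (e₂.symm ▸ Submodule.smul_mem _ c vP)
      exact ⟨h, ⟨i, this.1, this.2.1⟩, fun a => by rw [E_cj1 (su_sem i), (su_sem i).smul1, e₁, e₂, mul_smul]⟩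
  refine (f.trick d (ξ := ξ) (M := 𝐍(Yy σ u v) ⊓ 𝐍(XX σ u v)) lX (fun h i => ac_up lY i.1 i.2.1 (f.nE d lX (one_mem _)
    (im_nor lX i.1 i.2.2) (by rw [conj_eq_iff.2 (f.tc h), up_one, mul_one]))) inf_le_right n
    (fun z => d.ntv D (z.trans (E_zero u).symm)) aX e ⟨nY, nE, fun y j => (f.memA lX).2 ⟨_, o y j, ?_⟩⟩ s ⟨nY, nX⟩ (fun z i z1 => ?_)
    fun q => ?_).imp fun _ h => h.symm
  · rw [up_mul (h.m y (F.Y_H j)).1 (inv_mem (s.su (lY j))), up_inv (s.su (lY j)), ← mul_assoc t]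
    exact (r y (F.Y_H j)).imp (congrArg (· * _)) (congrArg (· * _))
  · obtain ⟨a, rfl⟩ := (d.mem_QQ D).1 i
    have a0 : a ≠ 0 := fun z => z1 (by rw [z, zero_smul, E_zero])
    obtain ⟨h, l, o⟩ := W a⁻¹ (inv_ne_zero a0)
    exact ⟨h, l, by rw [o, mul_inv_cancel₀ a0, one_smul]⟩
  · obtain ⟨c, c0, c1⟩ := ex_c q
    obtain ⟨h, l, o⟩ := W c c0
    refine ⟨h, l, fun z i e => ?_⟩
    obtain ⟨a, rfl⟩ := (d.mem_QQ D).1 i
    have := F.xinj ((o a).symm.trans e)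
    rw [show a = 0 by grind, zero_smul, E_zero]

theorem exB (ex : ¬ (m = 6 ∧ Nat.card K = 2)) (D : Pr σ u v) (e : x * t * x⁻¹ = t * ev ρ u v 0)
    (i : (x, 1) ∈ Am (up ρ) (Yy σ u v) (zpowers t ⊔ im ρ (XX σ u v))) : x ∈ 𝐂(im ρ (Yy σ u v)) := by
  obtain ⟨p, k, F⟩ := d.fq D
  have lX : XX σ u v ≤ SU σ m := fun _ i => d.Q_SU i.1
  have lY : Yy σ u v ≤ SU σ m := fun _ i => i.1.1
  obtain ⟨c, hc⟩ : ∃ c : Perm (Fin m → K) → G, ∀ y, c y = ⁅x, up ρ y⁆ := ⟨_, fun _ => rfl⟩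
  have cx : ∀ y, x * up ρ y * x⁻¹ = c y * up ρ y := fun y => by rw [hc, commutatorElement_def, inv_mul_cancel_right]
  have cE : ∀ y ∈ Yy σ u v, ∃ w ∈ XX σ u v, c y = up ρ w ∨ c y = t * up ρ w := fun y j =>
    (f.memA lX).1 (hc y ▸ ac_one i (up_im j (lY j)))
  have cY : ∀ y ∈ Yy σ u v, ∀ y' ∈ Yy σ u v, c y * up ρ y' = up ρ y' * c y := fun y j y' j' => by
    obtain ⟨w, a, r⟩ := cE y j
    have : up ρ w * up ρ y' = up ρ y' * up ρ w := by rw [← up_mul (lX a) (lY j'), F.X_c (F.Y_H j') a, up_mul (lY j') (lX a)]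
    rcases r with r | r <;> rw [r]
    exacts [this, by rw [mul_assoc, this, ← mul_assoc, ← f.tc, mul_assoc]]
  have cc : ∀ y ∈ Yy σ u v, ∀ y' ∈ Yy σ u v, c y * c y' = c y' * c y := fun y j y' j' => by
    obtain ⟨w, a, r⟩ := cE y j
    have k₁ := cY y' j' w (F.W_Y (F.X_W a))
    have k₂ : c y' * t = t * c y' := by
      obtain ⟨w, -, r | r⟩ := cE y' j' <;> rw [r]
      exacts [f.tc w, by rw [mul_assoc, f.tc]]
    rcases r with r | r <;> rw [r]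
    exacts [k₁.symm, by rw [mul_assoc, ← k₁, ← mul_assoc, ← k₂, mul_assoc]]
  have cm : ∀ y ∈ Yy σ u v, ∀ y' ∈ Yy σ u v, c (y * y') = c y * c y' := fun y j y' j' => by
    rw [hc, up_mul (lY j) (lY j'), cm_mul (by rw [← hc, ← up_inv (lY j)]; exact cY y' j' _ (inv_mem j)), hc, hc]
  have cj : ∀ y ∈ Yy σ u v, ∀ y' ∈ Yy σ u v, c (y * y' * y⁻¹) = c y' := fun y j y' j' => mul_right_cancel (b := c y) (by
    rw [← cm _ (mul_mem (mul_mem j j') (inv_mem j)) _ j, inv_mul_cancel_right, cm _ j _ j', cc _ j _ j'])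
  have fin : ∀ y ∈ Yy σ u v, c y = 1 → y ∈ prc ρ 1 𝐂₁(x) := fun y j r => ⟨lY j, by
    simpa using mem_c1.2 (conj_eq_iff.1 ((cx y).trans (by rw [r, one_mul]))).symm⟩
  suffices l : Yy σ u v ≤ prc ρ 1 𝐂₁(x) from mem_centralizer_iff'.2 fun y j => by
    obtain ⟨y, a, -, rfl⟩ := mem_im.1 j
    simpa using mem_c1.1 (l a).2
  by_cases q : 2 < Nat.card K
  · refine (d.Yy_perf D q).trans (commutator_le.2 fun y j y' j' => fin _ (commutator_le_self _ (commutator_mem_commutator j j')) ?_)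
    refine mul_right_cancel (b := c y') ?_
    rw [← cm _ (commutator_le_self _ (commutator_mem_commutator j j')) _ j', commutatorElement_def, inv_mul_cancel_right, cj _ j _ j', one_mul]
  have sp : ∀ {w x}, w ∉ Pl u v → x ∈ Pl u v → x + w ∉ Pl u v := fun o i j => o ((Submodule.add_mem_iff_right _ i).1 j)
  have c1 : ∀ w ∈ pp σ (Pl u v), w ∉ Pl u v → ∀ w' ∈ pp σ (Pl u v), w' ∉ Pl u v → c (E σ w' 0 1) = c (E σ w 0 1) := fun w a b w' a' b' => by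
    obtain ⟨h, l, h₁, h₂⟩ := d.wit3 (li_three D.1 b) (li_three D.1 b') rfl ((mN.1 a).1.trans (mN.1 a').1.symm)
      ((mN.1 a).2.trans (mN.1 a').2.symm)
    rw [← h₁, ← tv_cj1 (su_sem l), cj _ (mem_Yy.2 ⟨l, h₂⟩) _ (F.tv_Y a 1)]
  have ca : ∀ p ∈ Pl u v, ∀ w ∈ pp σ (Pl u v), c (E σ (p + w) 0 1) = c (E σ w 0 1) * (c (E σ p 0 1) * c (E σ p w 0)) := fun p a w b => by
    rw [d.tv_add (d.sw (b p a)), cm _ (mul_mem (F.tv_Y (F.PN a) 1) (F.tv_Y b 1)) _ (F.E_R a b 0).2, cm _ (F.tv_Y (F.PN a) 1) _ (F.tv_Y b 1),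
      cc _ (F.tv_Y (F.PN a) 1) _ (F.tv_Y b 1), mul_assoc]
  have c2 : ∀ p ∈ Pl u v, ∀ w ∈ pp σ (Pl u v), w ∉ Pl u v → c (E σ p w 0) = (c (E σ p 0 1))⁻¹ := fun p a w b o =>
    eq_inv_of_mul_eq_one_right (left_eq_mul.1 ((c1 _ (add_mem (F.PN a) b) (sp o a) w b o).trans (ca p a w b)))
  obtain ⟨n, a, o⟩ := F.exN
  have c3 : ∀ p ∈ Pl u v, c (E σ p 0 1) = 1 := fun p j => by
    obtain ⟨n', o', r⟩ := d.perp_out ![u, v, n] (Submodule.span K {n, u, v}) (by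
      have := tri_dim n u v
      have := d.hm; obtain ⟨r, rfl⟩ := d.ev
      have : Nat.card K = 2 := le_antisymm (not_lt.1 q) Finite.one_lt_card
      omega)
    have le : Pl u v ≤ Submodule.span K {n, u, v} := Submodule.span_mono (by simp)
    have a' : n' ∈ pp σ (Pl u v) := mN.2 ⟨d.sw (r 0), d.sw (r 1)⟩
    have := cm _ (F.E_R j a 0).2 _ (F.E_R j a' 0).2
    rw [d.E_mul (a p j) (a' p j), show hf σ n' n = 0 from d.sw (r 2), add_zero, add_zero, c2 p j n a o, c2 p j n' a' fun i => o' (le i),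
      c2 p j _ (add_mem a a') fun i => o' ((Submodule.add_mem_iff_right _ (Submodule.subset_span (by simp))).1 (le i))] at this
    exact inv_eq_one.1 (left_eq_mul.1 this)
  have c4 : ∀ w ∈ pp σ (Pl u v), c (E σ u w 0) = 1 := fun w b => by
    by_cases o : w ∈ Pl u v
    · simpa [c3 _ o, c3 _ uP, c3 _ (add_mem uP o), eq_comm] using ca u uP w b
    · rw [c2 u uP w b o, c3 u uP, inv_one]
  have xa : x * ev ρ u v 0 * x⁻¹ = ev ρ u v 0 := by rw [cx, c4 v (F.PN vP), one_mul]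
  have a2 : ev ρ u v 0 * ev ρ u v 0 = 1 := by rw [← up_mul (d.E_SU _ _ _) (d.E_SU _ _ _), d.E_sq, up_one]
  have x2 : c (E σ n 0 1) * (x * c (E σ n 0 1) * x⁻¹) ≠ ev ρ u v 0 := fun r => f.nta d D (x := x * x) (mem_c1.2 (conj_eq_iff.1 (by
      rw [show x * x * t * (x * x)⁻¹ = x * (x * t * x⁻¹) * x⁻¹ by group, e, conj_mul_conj, e, xa, mul_assoc, a2, mul_one]))) a (by
    rw [show x * x * tv ρ n 1 * (x * x)⁻¹ = x * (x * tv ρ n 1 * x⁻¹) * x⁻¹ by group, cx, cY _ (F.tv_Y a 1) _ (F.tv_Y a 1), conj_mul_conj,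
      cx, cY _ (F.tv_Y a 1) _ (F.tv_Y a 1), mul_assoc, r])
  obtain ⟨w, j, r⟩ := cE _ (F.tv_Y a 1)
  obtain ⟨b, rfl⟩ := (d.mem_QQ D).1 j
  rcases kq2 q b with rfl | rfl <;> rcases r with r | r <;> simp only [zero_smul, E_zero, up_one, mul_one, one_smul] at r
  · refine d.Yy_gen D fun w e₁ e₂ => fin _ (F.tv_Y (mN.2 ⟨e₁, e₂⟩) 1) ((em _).elim (c3 w) fun o' => ?_)
    rw [c1 n a o w (mN.2 ⟨e₁, e₂⟩) o', r]
  · exact (x2 (by rw [r, e, ← mul_assoc, f.t2, one_mul])).elim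
  · exact (f.nca d D ⟨e, fun w e₁ e₂ o' => by rw [cx, c1 n a o w (mN.2 ⟨e₁, e₂⟩) o', r], fun w e₁ e₂ => by
      rw [cx, c4 w (mN.2 ⟨e₁, e₂⟩), one_mul]⟩ (by rw [cx, c3 v vP, one_mul])).elim
  · exact (x2 (by rw [r, conj_mul_conj, e, xa, mul_assoc t _ (ev ρ u v 0), a2, mul_one, mul_assoc, f.tc, ← mul_assoc, f.t2, one_mul])).elim

theorem nX2 (D : Pr σ u v) (q : ¬ 2 < Nat.card K) (n : g ∈ 𝐍(im ρ (Z σ u))) (e : g * t * g⁻¹ = t * ev ρ u v 0)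
    (r : g * ev ρ u v 0 * g⁻¹ = ev ρ u (c • v) b) : g ∈ 𝐍(im ρ (XX σ u v)) := by
  have vu := d.sw D.2
  have z : g * tv ρ u 1 * g⁻¹ = tv ρ u 1 := by
    obtain ⟨w, i, -, k⟩ := mem_im.1 (conj_mem_of_mem_normalizer n (up_im (tv_Z u 1) (tv_SU _ _)))
    obtain ⟨a, rfl⟩ := d.memZ.1 i
    rcases kq2 q a with rfl | rfl
    · rw [E_zero, up_one, eq_comm, conj_eq_one_iff, ← up_one (φ := ρ), ← E_zero (σ := σ) u] at k
      exact absurd ((d.E_inj D.u0 (hf_zero_l _) (hf_zero_l _)).1 (d.up_inj f.ker (tv_SU _ _) (tv_SU _ _) k)).1 one_ne_zero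
    · exact k.symm
  rcases kq2 q c with rfl | rfl
  · obtain ⟨w, i, j, k⟩ := mem_im.1 ((mem_normalizer_iff.1 n _).2 (by rw [r, zero_smul]; exact up_im (tv_Z u b) (tv_SU _ _)))
    obtain ⟨a, rfl⟩ := d.memZ.1 i
    exact (d.ntv D (d.up_inj f.ker (d.E_SU _ _ _) j k.symm)).elim
  rw [one_smul] at r
  rcases kq2 q b with rfl | rfl
  · refine mem_normalizer_of_conj_mem fun y i => ?_
    obtain ⟨w, j, l, rfl⟩ := mem_im.1 i
    obtain ⟨a, rfl⟩ := (d.mem_QQ D).1 j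
    rcases kq2 q a with rfl | rfl
    · simp
    · rw [one_smul] at i ⊢; rwa [r]
  obtain ⟨s, i, s₁, s₂⟩ := d.wpr D (D.symm d)
  have az : ∀ a, ev ρ u v a * tv ρ u 1 = ev ρ u v (a + 1) := fun a => by
    rw [← up_mul (d.E_SU _ _ _) (tv_SU _ _), d.E_mul vu (hf_zero_l _)]; simp
  have r' : g * ev ρ u v 1 * g⁻¹ = ev ρ u v 0 := by
    rw [← zero_add (1 : K), ← az, conj_mul_conj, r, z, az, CharTwo.add_self_eq_zero]
  have sa : up ρ s * ev ρ u v 0 * (up ρ s)⁻¹ = ev ρ u v 0 := by rw [← up_cj i (d.E_SU _ _ _), E_cj1 (su_sem i), s₁, s₂, d.E_swap vu]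
  have bk : ∀ y, up ρ s * (g * y * g⁻¹) * (up ρ s)⁻¹ = g * y * g⁻¹ ↔ g⁻¹ * up ρ s * g * y = y * (g⁻¹ * up ρ s * g) := fun y =>
    ⟨fun k => by rw [show y * _ = g⁻¹ * (g * y * g⁻¹) * up ρ s * g by group, ← k]; group,
      fun k => by rw [show up ρ s * _ * _ = g * (g⁻¹ * up ρ s * g * y) * g⁻¹ * (up ρ s)⁻¹ by group, k]; group⟩
  obtain ⟨θ, ξ, l, o⟩ := f.ind d (mem_c1.2 ((bk t).1 (by rw [e, conj_mul_conj, sa, conj_eq_iff.2 (f.tc s)])))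
  have k := conj_eq_iff.2 (d.i_cm f.ker l o (d.E_SU u v 1) ((bk _).1 (by rw [r', sa])))
  rw [E_cj l, map_one] at k
  have k' : ξ u = u := hf_ext (σ := σ) fun x => by
    rw [d.comm, d.comm u]
    exact sq_inj (by rw [← one_mul (_ * _), ← d.E_diag (n := ξ v) (by rw [l.form, vu, map_zero]), k, d.E_diag vu, one_mul])
  have := (bk (tv ρ u 1)).2 (conj_eq_iff.1 (by rw [o _ (tv_SU _ _), tv_cj l, map_one, k']))
  rw [z, ← up_cj i (tv_SU _ _)] at this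
  have := d.tv_fix (su_sem i) (conj_eq_iff.1 (d.up_inj f.ker ((su_sem i).su (tv_SU _ _)) (tv_SU _ _) this))
  simpa using (LinearIndependent.pair_iff.1 D.1 1 1 (by rw [one_smul, one_smul, ← s₁, this, vv])).1
end F0

theorem F0.exb' (d : Sx σ m) (f : F0 ρ t) (e : g * t * g⁻¹ = t * ev ρ (bv 0) (bv 1) 0) (n₁ : g ∈ 𝐍(im ρ (Z σ (bv 0))))
    (n₂ : g ∈ 𝐍(im ρ (UT σ m ⊓ 𝐂(UT σ m)))) (n₃ : 2 < Nat.card K → g ∈ 𝐍(im ρ (X0 m σ))) : ∃ x, Xb ρ t x := by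
  have x := d.ex
  replace d := d.toSd
  obtain ⟨x, a, b⟩ := f.exA d d.pr01 ((em _).elim n₃ fun q => by
    obtain ⟨w, i, -, k⟩ := mem_im.1 (conj_mem_of_mem_normalizer n₂ (up_im (d.zU.2 ⟨1, 0, by rw [one_smul]⟩) (d.E_SU (bv 0) (bv 1) 0)))
    obtain ⟨c, a, rfl⟩ := d.zU.1 i
    exact f.nX2 d d.pr01 q n₁ e k.symm) e
  exact ⟨x, a, f.exB d ‹_› d.pr01 a b⟩

end CF.Sq
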