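import Cfsg.Agent.Sq.D1

/-! Automorphisms of the vector stabiliser in the symplectic group. -/

set_option autoImplicit false
set_option linter.unusedSectionVars false
set_option linter.unusedVariables false

namespace CF.Sq

open Cfsg Subgroup Equiv CF.Loc CF.LX CF.Ud Module
open scoped commutatorElement

section au
variable {P : Type*} [Group P] {H A : Subgroup P} {b b' : P → P} {g k ξ : P}

/-- automorphisms of a subgroup as functions -/
structure Au (H : Subgroup P) (b b' : P → P) : Prop where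
  m : ∀ g ∈ H, b g ∈ H
  m' : ∀ g ∈ H, b' g ∈ H
  mul : ∀ g ∈ H, ∀ k ∈ H, b (g * k) = b g * b k
  l : ∀ g ∈ H, b' (b g) = g
  r : ∀ g ∈ H, b (b' g) = g

theorem au_of (f : MulAut H) : Au H (up (H.subtype.comp f.toMonoidHom)) (up (H.subtype.comp f⁻¹.toMonoidHom)) :=
  have k : ∀ (f : MulAut H), ∀ g ∈ H, up (H.subtype.comp f.toMonoidHom) g ∈ H := fun f g i => by rw [up_eq i]; exact (f _).2
  ⟨k f, k f⁻¹, fun _ i _ j => up_mul i j, fun g i => by rw [up_eq (k f g i)]; simp [up_eq i],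
    fun g i => by rw [up_eq (k f⁻¹ g i)]; simp [up_eq i]⟩

namespace Au
variable (h : Au H b b')
include h
theorem inj (i : g ∈ H) (j : k ∈ H) (e : b g = b k) : g = k := by rw [← h.l g i, e, h.l k j]
theorem symm : Au H b' b := ⟨h.m', h.m, fun g i k j => h.inj (h.m' _ (mul_mem i j)) (mul_mem (h.m' g i) (h.m' k j)) (by
  rw [h.mul _ (h.m' g i) _ (h.m' k j), h.r _ (mul_mem i j), h.r g i, h.r k j]), h.r, h.l⟩
theorem one : b 1 = 1 := by simpa using h.mul 1 (one_mem _) 1 (one_mem _)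
theorem inv (i : g ∈ H) : b g⁻¹ = (b g)⁻¹ := eq_inv_of_mul_eq_one_left (by rw [← h.mul _ (inv_mem i) _ i, inv_mul_cancel, h.one])
theorem cj (i : g ∈ H) (j : k ∈ H) : b (g * k * g⁻¹) = b g * b k * (b g)⁻¹ := by
  rw [h.mul _ (mul_mem i j) _ (inv_mem i), h.mul _ i _ j, h.inv i]
theorem comm (i : g ∈ H) (j : k ∈ H) : b ⁅g, k⁆ = ⁅b g, b k⁆ := by
  rw [commutatorElement_def, h.mul _ (mul_mem (mul_mem i j) (inv_mem i)) _ (inv_mem j), h.cj i j, h.inv j]; rfl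
theorem cm (i : g ∈ H) (j : k ∈ H) (e : g * k = k * g) : b g * b k = b k * b g := by rw [← h.mul _ i _ j, e, h.mul _ j _ i]
theorem conj (n : ξ ∈ 𝐍(H)) : Au H (fun g => ξ⁻¹ * b g * ξ) fun g => b' (ξ * g * ξ⁻¹) :=
  ⟨fun g i => conj_mem_of_mem_normalizer' n (h.m g i), fun g i => h.m' _ (conj_mem_of_mem_normalizer n i),
    fun g i k j => by rw [h.mul g i k j]; group, fun g i => by simpa [mul_assoc] using h.l g i,
    fun g i => by rw [h.r _ (conj_mem_of_mem_normalizer n i)]; group⟩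
theorem cent (l : A ≤ H) (e : ∀ g ∈ A, b' g ∈ A) (i : g ∈ H) (j : g ∈ 𝐂(A)) : b g ∈ 𝐂(A) := mem_centralizer_iff'.2 fun k a => by
  rw [← h.r k (l a)]; exact h.cm (l (e k a)) i (mem_centralizer_iff'.1 j _ (e k a))
theorem o2 [Finite P] (l : A ≤ H) (two : IsPGroup 2 A) (n : H ≤ 𝐍(A)) (mx : ∀ B ≤ H, IsPGroup 2 B → H ≤ 𝐍(B) → B ≤ A) (i : g ∈ A) :
    b g ∈ A :=
  mx ((A.subgroupOf H).map (MonoidHom.mk' (fun g : H => b g) fun g k => h.mul g g.2 k k.2))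
    (by rintro _ ⟨x, -, rfl⟩; exact h.m _ x.2) ((isPGroup_subgroupOf two).map _) (fun y j => mem_normalizer_of_conj_mem (by
      rintro _ ⟨x, a, rfl⟩
      exact ⟨⟨b' y, h.m' y j⟩ * x * (⟨b' y, h.m' y j⟩ : H)⁻¹, conj_mem_of_mem_normalizer (H := A) (n (h.m' y j)) a,
        (h.cj (h.m' y j) x.2).trans (by rw [h.r y j]; rfl)⟩)) ⟨⟨g, l i⟩, i, rfl⟩
end Au

/-- the automorphism induced by an element of the normaliser of the image -/
theorem au_ex {G : Type*} [Group G] {S : Subgroup P} {ρ : S →* G} (inj : Function.Injective ρ) (l : H ≤ S) {x : G} (n : x ∈ 𝐍(im ρ H)) :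
    ∃ b b', Au H b b' ∧ ∀ g ∈ H, x * up ρ g * x⁻¹ = up ρ (b g) := by
  have ui : ∀ g ∈ H, ∀ k ∈ H, up ρ g = up ρ k → g = k := fun g i k j e => by
    rw [up_eq (l i), up_eq (l j)] at e; exact congrArg Subtype.val (inj e)
  have k : ∀ x ∈ 𝐍(im ρ H), ∀ g, ∃ k, g ∈ H → k ∈ H ∧ x * up ρ g * x⁻¹ = up ρ k := fun x n g => by
    by_cases i : g ∈ H
    · obtain ⟨k, a, -, e⟩ := mem_im.1 (conj_mem_of_mem_normalizer n (up_im i (l i)))
      exact ⟨k, fun _ => ⟨a, e.symm⟩⟩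
    · exact ⟨1, fun j => absurd j i⟩
  choose b hb using k x n
  choose b' hb' using k x⁻¹ (inv_mem n)
  refine ⟨b, b', ⟨fun g i => (hb g i).1, fun g i => (hb' g i).1, fun g i k j => ui _ (hb _ (mul_mem i j)).1 _
    (mul_mem (hb g i).1 (hb k j).1) ?_, fun g i => ui _ (hb' _ (hb g i).1).1 _ i ?_, fun g i => ui _ (hb _ (hb' g i).1).1 _ i ?_⟩,
    fun g i => (hb g i).2⟩
  · rw [up_mul (l (hb g i).1) (l (hb k j).1), ← (hb g i).2, ← (hb k j).2, ← (hb _ (mul_mem i j)).2, up_mul (l i) (l j)]; group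
  · rw [← (hb' _ (hb g i).1).2, ← (hb g i).2]; group
  · rw [← (hb _ (hb' g i).1).2, ← (hb' g i).2]; group
end au

variable {K : Type} [Field K] [Fintype K] [CharP K 2] {m : ℕ} {σ θ : K ≃+* K} {a c : K}
  {g p ξ w : Perm (Fin m → K)} {u v x y n u' v' n' : Fin m → K} {P H : Subgroup (Perm (Fin m → K))}
  {S T : Submodule K (Fin m → K)} {b b' : Perm (Fin m → K) → Perm (Fin m → K)}

theorem not_span1 (j : x ∉ Submodule.span K {v, n}) : x ∉ Submodule.span K {v} ∧ n + x ∉ Submodule.span K {v} :=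
  ⟨fun k => j (Submodule.span_mono (by simp) k), fun k => j (by
    simpa using sub_mem (Submodule.span_mono (t := {v, n}) (by simp) k) (Submodule.subset_span (show n ∈ ({v, n} : Set _) by simp)))⟩
theorem tri_dim (a b c : Fin m → K) : finrank K (Submodule.span K {a, b, c}) ≤ 3 := by
  have := span_dim ![a, b, c]
  rwa [Matrix.range_cons, Matrix.range_cons_cons_empty b c ![]] at this

namespace Sd
variable (d : Sd σ m)
include d

/-- additive similitudes are semilinear -/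
theorem semi (nd : ∀ x ∈ S, (∀ y ∈ S, hf σ x y = 0) → x = 0) (S0 : S ≠ ⊥) {φ : (Fin m → K) → Fin m → K} {l : K → K}
    (mS : ∀ x ∈ S, φ x ∈ S) (add : ∀ x ∈ S, ∀ y ∈ S, φ (x + y) = φ x + φ y) (li : ∀ a, l a = 0 → a = 0)
    (h : ∀ x ∈ S, ∀ y ∈ S, hf σ (φ x) (φ y) = l (hf σ x y)) :
    ∃ θ : K ≃+* K, (∀ c, ∀ x ∈ S, φ (c • x) = θ c • φ x) ∧ ∀ a, l a = l 1 * θ a := by
  have z : φ 0 = 0 := by simpa using add 0 S.zero_mem 0 S.zero_mem
  have l0 : l 0 = 0 := by simpa [z] using (h 0 S.zero_mem 0 S.zero_mem).symm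
  have l1 : l 1 ≠ 0 := fun e => one_ne_zero (li 1 e)
  have inj : ∀ x ∈ S, φ x = 0 → x = 0 := fun x i e => nd x i fun y j => li _ (by rw [← h x i y j, e, hf_zero_l])
  have sj : ∀ z ∈ S, ∃ x ∈ S, φ x = z := fun z i => by
    obtain ⟨x, e⟩ := Finite.surjective_of_injective (f := fun x : S => (⟨φ x, mS x x.2⟩ : S)) (fun x y e => Subtype.ext (Dq.add_eq0.1
      (inj _ (add_mem x.2 y.2) (by rw [add _ x.2 _ y.2, show φ x = φ y from congrArg Subtype.val e, vv])))) ⟨z, i⟩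
    exact ⟨x, x.2, congrArg Subtype.val e⟩
  have pt : ∀ x ∈ S, x ≠ 0 → ∃ y ∈ S, hf σ x y = 1 := fun x i x0 => by
    obtain ⟨y, e⟩ := not_forall.1 (mt (nd x i) x0)
    obtain ⟨j, e⟩ := Classical.not_imp.1 e
    exact ⟨(hf σ x y)⁻¹ • y, S.smul_mem _ j, by rw [d.smr, inv_mul_cancel₀ e]⟩
  have key : ∀ c, ∀ x ∈ S, φ (c • x) = (l c / l 1) • φ x := fun c x i => by
    by_cases x0 : x = 0
    · simp [x0, z]
    obtain ⟨y, j, e⟩ := pt x i x0
    refine Dq.add_eq0.1 (nd _ (add_mem (mS _ (S.smul_mem c i)) (S.smul_mem _ (mS x i))) fun w k => ?_)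
    obtain ⟨y', j', e'⟩ := pt _ (mS x i) (mt (inj x i) x0)
    have pp : ∀ w ∈ S, hf σ (φ (c • x)) w = hf σ (φ (c • x)) y' * hf σ (φ x) w := fun w k => by
      obtain ⟨w', k', f⟩ := sj _ (add_mem k (S.smul_mem (hf σ (φ x) w) j'))
      have h1 := h x i w' k'
      have h2 := h _ (S.smul_mem c i) w' k'
      rw [f, hf_add_r, d.smr, e', mul_one, CharTwo.add_self_eq_zero] at h1
      rw [f, hf_smul_l, li _ h1.symm, mul_zero, l0, hf_add_r, d.smr] at h2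
      grind
    have := pp _ (mS y j)
    rw [h _ (S.smul_mem c i) y j, h x i y j, hf_smul_l, e, mul_one] at this
    rw [hf_add_l, hf_smul_l, pp _ k, this, mul_div_cancel_right₀ _ l1, CharTwo.add_self_eq_zero]
  obtain ⟨x, i, x0⟩ := S.ne_bot_iff.1 S0
  have ij : ∀ a c : K, a • φ x = c • φ x → a = c := fun a c o => smul_left_injective K (mt (inj x i) x0) o
  let t : K →+* K :=
    { toFun := fun c => l c / l 1
      map_one' := div_self l1
      map_mul' := fun a c => ij _ _ (by rw [← key _ x i, mul_smul, key _ _ (S.smul_mem c i), key c x i, mul_smul])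
      map_zero' := by simp [l0]
      map_add' := fun a c => ij _ _ (by
        rw [← key _ x i, add_smul, add _ (S.smul_mem a i) _ (S.smul_mem c i), key a x i, key c x i, add_smul]) }
  exact ⟨RingEquiv.ofBijective t (Finite.injective_iff_bijective.1 t.injective), key, fun a => (mul_div_cancel₀ _ l1).symm⟩
/-- Witt's theorem for semilinear maps -/
theorem ext_sem (θ : K ≃+* K) {φ : (Fin m → K) → Fin m → K} (add : ∀ x ∈ S, ∀ y ∈ S, φ (x + y) = φ x + φ y)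
    (sm : ∀ c, ∀ x ∈ S, φ (c • x) = θ c • φ x) (inj : ∀ x ∈ S, φ x = 0 → x = 0)
    (h : ∀ x ∈ S, ∀ y ∈ S, hf σ (φ x) (φ y) = θ (hf σ x y)) : ∃ ξ, Sem σ θ ξ ∧ ∀ x ∈ S, ξ x = φ x := by
  obtain rfl := d.one
  have s := (Dq.co_sem (θ := θ) (m := m)).inv
  have e : ∀ c, θ⁻¹ (θ c) = c := θ.symm_apply_apply
  let ψ : S →ₗ[K] (Fin m → K) := ⟨⟨fun x => (Dq.co θ m)⁻¹ (φ x), fun x y => by rw [← s.add, ← add _ x.2 _ y.2]; rfl⟩,
    fun c x => by change _ = c • _; rw [← e c, ← s.smul, ← sm _ _ x.2, e]; rfl⟩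
  obtain ⟨g, a, -, k⟩ := d.sm.wp.extend_map S ψ ((injective_iff_map_eq_zero ψ).2 fun x o => Subtype.ext (inj _ x.2
    (by_contra fun z => s.ne z o))) (fun x y => by
      change hf 1 ((Dq.co θ m)⁻¹ (φ y)) ((Dq.co θ m)⁻¹ (φ x)) = hf 1 y.1 x.1
      rw [s.form, h _ y.2 _ x.2, e]) fun _ => rfl
  refine ⟨Dq.co θ m * pm 1 m ⟨g, Geom.mem_UG.2 a⟩, by simpa using Dq.co_sem.mul (pm_sem _), fun x i => ?_⟩
  rw [Perm.mul_apply, pm_ap, k ⟨x, i⟩]
  exact (Dq.co θ m).apply_symm_apply _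
theorem Y_nQ : Y σ v ≤ 𝐍(Q σ v) := fun g i => mem_normalizer_of_conj_mem fun p j => by
  obtain ⟨n, a, -, rfl⟩ := d.mem_Q.1 j
  rw [E_cj1 (su_sem i.1), show g v = v from i.2]; exact E_Q _ _ _
theorem Q_two : IsPGroup 2 (Q σ v) := isPGroup_iff_forall.2 fun g i => e2_inv (d.Q_sq i)
theorem cY0 (i : ξ ∈ Gam σ m) (e : ξ ∈ 𝐂(Y σ v)) : ∃ a, ξ = E σ v 0 a := by
  have k : ∀ w, hf σ w v = 0 → ξ * E σ w 0 1 = E σ w 0 1 * ξ := fun w o => (mem_centralizer_iff'.1 e _ (d.tv_Y o 1)).symm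
  obtain rfl := d.one
  exact d.sm.W1 (d.sm.cY1 (d.sm.ti_one v) i fun w o => k w (d.sw (o v (Submodule.mem_span_singleton_self v))))
theorem tv_cY (a : K) : E σ v 0 a ∈ 𝐂(Y σ v) := mem_centralizer_iff'.2 fun g i => conj_eq_iff.1 (by
  rw [tv_cj1 (su_sem i.1), show g v = v from i.2])
theorem sem_nQ (v0 : v ≠ 0) (s : Sem σ θ ξ) (e : ξ v = c • v) : ξ ∈ 𝐍(Q σ v) := mem_normalizer_of_conj_mem fun p j => by
  obtain ⟨n, a, -, rfl⟩ := d.mem_Q.1 j
  rw [E_cj s, e]; exact d.Q_sm c (E_Q _ _ _)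
theorem sem_nY (v0 : v ≠ 0) (s : Sem σ θ ξ) (e : ξ v = c • v) : ξ ∈ 𝐍(Y σ v) := mem_normalizer_of_conj_mem fun p j => ⟨s.su j.1, by
  have c0 : c ≠ 0 := fun z => s.ne v0 (by rw [e, z, zero_smul])
  have : ξ⁻¹ v = θ⁻¹ c⁻¹ • v := by rw [Perm.inv_eq_iff_eq, s.smul, e, show θ (θ⁻¹ c⁻¹) = c⁻¹ from θ.apply_symm_apply _, inv_smul_smul₀ c0]
  change ξ (p (ξ⁻¹ v)) = v
  rw [this, (su_sem j.1).smul1, show p v = v from j.2, ← this]; simp⟩
theorem a1' (v0 : v ≠ 0) (h : Au (Y σ v) b b') : ∃ θ ξ, ∃ β : K, Sem σ θ ξ ∧ ξ v = β • v ∧ (∀ g ∈ Q σ v, b g = ξ * g * ξ⁻¹) ∧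
    ∀ g ∈ Y σ v, b g * (ξ * g * ξ⁻¹)⁻¹ ∈ Q σ v := by
  obtain ⟨y, e⟩ := d.partner v0
  have e' := (d.comm _ _).trans e
  have QY : ∀ n a, E σ v n a ∈ Y σ v := fun n a => d.Q_Y (E_Q _ _ _)
  choose φ ψ φv φy hφ using fun n => show ∃ n' a, hf σ n' v = 0 ∧ hf σ n' y = 0 ∧ b (E σ v n 0) = E σ v n' a by
    obtain ⟨n', a, o, k⟩ := d.mem_Q.1 (h.o2 d.Q_Y d.Q_two d.Y_nQ (fun B l t r => d.o2Y v0 t l r) (E_Q v n 0))
    exact ⟨n' + hf σ n' y • v, a, by simp [o, d.iso], by simp [e', CharTwo.add_self_eq_zero], by rw [k, d.E_shift o]⟩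
  choose l hl using fun a => d.cY0 (GU_le (SU_le (h.m _ (QY 0 a)).1)) (h.cent le_rfl h.m' (QY 0 a) (d.tv_cY a))
  have z := hf_zero_l (σ := σ) v
  have bE : ∀ n a, hf σ n v = 0 → b (E σ v n a) = E σ v (φ n) (ψ n + l a) := fun n a o => by
    rw [show E σ v n a = E σ v n 0 * E σ v 0 a by simp [d.E_mul o z], h.mul _ (QY _ _) _ (QY _ _), hφ, hl, d.E_mul (φv n) z]; simp
  have uq : ∀ {n n' a a'}, hf σ n v = 0 → hf σ n y = 0 → hf σ n' v = 0 → hf σ n' y = 0 → E σ v n a = E σ v n' a' → n = n' ∧ a = a' :=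
    fun {n n' a a'} h1 h2 h3 h4 k => by
      obtain ⟨k', c, rfl⟩ := (d.E_inj v0 h1 h3).1 k
      rw [hf_add_l, hf_smul_l, h2, e', zero_add, mul_one] at h4
      exact ⟨by simp [h4], k'⟩
  have rel : ∀ n n', hf σ n v = 0 → hf σ n' v = 0 → φ (n + n') = φ n + φ n' ∧
      ψ (n + n') + l (hf σ n' n) = ψ n + ψ n' + hf σ (φ n') (φ n) := fun n n' o o' => by
    have := h.mul _ (QY n 0) _ (QY n' 0)
    rw [d.E_mul o o', bE _ _ (by simp [o, o']), hφ, hφ, d.E_mul (φv _) (φv _), add_zero, zero_add] at this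
    exact uq (φv _) (φy _) (by simp [φv]) (by simp [φy]) this
  have fv : ∀ c : K, φ (c • v) = 0 ∧ ψ (c • v) = 0 := fun c => by
    have := hφ (c • v)
    rw [← zero_add (c • v), d.E_shift z, E_zero, h.one, ← E_zero (σ := σ) v, zero_add] at this
    exact (uq z (hf_zero_l y) (φv _) (φy _) this).imp Eq.symm Eq.symm
  have l0 : l 0 = 0 := by
    have := hl 0
    rw [E_zero, h.one, ← E_zero (σ := σ) v] at this
    exact ((d.E_inj v0 z z).1 this).1.symm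
  have cst : ∀ n n', hf σ n v = 0 → hf σ n' v = 0 → n ∉ Submodule.span K {v} → n' ∉ Submodule.span K {v} → ψ n' = ψ n :=
    fun n n' o o' j j' => by
      obtain ⟨g, i, h1, rfl⟩ := d.wit2 (li_two v0 j) (li_two v0 j') ((d.sw o).trans (d.sw o').symm)
      have k := h.m g ⟨i, h1⟩
      have := h.cj ⟨i, h1⟩ (QY n 0)
      rw [E_cj1 (su_sem i), h1, hφ, hφ, E_cj1 (su_sem k.1), show b g v = v from k.2] at this
      exact ((d.E_inj v0 (φv _) (by rw [← show b g v = v from k.2, (su_sem k.1).form1, φv])).1 this).1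
  have ψ0 : ∀ n, hf σ n v = 0 → ψ n = 0 := fun n o => by
    by_cases j : n ∈ Submodule.span K {v}
    · obtain ⟨c, rfl⟩ := Submodule.mem_span_singleton.1 j
      exact (fv c).2
    have k : ∀ x, hf σ x v = 0 → hf σ x n = 0 → x ∉ Submodule.span K {v, n} → hf σ (φ x) (φ n) = ψ n := fun x a b c => by
      have := (rel n x o a).2
      rw [b, l0, cst n x o a j (not_span1 c).1, cst n _ o (by simp [o, a]) j (not_span1 c).2] at this
      grind
    obtain ⟨x, h1, h2, h3⟩ := d.out2 v n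
    obtain ⟨x', h4, h5⟩ := d.perp_out ![v, n] (Submodule.span K {v, n, x}) (by have := tri_dim v n x; have := d.hm; omega)
    have h6 := d.sw (h5 0); have h7 := d.sw (h5 1)
    have := k (x + x') (by simpa [h2] using h6) (by simpa [h3] using h7) fun l => h4 (by
      simpa using sub_mem (Submodule.span_mono (t := {v, n, x}) (by simp [Set.insert_subset_iff]) l)
        (Submodule.subset_span (show x ∈ ({v, n, x} : Set _) by simp)))
    rw [(rel x x' h2 h6).1, hf_add_l, k x h2 h3 h1, k x' h6 h7 fun l => h4 (Submodule.span_mono (by simp [Set.insert_subset_iff]) l)] at this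
    grind
  have fm : ∀ n n', hf σ n v = 0 → hf σ n' v = 0 → hf σ (φ n) (φ n') = l (hf σ n n') := fun n n' o o' => by
    simpa [ψ0 n o, ψ0 n' o', ψ0 (n' + n) (by simp [o, o'])] using (rel n' n o' o).2.symm
  have li : ∀ a, l a = 0 → a = 0 := fun a k => ((d.E_inj v0 z z).1 (h.inj (QY 0 a) (QY 0 0) (by rw [hl, hl, k, l0]))).1
  have mp : ∀ {x}, x ∈ pp σ (Submodule.span K {v, y}) ↔ hf σ x v = 0 ∧ hf σ x y = 0 := Geom.mem_perp_pair
  have pj : ∀ x, hf σ x v = 0 → x + hf σ x y • v ∈ pp σ (Submodule.span K {v, y}) ∧ φ (x + hf σ x y • v) = φ x := fun x o =>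
    ⟨mp.2 ⟨by simp [o, d.iso], by simp [e', CharTwo.add_self_eq_zero]⟩, by rw [(rel _ _ o (by simp [d.iso])).1, (fv _).1, add_zero]⟩
  obtain ⟨θ, sm, lm⟩ := d.semi (S := pp σ (Submodule.span K {v, y})) (φ := φ) (l := l) (fun x i k => nd (σ := σ) fun w => by
      have := k (w + hf σ w y • v + hf σ w v • y) (mp.2 ⟨by simp [e, d.iso, CharTwo.add_self_eq_zero],
        by simp [e', d.iso, CharTwo.add_self_eq_zero]⟩)
      simpa [(mp.1 i).1, (mp.1 i).2] using this)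
    (fun k => by
      obtain ⟨w, a, o⟩ := d.out2 v y
      exact a (by rw [(Submodule.mem_bot K).1 (k.le (mp.2 o))]; exact zero_mem _))
    (fun x _ => mp.2 ⟨φv x, φy x⟩) (fun x i y j => (rel x y (mp.1 i).1 (mp.1 j).1).1) li fun x i y j => fm x y (mp.1 i).1 (mp.1 j).1
  have sm' : ∀ c x, hf σ x v = 0 → φ (c • x) = θ c • φ x := fun c x o => by
    rw [← (pj x o).2, ← sm c _ (pj x o).1, ← (pj (c • x) (by simp [o])).2, hf_smul_l, smul_add, smul_smul]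
  obtain ⟨β, hβ⟩ := exists_rt (l 1)
  have β0 : β ≠ 0 := fun k => one_ne_zero (li 1 (by rw [← hβ, k, mul_zero]))
  have m1 : ∀ {x}, x ∈ pp σ (Submodule.span K {v}) ↔ hf σ x v = 0 := Geom.mem_perp_singleton
  obtain ⟨ξ, s, hξ⟩ := d.ext_sem (S := pp σ (Submodule.span K {v})) θ (φ := fun x => (θ (hf σ x y) * β) • v + β⁻¹ • φ x)
    (fun x i x' j => by simp only [hf_add_l, map_add, (rel x x' (m1.1 i) (m1.1 j)).1]; module)
    (fun c x i => by simp only [hf_smul_l, map_mul, sm' c x (m1.1 i)]; module) (fun x i k => by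
      have h1 : hf σ x y = 0 := by simpa [e', φy, β0] using congrArg (hf σ · y) k
      have h2 : φ x = 0 := by simpa [h1, β0] using k
      refine nd (σ := σ) fun w => ?_
      have := fm x (w + hf σ w v • y) (m1.1 i) (by simp [e, CharTwo.add_self_eq_zero])
      rw [show φ x = 0 from h2, hf_zero_l] at this
      simpa [h1] using li _ this.symm)
    fun x i x' j => by
      simp only [hf_add_l, hf_add_r, hf_smul_l, d.smr, d.iso, φv, d.sw (φv _), fm x x' (m1.1 i) (m1.1 j), lm (hf σ x x'), ← hβ]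
      field_simp; ring
  have ξv : ξ v = β • v := by
    have := (fv 1).1
    rw [one_smul] at this
    rw [hξ v (m1.2 (d.iso v)), e', this]; simp
  have hQ : ∀ g ∈ Q σ v, b g = ξ * g * ξ⁻¹ := fun g i => by
    obtain ⟨n, a, o, rfl⟩ := d.mem_Q.1 i
    rw [bE n a o, ψ0 n o, zero_add, E_cj s, ξv, hξ n (m1.2 o), d.E_sm (by simp [d.iso, φv]), smul_add, smul_inv_smul₀ β0, smul_smul,
      add_comm, d.E_shift (φv n), lm, hβ]
  refine ⟨θ, ξ, β, s, ξv, hQ, fun g i => d.cQ0 v0 (GU_le (SU_le (mul_mem (h.m g i).1 (inv_mem (s.su i.1)))))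
    (mem_centralizer_of_conj_eq fun p j => ?_)⟩
  have j' := conj_mem_of_mem_normalizer' (d.Y_nQ i) (conj_mem_of_mem_normalizer' (d.sem_nQ v0 s ξv) j)
  have := h.cj i (d.Q_Y j')
  rw [hQ _ j', hQ _ (conj_mem_of_mem_normalizer (d.Y_nQ i) j')] at this
  calc _ = b g * (ξ * (g⁻¹ * (ξ⁻¹ * p * ξ) * g) * ξ⁻¹) * (b g)⁻¹ := by group
    _ = _ := by rw [← this]; group
theorem a1 (f : MulAut (Y σ (bv 0 : Fin m → K))) : ∃ ξ ∈ Gam σ m, ξ ∈ 𝐍(Y σ (bv 0)) ∧
    (∀ g : Y σ (bv 0 : Fin m → K), g.1 ∈ Q σ (bv 0) → (f g : Perm (Fin m → K)) = ξ * g * ξ⁻¹) ∧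
    ∀ g, (f g : Perm (Fin m → K)) * (ξ * g * ξ⁻¹)⁻¹ ∈ Q σ (bv 0) := by
  obtain ⟨θ, ξ, β, s, e, h1, h2⟩ := d.a1' d.b0 (au_of f)
  exact ⟨ξ, ⟨θ, s⟩, d.sem_nY d.b0 s e, fun g i => by simpa [up_coe] using h1 g i, fun g => by simpa [up_coe] using h2 g g.2⟩
end Sd

end CF.Sq
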