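import Cfsg.Agent.Sq.V3
import Cfsg.Agent.Sq.T1

/-! The element moving `t` to `t z`. -/

set_option autoImplicit false
set_option linter.unusedSectionVars false
set_option linter.unusedVariables false

namespace CF.Sq

open Cfsg Subgroup Equiv CF.Loc CF.LX CF.Ud Module
open scoped commutatorElement

section gen
variable {P G : Type*} [Group P] [Group G] {S Y A : Subgroup P} {N : Subgroup G} {ρ : S →* G} {x y y' : G} {h : P}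

/-- pairs inducing the same action modulo `N` -/
def Am (u : P → G) (Y : Subgroup P) (N : Subgroup G) : Subgroup (G × P) where
  carrier := {p | p.2 ∈ 𝐍(Y) ∧ p.1 ∈ 𝐍(N) ∧ ∀ y ∈ Y, p.1 * u y * p.1⁻¹ * (u (p.2 * y * p.2⁻¹))⁻¹ ∈ N}
  one_mem' := ⟨one_mem _, one_mem _, fun y _ => by simp⟩
  mul_mem' := fun {p r} a b => ⟨mul_mem a.1 b.1, mul_mem a.2.1 b.2.1, fun y i => by
    simpa [mul_assoc] using mul_mem (conj_mem_of_mem_normalizer a.2.1 (b.2.2 y i)) (a.2.2 _ (conj_mem_of_mem_normalizer b.1 i))⟩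
  inv_mem' := fun {p} a => ⟨inv_mem a.1, inv_mem a.2.1, fun y i => by
    simpa [mul_assoc] using conj_mem_of_mem_normalizer' a.2.1 (inv_mem (a.2.2 _ (conj_mem_of_mem_normalizer' a.1 i)))⟩

theorem ac_up (l : Y ≤ S) (i : h ∈ S) (n : h ∈ 𝐍(Y)) (n' : up ρ h ∈ 𝐍(N)) : (up ρ h, h) ∈ Am (up ρ) Y N :=
  ⟨n, n', fun y j => by simp [up_cj i (l j)]⟩
theorem ac_one (i : (x, 1) ∈ Am (up ρ) Y N) (j : y ∈ im ρ Y) : ⁅x, y⁆ ∈ N := by
  obtain ⟨k, a, -, rfl⟩ := mem_im.1 j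
  simpa [commutatorElement_def] using i.2.2 k a
theorem im_nor [Finite G] (l : A ≤ S) (i : h ∈ S) (n : h ∈ 𝐍(A)) : up ρ h ∈ 𝐍(im ρ A) := mem_normalizer_of_conj_mem fun y j => by
  obtain ⟨k, a, b, rfl⟩ := mem_im.1 j
  rw [← up_cj i b]; exact up_im (conj_mem_of_mem_normalizer n a) (mul_mem (mul_mem i b) (inv_mem i))

/-- the elements conjugated into `N` -/
def prc (ρ : S →* G) (x : G) (N : Subgroup G) : Subgroup P where
  carrier := {k | k ∈ S ∧ x * up ρ k * x⁻¹ ∈ N}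
  one_mem' := ⟨one_mem _, by simp⟩
  mul_mem' := fun a b => ⟨mul_mem a.1 b.1, by simpa [up_mul a.1 b.1, mul_assoc] using mul_mem a.2 b.2⟩
  inv_mem' := fun a => ⟨inv_mem a.1, by simpa [up_inv a.1, mul_assoc] using inv_mem a.2⟩

theorem cm_mul (e : ⁅x, y'⁆ * y⁻¹ = y⁻¹ * ⁅x, y'⁆) : ⁅x, y * y'⁆ = ⁅x, y⁆ * ⁅x, y'⁆ := by
  calc ⁅x, y * y'⁆ = x * y * x⁻¹ * (⁅x, y'⁆ * y⁻¹) := by simp only [commutatorElement_def]; group
    _ = _ := by rw [e]; simp only [commutatorElement_def]; group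
end gen

variable {K : Type} [Field K] [Fintype K] [CharP K 2] {m : ℕ} {σ θ : K ≃+* K} {a b c : K}
  {ξ w : Perm (Fin m → K)} {u v : Fin m → K} {B H M : Subgroup (Perm (Fin m → K))}
  {G : Type*} [Group G] [Finite G] {ρ : SU σ m →* G} {t g : G}

theorem kq2 (e : ¬ 2 < Nat.card K) (c : K) : c = 0 ∨ c = 1 := by
  obtain ⟨y, y0, k⟩ := (Nat.card_eq_two_iff' (0 : K)).1 (le_antisymm (not_lt.1 e) Finite.one_lt_card)
  exact (em _).imp_right fun c0 => (k c c0).trans (k 1 one_ne_zero).symm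
theorem th1 (e : ¬ 2 < Nat.card K) : θ = 1 := RingEquiv.ext fun c => by rcases kq2 e c with rfl | rfl <;> simp

namespace Sd
variable (d : Sd σ m)
include d
theorem memZ : w ∈ Z σ v ↔ ∃ a, w = E σ v 0 a := (mem_Z d.iv (d.iso v)).trans (by simp [d.s1])
theorem semZ (s : Sem σ θ ξ) (e : ξ v = c • v) : ξ ∈ 𝐍(Z σ v) := mem_normalizer_of_conj_mem fun p j => by
  obtain ⟨a, rfl⟩ := d.memZ.1 j
  rw [tv_cj s, e, d.tv_sm]; exact tv_Z _ _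
end Sd

namespace F0
variable (d : Sd σ m) (f : F0 ρ t)
include d f

theorem nE (lB : B ≤ SU σ m) (wB : w ∈ B) (n : g ∈ 𝐍(im ρ B)) (e : g * t * g⁻¹ = t * up ρ w) : g ∈ 𝐍(zpowers t ⊔ im ρ B) :=
  mem_normalizer_of_conj_mem fun x j => by
    have k : ∀ p ∈ B, g * up ρ p * g⁻¹ ∈ zpowers t ⊔ im ρ B := fun p c => mem_sup_right (conj_mem_of_mem_normalizer n (up_im c (lB c)))
    obtain ⟨p, c, rfl | rfl⟩ := (f.memA lB).1 j
    exacts [k p c, conj_mul_conj (G := G) .. ▸ mul_mem (e ▸ (f.memA lB).2 ⟨w, wB, .inr rfl⟩) (k p c)]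

/-- normalising the centraliser of a subgroup of `L` -/
theorem nrm (lB : B ≤ SU σ m) (lH : H ≤ SU σ m) (hH : ∀ k ∈ SU σ m, k ∈ H ↔ k ∈ 𝐂(B))
    (gen : ∀ M : Subgroup _, (∀ k ∈ H, k * k = 1 → k ∈ M) → H ≤ M) (n : g ∈ 𝐍(zpowers t ⊔ im ρ B)) :
    (H ≤ ⁅H, H⁆ → g ∈ 𝐍(im ρ H)) ∧ (¬ 2 < Nat.card K → ∀ h ∈ H, g * up ρ h * g⁻¹ ∈ zpowers t ⊔ im ρ H) := by
  have tC : 𝐂(zpowers t ⊔ im ρ B) ≤ 𝐂₁(t) := centralizer_zpowers t ▸ centralizer_anti le_sup_left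
  have l : im ρ H ≤ 𝐂(zpowers t ⊔ im ρ B) := fun y i => by
    obtain ⟨k, a, b, rfl⟩ := mem_im.1 i
    refine mem_centralizer_iff'.2 fun x j => ?_
    obtain ⟨p, c, e⟩ := (f.memA lB).1 j
    have : up ρ p * up ρ k = up ρ k * up ρ p := by
      rw [← up_mul (lB c) b, mem_centralizer_iff'.1 ((hH k b).1 a) p c, up_mul b (lB c)]
    rcases e with rfl | rfl
    exacts [this, by rw [mul_assoc, this, ← mul_assoc, ← f.tc, mul_assoc]]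
  have nC := normalizer_le_normalizer_centralizer _ n
  have bk : ∀ k ∈ SU σ m, up ρ k ∈ 𝐂(zpowers t ⊔ im ρ B) → k ∈ H := fun k i j => (hH k i).2 (mem_centralizer_iff'.2 fun p c =>
    d.up_inj f.ker (mul_mem (lB c) i) (mul_mem i (lB c)) (by
      rw [up_mul (lB c) i, up_mul i (lB c)]; exact mem_centralizer_iff'.1 j _ (mem_sup_right (up_im c (lB c)))))
  have sq : ∀ k ∈ H, k * k = 1 → E2 (g * up ρ k * g⁻¹) := fun k i e => ((e2_inv e).up (lH i)).cj g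
  refine ⟨fun p => mem_normalizer_of_conj_mem fun y j => ?_, fun q h i => (gen (prc ρ g _) (fun k i e => ⟨lH i, ?_⟩) i).2⟩
  · obtain ⟨h, i, -, rfl⟩ := mem_im.1 j
    refine (gen (prc ρ g _) (fun k i e => ⟨lH i, ?_⟩) i).2
    have a := conj_mem_of_mem_normalizer (le_normalizer_commutator le_rfl le_rfl nC)
      (commutator_mono l l (Ud.Sx.im_comm (φ := ρ) lH lH ▸ up_im (p i) (lH i)))
    obtain ⟨r, b, e'⟩ := mem_range_up.1 (f.der2 d (commutator_mono tC tC a) (sq k i e))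
    exact e' ▸ up_im (bk r b (e' ▸ commutator_le_self _ a)) b
  · have a := conj_mem_of_mem_normalizer nC (l (up_im i (lH i)))
    have := f.q2 d (le_antisymm (not_lt.1 q) Finite.one_lt_card) (tC a) (sq k i e)
    rw [MonoidHom.range_eq_map, ← subgroupOf_self] at this
    obtain ⟨r, b, e'⟩ := (f.memA le_rfl).1 this
    refine (f.memA lH).2 ⟨r, bk r b ?_, e'⟩
    rcases e' with e' | e'
    · exact e' ▸ a
    · refine (mul_mem_cancel_left (mem_centralizer_iff'.2 fun x j => ?_)).1 (e' ▸ a)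
      obtain ⟨p, -, rfl | rfl⟩ := (f.memA lB).1 j
      exacts [f.tc p, by rw [mul_assoc, f.tc]]

/-- the commutator trick -/
theorem trick {S : Subgroup (G × Perm (Fin m → K))} (lB : B ≤ SU σ m) (hS : ∀ h ∈ SU σ m ⊓ M, (up ρ h, h) ∈ S) (hM : M ≤ 𝐍(B))
    (n : g ∈ 𝐍(im ρ B)) (w1 : w ≠ 1) (wB : w ∈ B) (e : g * t * g⁻¹ = t * up ρ w) (i : (g, ξ) ∈ S) (s : Sem σ θ ξ) (j : ξ ∈ M)
    (tr : ∀ z ∈ B, z ≠ 1 → ∃ h ∈ SU σ m ⊓ M, h * z * h⁻¹ = w)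
    (fr : 2 < Nat.card K → ∃ h ∈ SU σ m ⊓ M, ∀ z ∈ B, h * z * h⁻¹ = z → z = 1) :
    ∃ x, (x, 1) ∈ S ∧ x * t * x⁻¹ = t * up ρ w := by
  have tc : ∀ h, up ρ h * t * (up ρ h)⁻¹ = t := fun h => conj_eq_iff.2 (f.tc h)
  obtain ⟨x, z, a, b, z1, k⟩ : ∃ x z, (x, 1) ∈ S ∧ z ∈ B ∧ z ≠ 1 ∧ x * t * x⁻¹ = t * up ρ z := by
    by_cases q : 2 < Nat.card K
    · obtain ⟨h, l, o⟩ := fr q
      obtain ⟨w', a, -, a'⟩ := mem_im.1 (conj_mem_of_mem_normalizer' n (up_im wB (lB wB)))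
      have c := B.mul_mem a (B.inv_mem (conj_mem_of_mem_normalizer (hM l.2) a))
      obtain ⟨z, b, -, b'⟩ := mem_im.1 (conj_mem_of_mem_normalizer n (up_im c (lB c)))
      have l' : ξ * h * ξ⁻¹ ∈ SU σ m ⊓ M := ⟨s.su l.1, M.mul_mem (M.mul_mem j l.2) (M.inv_mem j)⟩
      refine ⟨g * up ρ h * g⁻¹ * (up ρ (ξ * h * ξ⁻¹))⁻¹, z, ?_, b, fun z1 => w1 ?_, ?_⟩
      · simpa using mul_mem (mul_mem (mul_mem i (hS h l)) (inv_mem i)) (inv_mem (hS _ l'))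
      · rw [z1, up_one, eq_comm, conj_eq_one_iff, ← up_one (φ := ρ)] at b'
        rw [o w' a (mul_inv_eq_one.1 (d.up_inj f.ker (lB c) (one_mem _) b')).symm, up_one] at a'
        refine d.up_inj f.ker (lB wB) (one_mem _) ?_
        rw [up_one, ← conj_eq_one_iff (a := g⁻¹), inv_inv, a']
      · have t' : g⁻¹ * t * g = t * (up ρ w')⁻¹ := by
          rw [a', eq_mul_inv_iff_mul_eq, show g⁻¹ * t * g * (g⁻¹ * up ρ w * g) = g⁻¹ * (t * up ρ w) * g by group, ← e]; group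
        have := tc (ξ * h * ξ⁻¹)⁻¹
        rw [up_inv l'.1] at this
        calc _ = g * up ρ h * (g⁻¹ * ((up ρ (ξ * h * ξ⁻¹))⁻¹ * t * (up ρ (ξ * h * ξ⁻¹))⁻¹⁻¹) * g) * (up ρ h)⁻¹ * g⁻¹ := by group
          _ = g * (up ρ h * t * (up ρ h)⁻¹) * g⁻¹ * (g * (up ρ h * up ρ w' * (up ρ h)⁻¹)⁻¹ * g⁻¹) := by rw [this, t']; group
          _ = _ := by
            rw [tc, e, b', up_mul (lB a) (inv_mem (lB (conj_mem_of_mem_normalizer (hM l.2) a))), a',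
              up_inv (lB (conj_mem_of_mem_normalizer (hM l.2) a)), up_cj l.1 (lB a), a']; group
    · obtain rfl : θ = 1 := th1 q
      have l := inv_mem (d.su_iff.2 s)
      refine ⟨up ρ ξ⁻¹ * g, ξ⁻¹ * w * ξ⁻¹⁻¹, by simpa using mul_mem (hS _ ⟨l, M.inv_mem j⟩) i,
        conj_mem_of_mem_normalizer (hM (inv_mem j)) wB, fun z => w1 (conj_eq_one_iff.1 z), ?_⟩
      rw [up_cj l (lB wB), ← tc ξ⁻¹, ← conj_mul_conj, ← e, tc]; group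
  obtain ⟨h, l, rfl⟩ := tr z b z1
  refine ⟨up ρ h * x * (up ρ h)⁻¹, by simpa using mul_mem (mul_mem (hS h l) a) (inv_mem (hS h l)), ?_⟩
  have := tc h⁻¹
  rw [up_inv l.1] at this
  calc _ = up ρ h * (x * ((up ρ h)⁻¹ * t * (up ρ h)⁻¹⁻¹) * x⁻¹) * (up ρ h)⁻¹ := by group
    _ = up ρ h * t * (up ρ h)⁻¹ * (up ρ h * up ρ z * (up ρ h)⁻¹) := by rw [this, k]; group
    _ = _ := by rw [up_cj l.1 (lB b), tc]
end F0

theorem F0.exv (d : Sx σ m) (f : F0 ρ t) (v0 : v ≠ 0) (n : g ∈ 𝐍(im ρ (Z σ v))) (e : g * t * g⁻¹ = t * tv ρ v 1) :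
    ∃ x, x * t * x⁻¹ = t * tv ρ v 1 ∧ x ∈ 𝐂(im ρ (Q σ v)) ∧ ∀ y ∈ im ρ (Y σ v), ⁅x, y⁆ ∈ im ρ (Q σ v) := by
  have x := d.ex
  replace d := d.toSd
  have lZ : Z σ v ≤ SU σ m := fun w i => let ⟨_, e⟩ := d.memZ.1 i; e ▸ tv_SU _ _
  have lY : Y σ v ≤ SU σ m := fun _ i => i.1
  have nY := (f.nrm d lZ lY (fun k i => ⟨fun j => mem_centralizer_iff'.2 fun p o => let ⟨a, e⟩ := d.memZ.1 o
    e ▸ (mem_centralizer_iff'.1 (d.tv_cY a) k j).symm, fun j => ⟨i, d.tv_fix (su_sem i) (mem_centralizer_iff'.1 j _ (tv_Z _ _)).symm⟩⟩)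
    (fun M l => d.Y_gen v0 fun w o => l _ (d.tv_Y o 1) (d.E_sq _ _ _)) (f.nE d lZ (tv_Z _ _) n e)).1 (d.Y_perf x v0)
  obtain ⟨b, b', h, k⟩ := au_ex (d.inj f.ker) lY nY
  obtain ⟨θ, ξ, β, s, o, h1, h2⟩ := d.a1' v0 h
  have M : ∀ {θ ξ} {c : K}, Sem σ θ ξ → ξ v = c • v → ξ ∈ 𝐍(Y σ v) ⊓ 𝐍(Q σ v) ⊓ 𝐍(Z σ v) := fun s e =>
    ⟨⟨d.sem_nY v0 s e, d.sem_nQ v0 s e⟩, d.semZ s e⟩
  have W : ∀ c : K, c ≠ 0 → ∃ h ∈ SU σ m ⊓ (𝐍(Y σ v) ⊓ 𝐍(Q σ v) ⊓ 𝐍(Z σ v)), ∀ a, h * E σ v 0 a * h⁻¹ = E σ v 0 (c * c * a) := fun c c0 =>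
    let ⟨h, i, e⟩ := d.wit1 v0 (smul_ne_zero c0 v0)
    ⟨h, ⟨i, M (su_sem i) e⟩, fun a => by rw [tv_cj1 (su_sem i), e, d.tv_sm]⟩
  have t0 : ∀ a, E σ v 0 a = 1 → a = 0 := fun a e => ((d.E_inj v0 (hf_zero_l _) (hf_zero_l _)).1 (e.trans (E_zero v).symm)).1
  obtain ⟨x, ⟨i, j⟩, r⟩ := f.trick d (S := Am (up ρ) (Y σ v) (im ρ (Q σ v)) ⊓ Am (up ρ) (Q σ v) ⊥) (ξ := ξ)
    (M := 𝐍(Y σ v) ⊓ 𝐍(Q σ v) ⊓ 𝐍(Z σ v)) lZ
    (fun h i => ⟨ac_up lY i.1 i.2.1.1 (im_nor d.Q_SU i.1 i.2.1.2), ac_up d.Q_SU i.1 i.2.1.2 (by simp)⟩) inf_le_right n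
    (fun e => one_ne_zero (t0 1 e)) (tv_Z _ _) e ⟨⟨(M s o).1.1, mem_normalizer_of_conj_mem fun y j => by
      obtain ⟨p, a, c, rfl⟩ := mem_im.1 j
      rw [k p (d.Q_Y a), h1 p a]; exact up_im (conj_mem_of_mem_normalizer (M s o).1.2 a) (s.su c), fun y j => by
      rw [k y j, ← up_inv (s.su j.1), ← up_mul (h.m y j).1 (inv_mem (s.su j.1))]; exact up_im (h2 y j) (d.Q_SU (h2 y j))⟩,
      (M s o).1.2, by simp, fun y j => by simp [k y (d.Q_Y j), h1 y j]⟩ s (M s o) (fun z i z1 => by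
      obtain ⟨a, rfl⟩ := d.memZ.1 i
      obtain ⟨c, e⟩ := exists_rt a⁻¹
      have a0 : a ≠ 0 := fun z => z1 (by rw [z, E_zero])
      obtain ⟨h, l, o⟩ := W c fun z => inv_ne_zero a0 (by rw [← e, z, zero_mul])
      exact ⟨h, l, by rw [o, e, inv_mul_cancel₀ a0]⟩) fun q => by
      obtain ⟨c, c0, c1⟩ := ex_c q
      obtain ⟨h, l, o⟩ := W c c0
      refine ⟨h, l, fun z i e => ?_⟩
      obtain ⟨a, rfl⟩ := d.memZ.1 i
      have := ((d.E_inj v0 (hf_zero_l _) (hf_zero_l _)).1 ((o a).symm.trans e)).1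
      rw [show a = 0 by grind, E_zero]
  exact ⟨x, r, mem_centralizer_iff'.2 fun y o => (commutatorElement_eq_one_iff_mul_comm.1 (ac_one j o)).symm, fun y => ac_one i⟩
theorem F0.exx' (d : Sx σ m) (f : F0 ρ t) (n : g ∈ 𝐍(im ρ (Z σ (bv 0)))) (e : g * t * g⁻¹ = t * tv ρ (bv 0) 1) : ∃ x, Xz ρ t x :=
  (f.exv d d.toSd.pr01.u0 n e).imp fun _ h => ⟨h.1, h.2.1, h.2.2⟩

end CF.Sq
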